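import Cfsg.Agent.Lib.Spor.SuzRecog.L34Model

/-! The kernel-evaluated checks for the configurations in `PSL(3,4)`. -/

set_option autoImplicit false
set_option maxRecDepth 100000

namespace CfsgLib.Spor.SuzRecog.L34

theorem invChk_true : invChk = true := by decide +kernel

theorem rChk_true : rChk = true := by decide +kernel

theorem tChk_true : tChk = true := by decide +kernel

theorem cfgChk_true : cfgChk = true := by decide +kernel

end CfsgLib.Spor.SuzRecog.L34
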