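import Cfsg.Agent.Lib.Spor.SuzRecog.Interface
import Cfsg.Agent.Lib.Spor.SuzRecog.L34Comp

/-!
In `PSL(3,4)` a configuration of an involution, a dihedral pair, a further involution and an
inverted element of order five generates, and either the further involution is superfluous or a
variant satisfies the relations.
-/

set_option autoImplicit false

namespace CfsgLib.Spor.SuzRecog.L34

open Matrix CfsgLib.Spor

theorem any_all {n : ℕ} {P : ℕ → Bool} (h : (List.range n).all P = true) {i : ℕ}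
    (hi : i < n) : P i = true :=
  List.all_eq_true.1 h i (List.mem_range.2 hi)

theorem imp {a b : Bool} (h : (!a || b) = true) (ha : a = true) : b = true := by simpa [ha] using h

theorem and_intro {a b : Bool} (ha : a = true) (hb : b = true) : (a && b) = true := by simp [ha, hb]

theorem not_intro {a : Bool} (ha : a = false) : (!a) = true := by simp [ha]

theorem getD_mem {α : Type*} (l : List α) (d : α) (n : ℕ) : l.getD n d ∈ d :: l := by
  rcases lt_or_ge n l.length with h | h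
  · rw [List.getD_eq_getElem _ _ h]
    exact List.mem_cons_of_mem _ (List.getElem_mem h)
  · rw [List.getD_eq_default _ _ h]
    exact List.mem_cons_self

/-- an involution of the special linear group with a scalar square -/
theorem exists_involution {L : Type*} [Group L] {φ : L ≃* PP} {x : L} (hx : x * x = 1) (hne : x ≠ 1) :
    ∃ v u : ℕ, v < 64 ∧ u < 64 ∧ invOK v u = true ∧ Rep φ x (invM v u) := by
  obtain ⟨M, hM⟩ := mk_surjective (φ x)
  have h1 : mk 1 = mk (M * M) := by rw [map_mul, hM, ← map_mul φ, hx, map_one φ, map_one]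
  obtain ⟨r, hr, e⟩ := (mk_eq_iff _ _).1 h1
  have e' : M.1 * M.1 = r • (1 : Matrix (Fin 3) (Fin 3) QField) := e
  let T : S := ⟨r • M.1, by rw [Matrix.det_smul, M.2, Fintype.card_fin, qcube r hr, mul_one]⟩
  have hT : mk T = φ x := by
    rw [← hM]
    exact ((mk_eq_iff M T).2 ⟨r, hr, rfl⟩).symm
  set N : Matrix (Fin 3) (Fin 3) QField := T.1 + 1 with hN
  have h2 : ∀ A : Matrix (Fin 3) (Fin 3) QField, A + A = 0 := fun A => Matrix.ext fun i j => qtwo _
  have hTT : T.1 * T.1 = 1 := by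
    show (r • M.1) * (r • M.1) = 1
    rw [Matrix.smul_mul, Matrix.mul_smul, e', smul_smul, smul_smul,
      show r * r * r = r ^ 3 by ring, qcube r hr, one_smul]
  have hNN : N * N = 0 := by
    rw [hN, mul_add, add_mul, hTT, one_mul, mul_one, add_comm T.1 1, h2]
  have hTeq : T.1 = 1 + N := by rw [hN, add_left_comm, h2, add_zero]
  have hN0 : N ≠ 0 := by
    intro h0
    refine hne (φ.injective ?_)
    rw [map_one, ← hT]
    have : T = 1 := Subtype.ext (by rw [hTeq, h0, add_zero]; rfl)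
    rw [this, map_one]
  -- rank one
  let f := Matrix.toLin' N
  have hle : LinearMap.range f ≤ LinearMap.ker f := by
    rintro _ ⟨w, rfl⟩
    rw [LinearMap.mem_ker]
    show Matrix.toLin' N (Matrix.toLin' N w) = 0
    rw [← LinearMap.comp_apply, ← Matrix.toLin'_mul, hNN, map_zero, LinearMap.zero_apply]
  have hdim := LinearMap.finrank_range_add_finrank_ker f
  have hmono := Submodule.finrank_mono hle
  rw [Module.finrank_fin_fun] at hdim
  have h1' : Module.finrank QField (LinearMap.range f) ≤ 1 := by omega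
  obtain ⟨⟨a, ha⟩, hgen⟩ := finrank_le_one_iff.1 h1'
  have hcol : ∀ j, ∃ c : QField, ∀ i, N i j = c * a i := by
    intro j
    obtain ⟨c, hc⟩ := hgen ⟨f (Pi.single j 1), ⟨_, rfl⟩⟩
    refine ⟨c, fun i => ?_⟩
    have := congrArg (fun w : LinearMap.range f => (w : Fin 3 → QField) i) hc
    simpa [f, Matrix.toLin'_apply, Matrix.mulVec_single] using this.symm
  choose c hc using hcol
  have ha0 : a ≠ 0 := by
    intro h0
    exact hN0 (Matrix.ext fun i j => by rw [hc j i, h0]; simp)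
  have hfin : ∀ a0 a1 a2 : QField, (a0 = 0 ∧ a1 = 0 ∧ a2 = 0) ∨ ∃ v < 64, normV v = true ∧
      ∃ l : QField, a0 = l * q4 v ∧ a1 = l * q4 (v / 4) ∧ a2 = l * q4 (v / 16) := by decide +kernel
  rcases hfin (a 0) (a 1) (a 2) with ⟨e0, e1, e2⟩ | ⟨v, hv, hnv, l, e0, e1, e2⟩
  · exact absurd (funext fun i => by fin_cases i <;> assumption) ha0
  obtain ⟨u0, hu0, f0⟩ := q4_surjective (c 0 * l)
  obtain ⟨u1, hu1, f1⟩ := q4_surjective (c 1 * l)
  obtain ⟨u2, hu2, f2⟩ := q4_surjective (c 2 * l)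
  set u := u0 + 4 * u1 + 16 * u2 with hu
  have g0 : q4 u = c 0 * l := by rw [← f0, q4_eq_iff]; omega
  have g1 : q4 (u / 4) = c 1 * l := by rw [← f1, q4_eq_iff]; omega
  have g2 : q4 (u / 16) = c 2 * l := by rw [← f2, q4_eq_iff]; omega
  have hNe : N = !![q4 v * q4 u, q4 v * q4 (u / 4), q4 v * q4 (u / 16);
      q4 (v / 4) * q4 u, q4 (v / 4) * q4 (u / 4), q4 (v / 4) * q4 (u / 16);
      q4 (v / 16) * q4 u, q4 (v / 16) * q4 (u / 4), q4 (v / 16) * q4 (u / 16)] := by
    ext i j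
    rw [hc j i]
    fin_cases i <;> fin_cases j <;> simp [g0, g1, g2, e0, e1, e2] <;> ring
  have hdec : dec (invM v u) = T.1 := by
    rw [hTeq, hNe, invM, dec_pack]
    simp only [q4_add, q4_mul]
    ext i j
    fin_cases i <;> fin_cases j <;> simp [show q4 1 = 1 from rfl]
  have hune : 1 ≤ u := by
    by_contra hlt
    have hu' : u = 0 := by omega
    refine hN0 ?_
    rw [hNe, hu']
    ext i j
    fin_cases i <;> fin_cases j <;> simp [show q4 0 = 0 from rfl]
  have hdot : q4 (dotV v u) = 0 := by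
    set d := q4 v * q4 u + q4 (v / 4) * q4 (u / 4) + q4 (v / 16) * q4 (u / 16) with hd
    have hsq : N * N = d • N := by
      rw [hNe]
      ext i j
      rw [Matrix.mul_apply, Fin.sum_univ_three]
      fin_cases i <;> fin_cases j <;> simp [hd] <;> ring
    rw [hNN] at hsq
    have : d = 0 := (smul_eq_zero.1 hsq.symm).resolve_right hN0
    rw [dotV, dot3, q4_add, q4_add, q4_mul, q4_mul, q4_mul]
    exact this
  refine ⟨v, u, hv, by omega, ?_, ⟨T, hT, hdec.symm⟩⟩
  simp only [invOK, hnv, Bool.true_and, Bool.and_eq_true, Nat.ble_eq, Nat.beq_eq]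
  refine ⟨hune, ?_⟩
  simpa using q4_eq_iff.1 (hdot.trans (show (0 : QField) = q4 0 from rfl))

theorem rep_of_code {L : Type*} [Group L] (φ : L ≃* PP) {n : ℕ} (h : detM n % 4 = 1) :
    ∃ y : L, Rep φ y n := by
  have hd : (dec n).det = 1 := by
    rw [← q4_detM, q4_eq_iff.2 (show detM n % 4 = 1 % 4 by omega)]; rfl
  exact ⟨φ.symm (mk ⟨dec n, hd⟩), ⟨⟨dec n, hd⟩, (φ.apply_symm_apply _).symm, rfl⟩⟩

theorem uM_det : ∀ i < 64, detM (uM i) % 4 = 1 := by decide +kernel

/-- the standard involution -/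
def z0 : PP := mk ⟨dec zM, by decide +kernel⟩

theorem rep_z0 {L : Type*} [Group L] {φ : L ≃* PP} {z : L} (hz : φ z = z0) : Rep φ z zM :=
  ⟨⟨dec zM, by decide +kernel⟩, hz.symm, rfl⟩

/-- some isomorphism takes an involution to the standard one -/
theorem exists_normal {L : Type*} [Group L] (φ : L ≃* PP) {z : L} (hz : z * z = 1) (hne : z ≠ 1) :
    ∃ ψ : L ≃* PP, ψ z = z0 := by
  obtain ⟨v, u, hv, hu, hok, hrep⟩ := exists_involution (φ := φ) hz hne
  have h := any_all (any_all invChk_true hv) hu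
  rw [Bool.or_eq_true, List.any_eq_true] at h
  rcases h with h | ⟨⟨k, P⟩, -, h⟩
  · rw [hok] at h; exact Bool.noConfusion h
  simp only [Bool.and_eq_true, Nat.beq_eq] at h
  obtain ⟨-, heq, hdet⟩ := h
  obtain ⟨p, hp⟩ := rep_of_code φ (n := P) (by omega)
  obtain ⟨w, hw⟩ : ∃ w : L, φ w = z0 := ⟨φ.symm z0, φ.apply_symm_apply _⟩
  have key : p * w = z * p := by
    refine ((Rep.pe_iff (hp.mul (rep_z0 hw)) (hrep.mul hp)).1 ?_)
    simp [pe, heq]
  refine ⟨(MulAut.conj p⁻¹).trans φ, ?_⟩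
  rw [MulEquiv.trans_apply, MulAut.conj_apply, inv_inv, mul_assoc, ← key, inv_mul_cancel_left, hw]

/-- the centraliser of the standard involution is unitriangular -/
theorem exists_uM {L : Type*} [Group L] {φ : L ≃* PP} {z x : L} (hz : φ z = z0) (hx : z * x = x * z) :
    ∃ i < 64, Rep φ x (uM i) := by
  obtain ⟨M, hM⟩ := mk_surjective (φ x)
  let Z : S := ⟨dec zM, by decide +kernel⟩
  have hZ : mk Z = φ z := hz.symm
  have h1 : mk (Z * M) = mk (M * Z) := by rw [map_mul, map_mul, hZ, hM, ← map_mul, ← map_mul, hx]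
  obtain ⟨r, hr, e⟩ := (mk_eq_iff _ _).1 h1
  have e' : M.1 * dec zM = r • (dec zM * M.1) := e
  have hzz : dec zM * dec zM = 1 := by decide +kernel
  have hr1 : r = 1 := by
    have e2 : M.1 = (r * r) • M.1 := by
      calc M.1 = M.1 * dec zM * dec zM := by rw [mul_assoc, hzz, mul_one]
        _ = r • (dec zM * (M.1 * dec zM)) := by
          conv_lhs => rw [e']
          rw [Matrix.smul_mul, mul_assoc]
        _ = (r * r) • M.1 := by rw [e', Matrix.mul_smul, ← mul_assoc, hzz, one_mul, smul_smul]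
    apply qsqrt_one
    have hne : M.1 ≠ 0 := fun h0 => by simpa [h0] using M.2
    exact smul_left_injective QField hne (show (r * r) • M.1 = (1 : QField) • M.1 by
      rw [one_smul]; exact e2.symm)
  rw [hr1, one_smul] at e'
  have hzdec : dec zM = !![1, 0, 1; 0, 1, 0; 0, 0, 1] := by decide +kernel
  rw [hzdec] at e'
  have en := fun i j => congrFun (congrFun e' i) j
  have a10 : M.1 1 0 = 0 := by
    simpa [Matrix.mul_apply, Fin.sum_univ_three] using en 1 2
  have a21 : M.1 2 1 = 0 := by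
    simpa [Matrix.mul_apply, Fin.sum_univ_three] using (en 0 1).symm
  have a20 : M.1 2 0 = 0 := by
    simpa [Matrix.mul_apply, Fin.sum_univ_three] using (en 0 0).symm
  have a22 : M.1 2 2 = M.1 0 0 := by
    have := en 0 2
    simp [Matrix.mul_apply, Fin.sum_univ_three] at this
    linear_combination this.symm
  have hdet : M.1 0 0 * M.1 1 1 * M.1 0 0 = 1 := by
    have := M.2
    rw [Matrix.det_fin_three, a10, a20, a21, a22] at this
    linear_combination this
  set a := M.1 0 0 with ha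
  have ha0 : a ≠ 0 := left_ne_zero_of_mul (left_ne_zero_of_mul_eq_one hdet)
  have h3 := qcube a ha0
  have a11 : M.1 1 1 = a := by linear_combination a * hdet - M.1 1 1 * h3
  obtain ⟨x0, hx0, f0⟩ := q4_surjective (a ^ 2 * M.1 0 1)
  obtain ⟨y0, hy0, f1⟩ := q4_surjective (a ^ 2 * M.1 1 2)
  obtain ⟨w0, hw0, f2⟩ := q4_surjective (a ^ 2 * M.1 0 2)
  set i := x0 + 4 * y0 + 16 * w0 with hi
  have g0 : q4 i = a ^ 2 * M.1 0 1 := by rw [← f0, q4_eq_iff]; omega
  have g1 : q4 (i / 4) = a ^ 2 * M.1 1 2 := by rw [← f1, q4_eq_iff]; omega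
  have g2 : q4 (i / 16) = a ^ 2 * M.1 0 2 := by rw [← f2, q4_eq_iff]; omega
  have ha2 : a ^ 2 ≠ 0 := pow_ne_zero 2 ha0
  refine ⟨i, by omega, ⟨⟨(a ^ 2) • M.1, by
    rw [Matrix.det_smul, M.2, Fintype.card_fin, qcube _ ha2, mul_one]⟩, ?_, ?_⟩⟩
  · rw [← hM]
    exact ((mk_eq_iff _ _).2 ⟨a ^ 2, ha2, rfl⟩).symm
  · show a ^ 2 • M.1 = dec (uM i)
    rw [uM, dec_pack]
    ext p q
    fin_cases p <;> fin_cases q <;>
      simp [a10, a20, a21, a22, a11, ← ha, g0, g1, g2, show q4 0 = 0 from rfl,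
        show q4 1 = 1 from rfl] <;> linear_combination h3

theorem uM_comm : ∀ i < 64, pe (mulM (uM i) zM) (mulM zM (uM i)) = true := by decide +kernel

theorem reps_det : ∀ k < 2, detM (rReps.getD k oneM) % 4 = 1 := by decide +kernel

theorem tv_code : ∀ i j : Fin 3, i ≠ j → ∀ c : Fin 4,
    dec (oneM + c.val * 4 ^ (3 * i.val + j.val)) = Matrix.transvection i j (⟨c⟩ : QField) := by
  decide +kernel

/-- two standard generators suffice -/
theorem closure_top {L : Type*} [Group L] {φ : L ≃* PP} {H : Subgroup L}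
    (hX : ∃ y ∈ H, Rep φ y (xyGens.getD 0 oneM)) (hY : ∃ y ∈ H, Rep φ y (xyGens.getD 1 oneM)) :
    H = ⊤ := by
  have hgs : ∀ m ∈ xyGens, ∃ y ∈ H, Rep φ y m := by
    intro m hm
    simp only [xyGens, List.mem_cons, List.not_mem_nil, or_false] at hm
    rcases hm with rfl | rfl
    · exact hX
    · exact hY
  let K : Subgroup S := H.comap (φ.symm.toMonoidHom.comp mk)
  have hK : K = ⊤ := by
    refine CfsgLib.Classical.eq_top_of_transvection_mem K fun i j hij c => ?_
    by_cases hc : c.val.val = 0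
    · have : c = 0 := congrArg QField.mk (Fin.ext hc)
      subst this
      rw [show (Matrix.SpecialLinearGroup.transvection hij (0 : QField)) = 1 from
        Subtype.ext (by rw [Matrix.SpecialLinearGroup.transvection_coe]; simp)]
      exact K.one_mem
    · have h0 := any_all (any_all tChk_true i.isLt) j.isLt
      rw [Bool.or_eq_true, Nat.beq_eq] at h0
      have h := any_all (h0.resolve_left (Fin.val_ne_of_ne hij)) c.val.isLt
      simp only [Bool.or_eq_true, Nat.beq_eq, List.any_eq_true, Bool.and_eq_true] at h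
      obtain ⟨⟨k, w⟩, -, -, hpe⟩ := h.resolve_left hc
      obtain ⟨y, hy, ry⟩ := exists_rep_evW hgs w
      have rt : Rep φ (φ.symm (mk (Matrix.SpecialLinearGroup.transvection hij c)))
          (oneM + c.val.val * 4 ^ (3 * i.val + j.val)) :=
        ⟨_, (φ.apply_symm_apply _).symm, by
          rw [Matrix.SpecialLinearGroup.transvection_coe, tv_code i j hij c.val]; rfl⟩
      show φ.symm (mk _) ∈ H
      rw [← (Rep.pe_iff ry rt).1 hpe]
      exact hy
  rw [eq_top_iff]
  intro x _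
  obtain ⟨M, hM⟩ := mk_surjective (φ x)
  have : M ∈ K := hK ▸ Subgroup.mem_top M
  simpa [K, hM] using this

/-- a configuration with standard `z` and `r` -/
theorem core {L : Type*} [Group L] {φ : L ≃* PP} {z f g c r : L} (h : LConf z f g c r)
    (hz : φ z = z0) {k : ℕ} (hk : k < 2) (hr : Rep φ r (rReps.getD k oneM)) :
    Subgroup.closure {z, r, f, g, c} = ⊤ ∧
    (c ∈ Subgroup.closure {z, r, f, g} ∨
      ∃ b f' g' c' : L, b ∈ Subgroup.closure {z, r} ∧ f' ∈ Subgroup.closure {z, f, g} ∧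
        g' ∈ Subgroup.closure {z, f, g} ∧ (c' = c ∨ c' = c * z) ∧ b * b = 1 ∧ f' * f' = 1 ∧
        g' * g' = 1 ∧ (f' * g') ^ 2 = z ∧ (z * b) ^ 5 = 1 ∧ (b * c') ^ 3 = 1 ∧
        (b * f') ^ 3 = 1 ∧ (b * g') ^ 3 = 1 ∧ (z * b * c' * f') ^ 5 = 1 ∧
        (b * f' * g') ^ 5 = 1) := by
  have rz := rep_z0 hz
  obtain ⟨i, hi, rf⟩ := exists_uM hz h.zf
  obtain ⟨j, hj, rg⟩ := exists_uM hz h.zg
  obtain ⟨l, hl, rc⟩ := exists_uM hz h.zc
  have pf : ∀ {x y : L} {m n : ℕ}, Rep φ x m → Rep φ y n → ¬ x = y → pe m n = false :=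
    fun hx hy hne => Bool.eq_false_iff.2 fun e => hne ((Rep.pe_iff hx hy).1 e)
  have t := imp (any_all cfgChk_true hi)
    ((Rep.pe_iff (rf.mul rf) Rep.one).2 h.f_sq)
  have t := imp (any_all t hj) (and_intro ((Rep.pe_iff (rg.mul rg) Rep.one).2 h.g_sq)
    ((Rep.pe_iff ((rf.mul rg).pow 2) rz).2 h.fg))
  have t := imp (any_all t hl) (and_intro (and_intro (and_intro (and_intro
    ((Rep.pe_iff (rc.mul rc) Rep.one).2 h.c_sq) (not_intro (pf rc Rep.one h.c_ne)))
    (not_intro (pf rc rz h.c_ne_z))) ((Rep.pe_iff (rf.mul rc) (rc.mul rf)).2 h.fc))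
    ((Rep.pe_iff (rg.mul rc) (rc.mul rg)).2 h.gc))
  have t := List.any_eq_true.1 (any_all t hk)
  obtain ⟨e, -, t⟩ := t
  simp only [cfgOK, Bool.and_eq_true] at t
  obtain ⟨-, ⟨tx, ty⟩, tv⟩ := t
  have mem : ∀ {s : Set L} {x : L}, x ∈ s → x ∈ Subgroup.closure s := fun hx => Subgroup.subset_closure hx
  have h5 : ∀ m ∈ [zM, rReps.getD k oneM, uM i, uM j, uM l],
      ∃ y ∈ Subgroup.closure ({z, r, f, g, c} : Set L), Rep φ y m := by
    intro m hm
    simp only [List.mem_cons, List.not_mem_nil, or_false] at hm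
    rcases hm with rfl | rfl | rfl | rfl | rfl
    exacts [⟨z, mem (by simp), rz⟩, ⟨r, mem (by simp), hr⟩, ⟨f, mem (by simp), rf⟩,
      ⟨g, mem (by simp), rg⟩, ⟨c, mem (by simp), rc⟩]
  have top : Subgroup.closure ({z, r, f, g, c} : Set L) = ⊤ := by
    have det : ∀ n < 2, detM (xyGens.getD n oneM) % 4 = 1 := by decide +kernel
    refine closure_top (φ := φ) ?_ ?_
    · obtain ⟨y, hy, ry⟩ := exists_rep_evW h5 e.wx
      obtain ⟨x, rx⟩ := rep_of_code φ (det 0 (by omega))
      exact ⟨x, (Rep.pe_iff ry rx).1 tx ▸ hy, rx⟩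
    · obtain ⟨y, hy, ry⟩ := exists_rep_evW h5 e.wy
      obtain ⟨x, rx⟩ := rep_of_code φ (det 1 (by omega))
      exact ⟨x, (Rep.pe_iff ry rx).1 ty ▸ hy, rx⟩
  refine ⟨top, ?_⟩
  rcases hv : e.var with _ | ⟨v0, vs⟩
  · left
    rw [hv] at tv
    have h4 : ∀ m ∈ [zM, rReps.getD k oneM, uM i, uM j],
        ∃ y ∈ Subgroup.closure ({z, r, f, g} : Set L), Rep φ y m := by
      intro m hm
      simp only [List.mem_cons, List.not_mem_nil, or_false] at hm
      rcases hm with rfl | rfl | rfl | rfl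
      exacts [⟨z, mem (by simp), rz⟩, ⟨r, mem (by simp), hr⟩, ⟨f, mem (by simp), rf⟩,
        ⟨g, mem (by simp), rg⟩]
    obtain ⟨y, hy, ry⟩ := exists_rep_evW h4 e.wc
    exact (Rep.pe_iff ry rc).1 tv ▸ hy
  · right
    rw [hv] at tv
    have hopt : ∀ a, ∃ y ∈ Subgroup.closure ({z, f, g} : Set L), Rep φ y (optF (uM i) (uM j) a) := by
      intro a
      have mz : z ∈ Subgroup.closure ({z, f, g} : Set L) := mem (by simp)
      have mf : f ∈ Subgroup.closure ({z, f, g} : Set L) := mem (by simp)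
      have mg : g ∈ Subgroup.closure ({z, f, g} : Set L) := mem (by simp)
      have hm := getD_mem [uM i, mulM (uM i) zM, uM j, mulM (uM j) zM] oneM a
      simp only [List.mem_cons, List.not_mem_nil, or_false] at hm
      rw [optF]
      rcases hm with e | e | e | e | e <;> rw [e]
      exacts [⟨1, one_mem _, Rep.one⟩, ⟨f, mf, rf⟩, ⟨f * z, mul_mem mf mz, rf.mul rz⟩, ⟨g, mg, rg⟩,
        ⟨g * z, mul_mem mg mz, rg.mul rz⟩]
    have hcs : ∀ a, ∃ y : L, (y = c ∨ y = c * z) ∧ Rep φ y ([uM l, mulM (uM l) zM].getD a (uM l)) := by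
      intro a
      have hm := getD_mem [uM l, mulM (uM l) zM] (uM l) a
      simp only [List.mem_cons, List.not_mem_nil, or_false] at hm
      rcases hm with e | e | e <;> rw [e]
      exacts [⟨c, Or.inl rfl, rc⟩, ⟨c, Or.inl rfl, rc⟩, ⟨c * z, Or.inr rfl, rc.mul rz⟩]
    simp only [varOK, Bool.and_eq_true] at tv
    obtain ⟨⟨⟨⟨⟨⟨⟨⟨⟨t1, t2⟩, t3⟩, t4⟩, t5⟩, t6⟩, t7⟩, t8⟩, t9⟩, t10⟩ := tv
    have rb := rz.mul (hr.pow ((v0 :: vs).getD 0 0))
    obtain ⟨f', mf', rf'⟩ := hopt ((v0 :: vs).getD 1 0)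
    obtain ⟨g', mg', rg'⟩ := hopt ((v0 :: vs).getD 2 0)
    obtain ⟨c', hc', rc'⟩ := hcs ((v0 :: vs).getD 3 0)
    exact ⟨_, f', g', c', mul_mem (mem (by simp)) (pow_mem (mem (by simp)) _), mf', mg', hc',
      (Rep.pe_iff (rb.mul rb) Rep.one).1 t1, (Rep.pe_iff (rf'.mul rf') Rep.one).1 t2,
      (Rep.pe_iff (rg'.mul rg') Rep.one).1 t3, (Rep.pe_iff ((rf'.mul rg').pow 2) rz).1 t4,
      (Rep.pe_iff ((rz.mul rb).pow 5) Rep.one).1 t5, (Rep.pe_iff ((rb.mul rc').pow 3) Rep.one).1 t6,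
      (Rep.pe_iff ((rb.mul rf').pow 3) Rep.one).1 t7, (Rep.pe_iff ((rb.mul rg').pow 3) Rep.one).1 t8,
      (Rep.pe_iff ((((rz.mul rb).mul rc').mul rf').pow 5) Rep.one).1 t9,
      (Rep.pe_iff (((rb.mul rf').mul rg').pow 5) Rep.one).1 t10⟩

end CfsgLib.Spor.SuzRecog.L34

namespace CfsgLib.Spor.SuzRecog

open L34

universe u

/-- P2: the configurations in `PSL(3,4)`. -/
theorem l34Facts : L34Facts.{u} := by
  intro L _ hL z f g c r h
  obtain ⟨F, _, _, hF, ⟨e⟩⟩ := hL
  have hq : Fintype.card F = Fintype.card CfsgLib.Spor.QField := by rw [hF]; decide +kernel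
  obtain ⟨e'⟩ := CfsgLib.PSL2.nonempty_psl_congr (n := Fin 3) (FiniteField.ringEquivOfCardEq hq)
  obtain ⟨φ, hz⟩ := exists_normal (e.trans e') h.z_sq h.z_ne
  have hw : (z * r) * (z * r) = 1 := by
    calc (z * r) * (z * r) = (z * r * z) * r := by group
      _ = 1 := by rw [h.zr, inv_mul_cancel]
  have hwne : z * r ≠ 1 := by
    intro e1
    have hrz : r = z := by
      calc r = z * (z * r) := by rw [← mul_assoc, h.z_sq, one_mul]
        _ = z := by rw [e1, mul_one]
    have h5 := h.r_five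
    rw [hrz, show z ^ 5 = z * z * (z * z) * z by simp only [pow_succ, pow_zero, one_mul, mul_assoc],
      h.z_sq, one_mul, one_mul] at h5
    exact h.z_ne h5
  obtain ⟨v, u, hv, hu, hok, rw'⟩ := exists_involution (φ := φ) hw hwne
  have rr : Rep φ r (mulM zM (invM v u)) := by
    have := (rep_z0 hz).mul rw'
    rwa [← mul_assoc, h.z_sq, one_mul] at this
  have t := any_all (any_all rChk_true hv) hu
  rw [hok, (Rep.pe_iff (rr.pow 5) Rep.one).2 h.r_five, Bool.eq_false_iff.2 (fun e1 =>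
    h.r_ne ((Rep.pe_iff rr Rep.one).1 e1))] at t
  simp only [Bool.not_true, Bool.false_or, List.any_eq_true, Bool.and_eq_true, Nat.blt_eq] at t
  obtain ⟨⟨key, k, s⟩, -, -, ⟨hk, hs⟩, hpe⟩ := t
  obtain ⟨y, ry⟩ := rep_of_code φ (uM_det s hs)
  obtain ⟨r', rr'⟩ := rep_of_code φ (reps_det k hk)
  have hyr : y * r = r' * y := (Rep.pe_iff (ry.mul rr) (rr'.mul ry)).1 hpe
  have hyz : y * z = z * y := (Rep.pe_iff (ry.mul (rep_z0 hz)) ((rep_z0 hz).mul ry)).1 (uM_comm s hs)
  refine core (φ := (MulAut.conj y).trans φ) h ?_ hk ?_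
  · rw [MulEquiv.trans_apply, MulAut.conj_apply, hyz, mul_inv_cancel_right, hz]
  · obtain ⟨M, h1, h2⟩ := rr'
    exact ⟨M, by rw [MulEquiv.trans_apply, MulAut.conj_apply, hyr, mul_inv_cancel_right, h1], h2⟩

end CfsgLib.Spor.SuzRecog
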