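import Cfsg.Agent.Lib.Small.Order60

/-!
A four group in the alternating group of degree five with the elements above it.
-/

set_option autoImplicit false
set_option maxRecDepth 100000
set_option synthInstance.maxSize 4000
set_option synthInstance.maxHeartbeats 400000

namespace CfsgLib.Spor.SuzRecog

open Equiv

theorem alt5_exists : ∀ v : Perm (Fin 5), v * v = 1 → v ≠ 1 → Perm.sign v = 1 →
    ∀ w : Perm (Fin 5), w * w = 1 → w ≠ 1 → w ≠ v → v * w = w * v → Perm.sign w = 1 →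
    ∃ x : Perm (Fin 5), (x ^ 3 = 1 ∧ x * v * x⁻¹ = w ∧ x * w * x⁻¹ = v * w ∧ Perm.sign x = 1) ∧
      ∃ d : Perm (Fin 5), d * d = 1 ∧ d ≠ v ∧ d * x * d = x⁻¹ ∧ (d * v) ^ 3 = 1 ∧
        Perm.sign d = 1 := by
  decide +kernel

theorem alt5_unique : ∀ v : Perm (Fin 5), v * v = 1 → Perm.sign v = 1 →
    ∀ x : Perm (Fin 5), x ^ 3 = 1 → x * v ≠ v * x → v * (x * v * x⁻¹) = x * v * x⁻¹ * v →
      Perm.sign x = 1 →
    ∀ d : Perm (Fin 5), d * d = 1 → d ≠ v → d * x * d = x⁻¹ → (d * v) ^ 3 = 1 →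
      Perm.sign d = 1 →
    ∀ d' : Perm (Fin 5), d' * d' = 1 → d' ≠ v → d' * x * d' = x⁻¹ → (d' * v) ^ 3 = 1 →
      Perm.sign d' = 1 → d' = d := by
  decide +kernel

theorem alt5_dichotomy : ∀ v : Perm (Fin 5), v * v = 1 → Perm.sign v = 1 →
    ∀ x : Perm (Fin 5), x ^ 3 = 1 → x * v ≠ v * x → v * (x * v * x⁻¹) = x * v * x⁻¹ * v →
      Perm.sign x = 1 →
    ∀ d : Perm (Fin 5), d * d = 1 → d ≠ v → d * x * d = x⁻¹ → (d * v) ^ 3 = 1 →
      Perm.sign d = 1 →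
    ∀ y : Perm (Fin 5), y ^ 3 = 1 → Perm.sign y = 1 → y ≠ 1 →
      (∃ u ∈ [1, v, x * v * x⁻¹, v * (x * v * x⁻¹)], y = u * x * u ∨ y = u * x⁻¹ * u) ∨
        v * y * v * x * y⁻¹ = d ∨ v * y * v * x⁻¹ * y⁻¹ = d ∨
        v * y⁻¹ * v * x * y = d ∨ v * y⁻¹ * v * x⁻¹ * y = d ∨
        x * y * x⁻¹ * y⁻¹ * x * y = d ∨ v * x * y * x * v = d ∨ v * x * y⁻¹ * x * v = d := by
  decide +kernel

end CfsgLib.Spor.SuzRecog
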