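import Cfsg.Agent.Lib.Small.SuzOrder.Sylow
import Cfsg.Agent.Lib.Small.SuzOrder.Odd
import Cfsg.Agent.Lib.Spor.SuzRecog.Alt5

/-!
The centraliser of an element of order five inverted by `z`, and the elements chosen in it.
-/

set_option autoImplicit false
set_option linter.style.haveILetI false
set_option linter.unusedSectionVars false

namespace CfsgLib.Spor.SuzRecog

open Subgroup CfsgLib.Small.SuzOrder

universe u

/-- The elements chosen in the centraliser of `r`. -/
structure FiveCfg {G : Type*} [Group G] {z t : G} {L : LocData z t} (D : FourData L)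
    (r v w x d : G) : Prop where
  r_ord : orderOf r = 5
  r_mem : r ∈ D.M
  zr : z * r * z = r⁻¹
  v_mem : v ∈ D.V
  w_mem : w ∈ D.V
  v_ne : v ≠ 1
  w_ne : w ≠ 1
  wv_ne : w ≠ v
  V_cover : ∀ u ∈ D.V, u = 1 ∨ u = v ∨ u = w ∨ u = v * w
  x_cube : x ^ 3 = 1
  xv : x * v * x⁻¹ = w
  xw : x * w * x⁻¹ = v * w
  xr : x * r = r * x
  xz : x * z = z * x
  d_sq : d * d = 1
  d_ne : d ≠ v
  dv : (d * v) ^ 3 = 1
  dx : d * x * d = x⁻¹
  dr : d * r = r * d
  dz : d * z = z * d
  dich : ∀ y : G, y ^ 3 = 1 → y ≠ 1 → y * r = r * y →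
    (y * v) ^ 3 = 1 ∨ ∀ c : G, c * v = v * c → c * x = x * c → c * y = y * c → c * d = d * c

section Quot

variable {G : Type u} [Group G] {r : G}

theorem pow_six_eq_one {a : G} (h : a * a = 1 ∨ a ^ 3 = 1) : a ^ 6 = 1 := by
  rcases h with h | h
  · rw [show a ^ 6 = (a * a) ^ 3 by rw [← pow_two, ← pow_mul], h, one_pow]
  · rw [show a ^ 6 = (a ^ 3) ^ 2 by rw [← pow_mul], h, one_pow]

/-- Elements commuting with `r` of order dividing six are determined modulo `r`. -/
theorem eq_of_pow_six (hr : r ^ 5 = 1) {a b : G} (ha : a ^ 6 = 1) (hb : b ^ 6 = 1)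
    (hbr : b * r = r * b) {k : ℕ} (h : a = b * r ^ k) : a = b := by
  have hc : Commute b (r ^ k) := (show Commute b r from hbr).pow_right k
  have h6 : r ^ k = 1 := by
    have e : a ^ 6 = b ^ 6 * (r ^ k) ^ 6 := by rw [h, hc.mul_pow]
    rw [ha, hb, one_mul, pow_succ (r ^ k) 5, ← pow_mul r k 5, mul_comm k 5, pow_mul, hr, one_pow,
      one_mul] at e
    exact e.symm
  rw [h, h6, mul_one]

end Quot

variable {G : Type u} [Group G] [Finite G] {z t : G} {L : LocData z t} (D : FourData L)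

/-- Every element of the centraliser of `V` of order `2`-power modulo `V` is conjugate into `T₀`. -/
theorem exists_type_inverting (hA : ∀ f : G, orderOf f = 5 → f ∈ D.M →
      ∃ g : G, g * t = t * g ∧ g * f * g⁻¹ = f ^ 2)
    (hC : ∀ f : G, orderOf f = 5 → ∀ v ∈ D.V, v ≠ 1 → f ∈ D.M →
      ∀ g : G, g * f = f * g → g * v = v * g → ∃ k : ℕ, ∃ w ∈ D.V, g = f ^ k * w)
    {f : G} (hf : orderOf f = 5) (hfM : f ∈ D.M) :
    ∃ i ∈ D.M, IsConj z i ∧ i * f * i = f⁻¹ := by
  haveI : Fact (Nat.Prime 2) := ⟨Nat.prime_two⟩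
  have hf5 : f ^ 5 = 1 := hf ▸ pow_orderOf_eq_one f
  obtain ⟨g, hgt, hgf⟩ := hA f hf hfM
  have hconj : ∀ {a : G} {m : ℕ}, a * f * a⁻¹ = f ^ m → ∀ n, a ^ n * f * (a ^ n)⁻¹ = f ^ m ^ n := by
    intro a m ha n
    induction n with
    | zero => simp
    | succ n ih =>
      rw [pow_succ' a n, show a * a ^ n * f * (a * a ^ n)⁻¹ = a * (a ^ n * f * (a ^ n)⁻¹) * a⁻¹ by
        group, ih, ← conj_pow, ha, ← pow_mul, pow_succ' m n]
  have hmod : ∀ n, f ^ n = f ^ (n % 5) := fun n => by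
    conv_lhs => rw [← Nat.mod_add_div n 5, pow_add, pow_mul, hf5, one_pow, mul_one]
  have htv : ∀ n, g ^ n * t = t * g ^ n := fun n => ((show Commute g t from hgt).pow_left n).eq
  have hM2 : ∀ n, (g ^ n) ^ 2 ∈ D.M := fun n => by rw [pow_two]; exact Odd.sq_mem D (htv n)
  have hg4 : g ^ 4 * f = f * g ^ 4 := by
    have h := hconj hgf 4
    rw [hmod, show (2 : ℕ) ^ 4 % 5 = 1 by norm_num, pow_one, mul_inv_eq_iff_eq_mul] at h
    exact h
  obtain ⟨k, w, hw, hg4e⟩ := hC f hf t D.t_mem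
    (fun e => by have := L.ord_t; rw [e, orderOf_one] at this; omega) hfM (g ^ 4) hg4 (htv 4)
  have hg40 : g ^ 40 = 1 := by
    have hwf : Commute (f ^ k) w := ((show Commute f w from (D.M_eq f).1 hfM w hw).pow_left k)
    rw [show 40 = 4 * 10 by rfl, pow_mul, hg4e, hwf.mul_pow, ← pow_mul, mul_comm, pow_mul,
      show f ^ 10 = (f ^ 5) ^ 2 by rw [← pow_mul], hf5, one_pow, one_pow, one_mul,
      show w ^ 10 = (w * w) ^ 5 by rw [← pow_two, ← pow_mul], D.V_sq w hw, one_pow]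
  set m := g ^ 10 with hm
  have hmM : m ∈ D.M := by
    have := hM2 5
    rwa [← pow_mul] at this
  have hminv : m * f * m⁻¹ = f⁻¹ := by
    have h := hconj hgf 10
    rw [hmod, show (2 : ℕ) ^ 10 % 5 = 4 by norm_num] at h
    rw [h]
    exact eq_inv_of_mul_eq_one_left (by rw [← pow_succ, hf5])
  have hm4 : m ^ (2 ^ 2) = 1 := by rw [hm, ← pow_mul]; exact hg40
  -- move `m` into `T0`
  have hT : IsPGroup 2 (L.T0.subgroupOf D.M) := IsPGroup.of_card (n := 8) (by
    rw [Nat.card_congr (subgroupOfEquivOfLe D.T0_le).toEquiv, L.card_T0]; norm_num)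
  obtain ⟨P, hP⟩ := hT.exists_le_sylow
  have hPc : Nat.card (P : Subgroup D.M) = 256 := by
    rw [P.card_eq_multiplicity, D.card_M, show (80640 : ℕ).factorization 2 = 8 by
      rw [show (80640 : ℕ) = 2 ^ 8 * 315 by norm_num, Nat.factorization_mul (by norm_num) (by norm_num),
        Finsupp.add_apply, Nat.Prime.factorization_pow Nat.prime_two, Finsupp.single_eq_same,
        Nat.factorization_eq_zero_of_not_dvd (by norm_num)]]
    norm_num
  have hPe : L.T0.subgroupOf D.M = P := eq_of_le_of_card_ge hP (by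
    rw [hPc, Nat.card_congr (subgroupOfEquivOfLe D.T0_le).toEquiv, L.card_T0])
  have hmp : IsPGroup 2 (zpowers (⟨m, hmM⟩ : D.M)) := by
    obtain ⟨j, -, hj⟩ := (Nat.dvd_prime_pow Nat.prime_two).1
      (orderOf_dvd_of_pow_eq_one (x := (⟨m, hmM⟩ : D.M)) (Subtype.ext hm4))
    exact IsPGroup.of_card (n := j) (by rw [Nat.card_zpowers, hj])
  obtain ⟨P', hP'⟩ := hmp.exists_le_sylow
  obtain ⟨h, hh⟩ := MulAction.exists_smul_eq D.M P' P
  have hhm : (h : G) * m * (h : G)⁻¹ ∈ L.T0 := by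
    have : h * ⟨m, hmM⟩ * h⁻¹ ∈ (P : Subgroup D.M) := by
      rw [← hh, Sylow.coe_subgroup_smul]
      exact ⟨_, hP' (mem_zpowers _), rfl⟩
    rw [← hPe, mem_subgroupOf] at this
    exact this
  have hSVT : ∀ a ∈ L.T0, ∃ s ∈ L.S, ∃ v ∈ D.V, a = s * v := by
    let F : L.S × D.V → L.T0 := fun p =>
      ⟨p.1 * p.2, mul_mem (L.S_le p.1.2) (Odd.V_le_T0 D p.2.2)⟩
    have hF : Function.Injective F := by
      rintro ⟨a, b⟩ ⟨c, e⟩ he
      have he' : (a : G) * b = c * e := congrArg Subtype.val he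
      have h1 : (c : G)⁻¹ * a = e * (b : G)⁻¹ := by
        rw [eq_mul_inv_iff_mul_eq, mul_assoc, he', inv_mul_cancel_left]
      have h2 := Odd.eq_one_of_S_V D (mul_mem (inv_mem c.2) a.2)
        (h1 ▸ mul_mem e.2 (inv_mem b.2))
      have hac : a = c := Subtype.ext (inv_mul_eq_one.1 h2).symm
      subst hac
      exact Prod.ext rfl (Subtype.ext (mul_left_cancel he'))
    have hb : Function.Bijective F := hF.bijective_of_nat_card_le (by
      rw [Nat.card_prod, L.card_S, D.card_V, L.card_T0])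
    intro a ha
    obtain ⟨⟨s, v⟩, he⟩ := hb.2 ⟨a, ha⟩
    exact ⟨s, s.2, v, v.2, (congrArg Subtype.val he).symm⟩
  obtain ⟨s, hs, v, hv, hsv⟩ := hSVT _ hhm
  have hsv2 : (s * v) * (s * v) = s * s := by
    rw [show s * v * (s * v) = s * (v * s) * v by group, ← (D.M_eq s).1 (Odd.S_le_M D hs) v hv,
      show s * (s * v) * v = s * s * (v * v) by group, D.V_sq v hv, mul_one]
  have hgam : g ^ 20 ∈ D.V := by
    obtain ⟨j, hj⟩ : ∃ j, g ^ 20 = (f ^ k * w) ^ j := ⟨5, by rw [← hg4e, ← pow_mul]⟩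
    have hwf : Commute (f ^ k) w := ((show Commute f w from (D.M_eq f).1 hfM w hw).pow_left k)
    have e : g ^ 20 = w ^ 5 := by
      rw [show 20 = 4 * 5 by rfl, pow_mul, hg4e, hwf.mul_pow, ← pow_mul, mul_comm, pow_mul, hf5,
        one_pow, one_mul]
    rw [e]; exact pow_mem hw 5
  have hss : s * s = 1 := by
    refine Odd.eq_one_of_S_V D (mul_mem hs hs) ?_
    rw [← hsv2, ← hsv, show (h : G) * m * (h : G)⁻¹ * ((h : G) * m * (h : G)⁻¹) =
      (h : G) * (m * m) * (h : G)⁻¹ by group, hm, ← pow_add]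
    rw [(D.M_eq _).1 h.2 _ hgam, mul_inv_cancel_right]
    exact hgam
  have hs1 : s ≠ 1 := by
    intro e
    rw [e, one_mul] at hsv
    have hmV : m = v := by
      calc m = (h : G)⁻¹ * ((h : G) * m * (h : G)⁻¹) * h := by group
        _ = (h : G)⁻¹ * ((h : G) * v) := by rw [hsv, mul_assoc, (D.M_eq _).1 h.2 v hv]
        _ = v := inv_mul_cancel_left _ _
    rw [hmV, ← (D.M_eq f).1 hfM v hv, mul_inv_cancel_right] at hminv
    have : orderOf f ∣ 2 := orderOf_dvd_of_pow_eq_one (by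
      rw [pow_two]; exact mul_eq_one_iff_eq_inv.2 hminv)
    rw [hf] at this; norm_num at this
  refine ⟨(h : G)⁻¹ * s * h, mul_mem (mul_mem (inv_mem h.2) (Odd.S_le_M D hs)) h.2,
    ((L.invol_S s hs hss).resolve_left hs1).trans (isConj_iff.2 ⟨(h : G)⁻¹, by group⟩), ?_⟩
  have hi : (h : G)⁻¹ * s * h = m * v := by
    calc (h : G)⁻¹ * s * h = (h : G)⁻¹ * (s * (v * v)) * h := by rw [D.V_sq v hv, mul_one]
      _ = (h : G)⁻¹ * ((h : G) * m * (h : G)⁻¹ * v) * h := by rw [hsv, mul_assoc s]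
      _ = m * ((h : G)⁻¹ * (v * h)) := by group
      _ = m * ((h : G)⁻¹ * (h * v)) := by rw [(D.M_eq _).1 h.2 v hv]
      _ = m * v := by rw [inv_mul_cancel_left]
  have hiinv : (m * v)⁻¹ = m * v := by
    refine inv_eq_of_mul_eq_one_right ?_
    rw [← hi, show (h : G)⁻¹ * s * h * ((h : G)⁻¹ * s * h) = (h : G)⁻¹ * (s * s) * h by group, hss]
    group
  rw [hi]
  nth_rw 2 [← hiinv]
  rw [show m * v * f * (m * v)⁻¹ = m * (v * f * v⁻¹) * m⁻¹ by group, ← (D.M_eq f).1 hfM v hv,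
    mul_inv_cancel_right]
  exact hminv

theorem exists_inverted (hA : ∀ f : G, orderOf f = 5 → f ∈ D.M →
      ∃ g : G, g * t = t * g ∧ g * f * g⁻¹ = f ^ 2)
    (hC : ∀ f : G, orderOf f = 5 → ∀ v ∈ D.V, v ≠ 1 → f ∈ D.M →
      ∀ g : G, g * f = f * g → g * v = v * g → ∃ k : ℕ, ∃ w ∈ D.V, g = f ^ k * w) :
    ∃ r : G, orderOf r = 5 ∧ r ∈ D.M ∧ z * r * z = r⁻¹ := by
  haveI : Fact (Nat.Prime 5) := ⟨by norm_num⟩
  obtain ⟨⟨f, hfM⟩, hf⟩ := exists_prime_orderOf_dvd_card' (G := D.M) 5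
    (by rw [D.card_M]; norm_num)
  rw [← Subgroup.orderOf_coe] at hf
  obtain ⟨i, hiM, hzi, hif⟩ := exists_type_inverting D hA hC hf hfM
  obtain ⟨-, a, ha, hai⟩ := D.z_conj i hzi (Odd.M_comm_t D hiM)
  refine ⟨a⁻¹ * f * a, ?_, mul_mem (mul_mem (inv_mem ha) hfM) ha, ?_⟩
  · have e := MulEquiv.orderOf_eq (MulAut.conj a⁻¹) f
    rw [MulAut.conj_apply, inv_inv] at e
    rw [e]; exact hf
  · calc z * (a⁻¹ * f * a) * z = a⁻¹ * ((a * z * a⁻¹) * f * (a * z * a⁻¹)) * a := by group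
      _ = a⁻¹ * f⁻¹ * a := by rw [hai, hif]
      _ = _ := by group

set_option maxHeartbeats 1000000 in
theorem exists_cfg (L' : Loc z t) (S : Second z t) (hSM : S.M = D.M) :
    ∃ r v w x d : G, FiveCfg D r v w x d := by
  classical
  haveI : Fact (Nat.Prime 5) := ⟨by norm_num⟩
  obtain ⟨K, i1, i2, π₀, hsurj, hker, hsimple, -, hcit, hcard⟩ := D.quot
  let QD : Quo D K := ⟨π₀, hsurj, hker, hcit, hcard⟩
  have hA := fun f hf hfM => Odd.aut_five D QD (f := f) hf hfM
  have hC := fun (f : G) (hf : orderOf f = 5) (v : G) (hv : v ∈ D.V) (hv1 : v ≠ 1)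
    (hfM : f ∈ D.M) (g : G) (h1 : g * f = f * g) (h2 : g * v = v * g) =>
    Odd.cent D QD (Or.inl rfl) hf hfM hv hv1 h1 h2
  obtain ⟨r, hr, hrM, hzr⟩ := exists_inverted D hA hC
  have hr5 : r ^ 5 = 1 := hr ▸ pow_orderOf_eq_one r
  have hG := card_eq L' S
  obtain ⟨Q, hQ⟩ := (IsPGroup.of_card (p := 5) (n := 1) (G := zpowers r)
    (by rw [Nat.card_zpowers, hr, pow_one])).exists_le_sylow
  have hQc := card_sylow_five hG Q
  obtain ⟨hZn, hodd, hZ, hK, hcZ, hC'⟩ := S.cent_setup (x := r) (hSM ▸ hrM) (Or.inl hr)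
  set X := centralizer ((zpowers r : Subgroup G) : Set G) with hX
  have hXr : ∀ a : G, a ∈ X ↔ a * r = r * a := fun a => by
    rw [hX, zpowers_eq_closure, centralizer_closure, mem_centralizer_singleton_iff]
  set Z := (zpowers r).subgroupOf X
  set VX := S.V.subgroupOf X
  have hQX : (Q : Subgroup G) ≤ X := fun a ha => (hXr a).2 (congrArg Subtype.val
    ((IsPGroup.isMulCommutative_of_card_eq_prime_sq (p := 5) (G := (Q : Subgroup G))
      hQc).is_comm.comm ⟨a, ha⟩ ⟨r, hQ (mem_zpowers r)⟩))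
  have h25 : 25 ∣ Nat.card X := hQc ▸ card_dvd_of_le hQX
  obtain ⟨hcX, hs⟩ : Nat.card X = 300 ∧ IsSimpleGroup (X ⧸ Z) := by
    rcases card_cases_quot Z hodd hZ VX hC' with e | ⟨e, -⟩ | ⟨e, hs⟩ <;> rw [hcZ, hr] at e
    · rw [e] at h25; norm_num at h25
    · rw [e] at h25; norm_num at h25
    · exact ⟨e, hs⟩
  have h60 : Nat.card (X ⧸ Z) = 60 := by
    have h := Subgroup.card_eq_card_quotient_mul_card_subgroup Z
    rw [hcZ, hr, hcX] at h
    omega
  obtain ⟨e⟩ := CfsgLib.Small.equiv_alternating_five (G := X ⧸ Z) h60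
  let φ : X →* Equiv.Perm (Fin 5) :=
    (alternatingGroup (Fin 5)).subtype.comp (e.toMonoidHom.comp (QuotientGroup.mk' Z))
  have hsign : ∀ a : X, Equiv.Perm.sign (φ a) = 1 := fun a =>
    Equiv.Perm.mem_alternatingGroup.1 (e (QuotientGroup.mk' Z a)).2
  have hφs : ∀ p : Equiv.Perm (Fin 5), Equiv.Perm.sign p = 1 → ∃ a : X, φ a = p := fun p hp => by
    obtain ⟨q, hq⟩ := e.surjective ⟨p, Equiv.Perm.mem_alternatingGroup.2 hp⟩
    obtain ⟨a, rfl⟩ := QuotientGroup.mk'_surjective Z q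
    exact ⟨a, congrArg Subtype.val hq⟩
  have hφ1 : ∀ a : X, φ a = 1 → ∃ k : ℕ, (a : G) = r ^ k := by
    intro a ha
    have h1 : e (QuotientGroup.mk' Z a) = 1 := Subtype.ext ha
    rw [MulEquiv.map_eq_one_iff] at h1
    have h2 : (a : G) ∈ zpowers r := (QuotientGroup.eq_one_iff a).1 h1
    obtain ⟨k, hk⟩ := mem_powers_iff_mem_zpowers.2 h2
    exact ⟨k, hk.symm⟩
  have heq : ∀ a b : X, φ a = φ b → (a : G) ^ 6 = 1 → (b : G) ^ 6 = 1 → (a : G) = b := by
    intro a b h ha hb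
    obtain ⟨k, hk⟩ := hφ1 (b⁻¹ * a) (by rw [map_mul, map_inv, h, inv_mul_cancel])
    refine eq_of_pow_six hr5 ha hb ((hXr _).1 b.2) (k := k) ?_
    rw [← hk]; simp
  have hVX : ∀ u ∈ D.V, u ∈ X := fun u hu => (hXr u).2 ((D.M_eq r).1 hrM u hu).symm
  have hVsq : ∀ u ∈ D.V, u * u = 1 := D.V_sq
  obtain ⟨v, hv, hv1⟩ : ∃ v ∈ D.V, v ≠ 1 := ⟨t, D.t_mem, fun h => by
    have := L.ord_t; rw [h, orderOf_one] at this; omega⟩
  obtain ⟨w, hw, hw1, hwv⟩ : ∃ w ∈ D.V, w ≠ 1 ∧ w ≠ v := by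
    by_contra hne
    push Not at hne
    have hsub : ∀ u ∈ D.V, u = 1 ∨ u = v := fun u hu => or_iff_not_imp_left.2 (hne u hu)
    have hle := Nat.card_le_card_of_surjective
      (fun b : Bool => (⟨if b then v else 1, by split_ifs; exacts [hv, one_mem _]⟩ : D.V))
      (fun u => by
        rcases hsub u u.2 with h | h
        · exact ⟨false, Subtype.ext h.symm⟩
        · exact ⟨true, Subtype.ext h.symm⟩)
    rw [D.card_V, Nat.card_eq_fintype_card, Fintype.card_bool] at hle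
    omega
  have hvw : v * w = w * v := (D.M_eq v).1 (Odd.V_le_M D hv) w hw
  have hcover : ∀ u ∈ D.V, u = 1 ∨ u = v ∨ u = w ∨ u = v * w := by
    have hn1 : v * w ≠ 1 := fun h => hwv (by
      rw [mul_eq_one_iff_eq_inv] at h
      rw [h, inv_eq_of_mul_eq_one_right (hVsq w hw)])
    have h1 : v * w ≠ v := fun h => hw1 (mul_eq_left.1 h)
    have h2 : v * w ≠ w := fun h => hv1 (mul_eq_right.1 h)
    have hsub : ({1, v, w, v * w} : Set G) ⊆ (D.V : Set G) := by
      rintro u (rfl | rfl | rfl | rfl)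
      exacts [one_mem _, hv, hw, mul_mem hv hw]
    have hc : ({1, v, w, v * w} : Set G).ncard = 4 := by
      rw [Set.ncard_insert_of_notMem, Set.ncard_insert_of_notMem, Set.ncard_pair h2.symm]
      · simp [hwv.symm, h1.symm]
      · simp [hv1.symm, hw1.symm, hn1.symm]
    have he := Set.eq_of_subset_of_ncard_le hsub (by
      rw [hc, ← Nat.card_coe_set_eq]; exact le_of_eq D.card_V)
    intro u hu
    have : u ∈ ({1, v, w, v * w} : Set G) := he.symm ▸ hu
    simpa using this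
  set vX : X := ⟨v, hVX v hv⟩
  set wX : X := ⟨w, hVX w hw⟩
  have hne : ∀ (a : X), (a : G) * a = 1 → (a : G) ≠ 1 → φ a ≠ 1 := fun a h2 h1 h =>
    h1 (heq a 1 (by rw [h, map_one]) (pow_six_eq_one (Or.inl h2))
      (by simp)).symm.symm
  have hpv : φ vX * φ vX = 1 := by
    rw [← map_mul, show vX * vX = 1 from Subtype.ext (hVsq v hv), map_one]
  have hpw : φ wX * φ wX = 1 := by
    rw [← map_mul, show wX * wX = 1 from Subtype.ext (hVsq w hw), map_one]
  obtain ⟨px, ⟨hx3, hxv, hxw, hxs⟩, pd, hd2, hdne, hdx, hdv, hds⟩ :=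
    alt5_exists (φ vX) hpv (hne vX (hVsq v hv) hv1) (hsign vX) (φ wX) hpw
      (hne wX (hVsq w hw) hw1)
      (fun h => hwv (heq wX vX h (pow_six_eq_one (Or.inl (hVsq w hw)))
        (pow_six_eq_one (Or.inl (hVsq v hv)))))
      (by rw [← map_mul, ← map_mul]; exact congrArg φ (Subtype.ext hvw))
      (hsign wX)
  obtain ⟨x0, hx0⟩ := hφs px hxs
  obtain ⟨d0, hd0⟩ := hφs pd hds
  set xX : X := x0 ^ 10 with hxX
  set dX : X := d0 ^ 5 with hdX
  have hφx : φ xX = px := by
    rw [hxX, map_pow, hx0, show 10 = 3 * 3 + 1 by rfl, pow_succ, pow_mul, hx3, one_pow, one_mul]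
  have hφd : φ dX = pd := by
    rw [hdX, map_pow, hd0, pow_succ, show pd ^ 4 = (pd * pd) ^ 2 by rw [← pow_two, ← pow_mul], hd2,
      one_pow, one_mul]
  have hx3' : (xX : G) ^ 3 = 1 := by
    obtain ⟨k, hk⟩ := hφ1 (x0 ^ 3) (by rw [map_pow, hx0, hx3])
    rw [hxX, Subgroup.coe_pow, ← pow_mul, show 10 * 3 = 3 * 10 by rfl, pow_mul, ← Subgroup.coe_pow,
      hk, ← pow_mul, mul_comm, show 10 * k = 5 * (2 * k) by ring, pow_mul, hr5, one_pow]
  have hd2' : (dX : G) * dX = 1 := by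
    obtain ⟨k, hk⟩ := hφ1 (d0 ^ 2) (by rw [map_pow, hd0, pow_two, hd2])
    rw [← pow_two, hdX, Subgroup.coe_pow, ← pow_mul, show 5 * 2 = 2 * 5 by rfl, pow_mul,
      ← Subgroup.coe_pow, hk, ← pow_mul, mul_comm, pow_mul, hr5, one_pow]
  have hxr : (xX : G) * r = r * (xX : G) := (hXr _).1 xX.2
  have hdr : (dX : G) * r = r * (dX : G) := (hXr _).1 dX.2
  have hxv' : (xX : G) * v * (xX : G)⁻¹ = w :=
    heq (xX * vX * xX⁻¹) wX (by rw [map_mul, map_mul, map_inv, hφx, hxv])
      (pow_six_eq_one (Or.inl (show (xX : G) * v * (xX : G)⁻¹ * ((xX : G) * v * (xX : G)⁻¹) = 1 by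
        rw [show (xX : G) * v * (xX : G)⁻¹ * ((xX : G) * v * (xX : G)⁻¹) =
          (xX : G) * (v * v) * (xX : G)⁻¹ by group, hVsq v hv, mul_one, mul_inv_cancel])))
      (pow_six_eq_one (Or.inl (hVsq w hw)))
  have hxw' : (xX : G) * w * (xX : G)⁻¹ = v * w :=
    heq (xX * wX * xX⁻¹) (vX * wX) (by rw [map_mul, map_mul, map_inv, hφx, hxw, map_mul])
      (pow_six_eq_one (Or.inl (show (xX : G) * w * (xX : G)⁻¹ * ((xX : G) * w * (xX : G)⁻¹) = 1 by
        rw [show (xX : G) * w * (xX : G)⁻¹ * ((xX : G) * w * (xX : G)⁻¹) =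
          (xX : G) * (w * w) * (xX : G)⁻¹ by group, hVsq w hw, mul_one, mul_inv_cancel])))
      (pow_six_eq_one (Or.inl (hVsq _ (mul_mem hv hw))))
  have hdv' : ((dX : G) * v) ^ 3 = 1 := by
    obtain ⟨k, hk⟩ := hφ1 ((dX * vX) ^ 3) (by rw [map_pow, map_mul, hφd, hdv])
    have hk' : ((dX : G) * v) ^ 3 = r ^ k := hk
    have hinv : v * ((dX : G) * v) * v⁻¹ = ((dX : G) * v)⁻¹ := by
      rw [mul_inv_rev, inv_eq_of_mul_eq_one_right hd2', inv_eq_of_mul_eq_one_right (hVsq v hv),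
        mul_assoc, mul_assoc, hVsq v hv, mul_one]
    have h2 : (r ^ k) ^ 2 = 1 := by
      have e := congrArg (fun a => a ^ 3) hinv
      simp only [conj_pow, inv_pow, hk'] at e
      rw [(((show Commute v r from ((D.M_eq r).1 hrM v hv).symm)).pow_right k).eq,
        mul_inv_cancel_right] at e
      rw [pow_two]
      exact mul_eq_one_iff_eq_inv.2 e
    have h5 : (r ^ k) ^ 5 = 1 := by rw [← pow_mul, mul_comm, pow_mul, hr5, one_pow]
    rw [hk']
    rw [show (5 : ℕ) = 2 * 2 + 1 by rfl, pow_succ, pow_mul, h2, one_pow, one_mul] at h5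
    exact h5
  have hdd : (dX : G)⁻¹ = dX := inv_eq_of_mul_eq_one_right hd2'
  have hdx' : (dX : G) * xX * dX = (xX : G)⁻¹ :=
    heq (dX * xX * dX) xX⁻¹ (by rw [map_mul, map_mul, map_inv, hφd, hφx, hdx])
      (pow_six_eq_one (Or.inr (show ((dX : G) * xX * dX) ^ 3 = 1 by
        nth_rw 2 [← hdd]
        rw [conj_pow, hx3', mul_one, mul_inv_cancel])))
      (pow_six_eq_one (Or.inr (show ((xX : G)⁻¹) ^ 3 = 1 by rw [inv_pow, hx3', inv_one])))
  have hxne : φ xX * φ vX ≠ φ vX * φ xX := by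
    rw [hφx]
    intro h
    rw [h, mul_inv_cancel_right] at hxv
    exact hwv (heq vX wX hxv (pow_six_eq_one (Or.inl (hVsq v hv)))
      (pow_six_eq_one (Or.inl (hVsq w hw)))).symm
  have hxcomm : φ vX * (φ xX * φ vX * (φ xX)⁻¹) = φ xX * φ vX * (φ xX)⁻¹ * φ vX := by
    rw [hφx, hxv, ← map_mul, ← map_mul]; exact congrArg φ (Subtype.ext hvw)
  -- commuting with `z`
  have hzz : z * z = 1 := by rw [← pow_two, ← L.ord_z, pow_orderOf_eq_one]
  have hzi : z⁻¹ = z := inv_eq_of_mul_eq_one_right hzz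
  have hzM : z ∈ D.M := (D.z_conj z (IsConj.refl z) L.comm).1
  have hzV : ∀ u ∈ D.V, z * u = u * z := fun u hu => (D.M_eq z).1 hzM u hu
  have hxV : ∀ u ∈ D.V, (xX : G) * u * (xX : G)⁻¹ ∈ D.V := by
    intro u hu
    rcases hcover u hu with rfl | rfl | rfl | rfl
    · simp
    · rw [hxv']; exact hw
    · rw [hxw']; exact mul_mem hv hw
    · rw [show (xX : G) * (v * w) * (xX : G)⁻¹ = (xX : G) * v * (xX : G)⁻¹ *
        ((xX : G) * w * (xX : G)⁻¹) by group, hxv', hxw']
      exact mul_mem hw (mul_mem hv hw)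
  have hxz : (xX : G) * z = z * xX := by
    set i := (xX : G) * z * (xX : G)⁻¹ with hi
    have hpres : ∀ u ∈ D.V, i * u = u * i := by
      intro u hu
      have hu' : (xX : G)⁻¹ * u * xX ∈ D.V := by
        have e : (xX : G)⁻¹ = (xX : G) * xX := inv_eq_of_mul_eq_one_left (by
          rw [← hx3', pow_succ, pow_two])
        have := hxV _ (hxV u hu)
        rw [e, show (xX : G) * xX * u * xX =
          (xX : G) * ((xX : G) * u * (xX : G)⁻¹) * (xX : G)⁻¹ *
            ((xX : G) * xX * xX) by group, ← pow_two (xX : G), ← pow_succ, hx3', mul_one]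
        exact this
      calc i * u = (xX : G) * (z * ((xX : G)⁻¹ * u * xX)) * (xX : G)⁻¹ := by rw [hi]; group
        _ = (xX : G) * ((xX : G)⁻¹ * u * xX * z) * (xX : G)⁻¹ := by rw [hzV _ hu']
        _ = u * i := by rw [hi]; group
    have hiM : i ∈ D.M := (D.M_eq i).2 hpres
    have hit : i * t = t * i := hpres t D.t_mem
    have hi_inv : i * r * i = r⁻¹ := by
      calc i * r * i = (xX : G) * (z * ((xX : G)⁻¹ * r * xX) * z) * (xX : G)⁻¹ := by
            rw [hi]; group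
        _ = (xX : G) * r⁻¹ * (xX : G)⁻¹ := by
            rw [mul_assoc _ r, ← hxr, inv_mul_cancel_left, hzr]
        _ = r⁻¹ := by
            rw [((show Commute (xX : G) r from hxr).inv_right).eq, mul_inv_cancel_right]
    have hcom : (i * z) * r = r * (i * z) := by
      calc i * z * r = i * (z * r * z) * z := by
            rw [mul_assoc i _ z, mul_assoc (z * r), hzz, mul_one, mul_assoc]
        _ = i * r⁻¹ * z := by rw [hzr]
        _ = i * (i * r * i) * z := by rw [hi_inv]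
        _ = (i * i) * r * (i * z) := by group
        _ = r * (i * z) := by
            rw [show i * i = 1 by
              rw [hi, show (xX : G) * z * (xX : G)⁻¹ * ((xX : G) * z * (xX : G)⁻¹) =
                (xX : G) * (z * z) * (xX : G)⁻¹ by group, hzz, mul_one, mul_inv_cancel], one_mul]
    obtain ⟨k, u, hu, hiz⟩ := hC r hr v hv hv1 hrM (i * z) hcom
      (by rw [mul_assoc, hzV v hv, ← mul_assoc, hpres v hv, mul_assoc])
    have hie : i = r ^ k * z * u := by
      calc i = i * z * z := by rw [mul_assoc, hzz, mul_one]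
        _ = r ^ k * (u * z) := by rw [hiz, mul_assoc]
        _ = r ^ k * z * u := by rw [← hzV u hu, mul_assoc]
    have hk : IsConj z (r ^ k * z) := by
      obtain ⟨j, hj⟩ : ∃ j, r ^ k = r ^ (2 * j) := ⟨3 * k, by
        rw [show 2 * (3 * k) = 5 * k + k by ring, pow_add, pow_mul, hr5, one_pow, one_mul]⟩
      refine isConj_iff.2 ⟨r ^ j, ?_⟩
      have h : z * (r ^ j)⁻¹ = r ^ j * z := by
        have e : (z * r * z⁻¹) ^ j = z * r ^ j * z⁻¹ := conj_pow
        rw [hzi, hzr] at e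
        rw [← inv_pow, e, mul_assoc z, ← mul_assoc z z, hzz, one_mul]
        
      rw [mul_assoc, h, ← mul_assoc, ← pow_add, ← two_mul, hj]
    have hu1 := Odd.uniq D QD hk (Odd.M_comm_t D (mul_mem (pow_mem hrM k) hzM)) hu
      (hie ▸ (isConj_iff.2 ⟨xX, rfl⟩))
    rw [hu1, mul_one] at hie
    -- conjugating three times
    have hstep : ∀ j, (xX : G) * (r ^ j * z) * (xX : G)⁻¹ = r ^ (j + k) * z := fun j => by
      rw [show (xX : G) * (r ^ j * z) * (xX : G)⁻¹ = (xX : G) * r ^ j * (xX : G)⁻¹ * i by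
        rw [hi]; group, ((show Commute (xX : G) r from hxr).pow_right j).eq, mul_inv_cancel_right,
        hie, ← mul_assoc, ← pow_add]
    have h3 : r ^ (3 * k) = 1 := by
      have e1 := hstep k
      have e2 := hstep (k + k)
      rw [← hie] at e1
      rw [← e1, hi] at e2
      have e3 : (xX : G) ^ 3 * z * ((xX : G) ^ 3)⁻¹ = r ^ (k + k + k) * z := by
        rw [← e2]; simp only [pow_succ, pow_zero, one_mul]; group
      rw [hx3', one_mul, inv_one, mul_one] at e3
      rw [show 3 * k = k + k + k by ring]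
      exact (mul_eq_right.1 e3.symm)
    have hk1 : r ^ k = 1 := by
      have h5 : r ^ (5 * k) = 1 := by rw [pow_mul, hr5, one_pow]
      rw [show r ^ k = r ^ (3 * k) * r ^ (3 * k) * (r ^ (5 * k))⁻¹ by
        rw [← pow_add, eq_mul_inv_iff_mul_eq, ← pow_add]; congr 1; ring, h3, h5]
      group
    rw [hk1, one_mul, hi, mul_inv_eq_iff_eq_mul] at hie
    exact hie
  have hdz : (dX : G) * z = z * dX := by
    have hd'r : z * dX * z * r = r * (z * dX * z) := by
      calc z * dX * z * r = z * dX * (z * r * z) * z := by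
            rw [mul_assoc (z * dX) _ z, mul_assoc (z * r), hzz, mul_one, mul_assoc]
        _ = z * (dX * r⁻¹) * z := by rw [hzr, mul_assoc z]
        _ = z * (r⁻¹ * dX) * z := by rw [((show Commute (dX : G) r from hdr).inv_right).eq]
        _ = z * r⁻¹ * z * (z * dX * z) := by
            rw [show z * r⁻¹ * z * (z * dX * z) = z * r⁻¹ * (z * z) * dX * z by group, hzz]; group
        _ = r * (z * dX * z) := by
            rw [← hzr, show z * (z * r * z) * z = (z * z) * r * (z * z) by group, hzz]; group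
    set d' : X := ⟨z * dX * z, (hXr _).2 hd'r⟩ with hd'
    have hd'2 : (d' : G) * d' = 1 := by
      show z * dX * z * (z * dX * z) = 1
      rw [show z * dX * z * (z * dX * z) = z * (dX * (z * z) * dX) * z by group, hzz, mul_one,
        hd2', mul_one, hzz]
    have hφ2 : φ d' * φ d' = 1 := by
      rw [← map_mul, show d' * d' = 1 from Subtype.ext hd'2, map_one]
    have hzv' : z * v * z = v := by rw [hzV v hv, mul_assoc, hzz, mul_one]
    have hzx' : z * xX * z = xX := by rw [← hxz, mul_assoc, hzz, mul_one]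
    have h1 : d' * xX * d' = xX⁻¹ := Subtype.ext (by
      show z * dX * z * xX * (z * dX * z) = (xX : G)⁻¹
      rw [show z * (dX : G) * z * xX * (z * dX * z) = z * (dX * (z * xX * z) * dX) * z by group,
        hzx', hdx']
      rw [((show Commute z (xX : G) from hxz.symm).inv_right).eq, mul_assoc, hzz, mul_one])
    have h2 : (d' * vX) ^ 3 = 1 := Subtype.ext (by
      show (z * dX * z * v) ^ 3 = 1
      rw [show z * (dX : G) * z * v = z * (dX * (z * v * z)) * z by
        rw [show z * ((dX : G) * (z * v * z)) * z = z * dX * z * v * (z * z) by group, hzz, mul_one],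
        hzv']
      nth_rw 2 [← hzi]
      rw [conj_pow, hdv', mul_one, mul_inv_cancel])
    have hd'ne : φ d' ≠ φ vX := fun h => hdne (by
      rw [← hφd]
      have e := heq d' vX h (pow_six_eq_one (Or.inl hd'2)) (pow_six_eq_one (Or.inl (hVsq v hv)))
      have e' : (dX : G) = v := by
        calc (dX : G) = z * (z * dX * z) * z := by
              rw [show z * (z * (dX : G) * z) * z = (z * z) * dX * (z * z) by group, hzz]; group
          _ = v := by rw [show z * dX * z = v from e]; exact hzv'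
      exact congrArg φ (Subtype.ext e'))
    have huniq := alt5_unique (φ vX) hpv (hsign vX) (φ xX) (by rw [hφx, hx3]) hxne hxcomm
      (hsign xX) (φ dX) (by rw [hφd, hd2]) (by rw [hφd]; exact hdne)
      (by rw [hφd, hφx, hdx]) (by rw [hφd]; exact hdv) (hsign dX) (φ d') hφ2 hd'ne
      (by rw [← map_mul, ← map_mul, h1, map_inv]) (by rw [← map_mul, ← map_pow, h2, map_one])
      (hsign d')
    have e : z * dX * z = dX := heq d' dX huniq (pow_six_eq_one (Or.inl hd'2))
      (pow_six_eq_one (Or.inl hd2'))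
    calc (dX : G) * z = z * dX * z * z := by rw [e]
      _ = z * dX := by rw [mul_assoc, hzz, mul_one]
  refine ⟨r, v, w, xX, dX, ⟨hr, hrM, hzr, hv, hw, hv1, hw1, hwv, hcover, hx3', hxv', hxw', hxr,
    hxz, hd2', fun h => hdne (hφd ▸ congrArg φ (Subtype.ext h : dX = vX)), hdv', hdx', hdr, hdz,
    fun y hy3 hy1 hyr => ?_⟩⟩
  set yX : X := ⟨y, (hXr y).2 hyr⟩
  have hyne : φ yX ≠ 1 := fun h => hy1 (heq yX 1 (by rw [h, map_one])
    (pow_six_eq_one (Or.inr hy3)) (by simp))
  rcases alt5_dichotomy (φ vX) hpv (hsign vX) (φ xX) (by rw [hφx, hx3]) hxne hxcomm (hsign xX)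
    (φ dX) (by rw [hφd, hd2]) (by rw [hφd]; exact hdne) (by rw [hφd, hφx, hdx])
    (by rw [hφd]; exact hdv) (hsign dX) (φ yX)
    (by rw [← map_pow, show yX ^ 3 = 1 from Subtype.ext hy3, map_one]) (hsign yX) hyne with
    h | h
  · left
    obtain ⟨q, hq, hyq⟩ := h
    obtain ⟨uX, huV, rfl⟩ : ∃ uX : X, (uX : G) ∈ D.V ∧ φ uX = q := by
      simp only [List.mem_cons, List.not_mem_nil, or_false] at hq
      rcases hq with rfl | rfl | rfl | rfl
      · exact ⟨1, one_mem _, map_one φ⟩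
      · exact ⟨vX, hv, rfl⟩
      · exact ⟨wX, hw, by rw [hφx, hxv]⟩
      · exact ⟨vX * wX, mul_mem hv hw, by rw [map_mul, hφx, hxv]⟩
    have huu := hVsq (uX : G) huV
    have huv : Commute (uX : G) v := (D.M_eq _).1 (Odd.V_le_M D huV) v hv
    have h3 : ((xX : G) * v) ^ 3 = 1 := by
      rw [show ((xX : G) * v) ^ 3 = (xX : G) * v * (xX : G)⁻¹ *
          ((xX : G) * ((xX : G) * v * (xX : G)⁻¹) * (xX : G)⁻¹) * ((xX : G) ^ 3 * v) by
            simp only [pow_succ, pow_zero, one_mul]; group,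
        hxv', hxw', hx3', one_mul, ← mul_assoc, ← hvw, mul_assoc v w w, hVsq w hw, mul_one,
        hVsq v hv]
    have h3' : ((xX : G)⁻¹ * v) ^ 3 = 1 := by
      have e : (xX : G)⁻¹ * v = v * ((xX : G) * v)⁻¹ * v⁻¹ := by
        rw [mul_inv_rev, inv_eq_of_mul_eq_one_right (hVsq v hv), ← mul_assoc, hVsq v hv, one_mul]
      rw [e, conj_pow, inv_pow, h3, inv_one, mul_one, mul_inv_cancel]
    have main : ∀ a : X, (a : G) ^ 3 = 1 → ((a : G) * v) ^ 3 = 1 →
        φ yX = φ uX * φ a * φ uX → (y * v) ^ 3 = 1 := by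
      intro a ha hav hya
      have hui : (uX : G)⁻¹ = uX := inv_eq_of_mul_eq_one_right huu
      have e : y = (uX : G) * a * (uX : G)⁻¹ := by
        rw [hui]
        refine heq yX (uX * a * uX) (by rw [hya, map_mul, map_mul]) (pow_six_eq_one (Or.inr hy3))
          (pow_six_eq_one (Or.inr ?_))
        show ((uX : G) * a * uX) ^ 3 = 1
        nth_rw 2 [← hui]
        rw [conj_pow, ha, mul_one, mul_inv_cancel]
      rw [e, show (uX : G) * a * (uX : G)⁻¹ * v = (uX : G) * (a * v) * (uX : G)⁻¹ by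
        rw [mul_assoc _ _ v, (huv.inv_left).eq]; group, conj_pow, hav, mul_one, mul_inv_cancel]
    rcases hyq with e | e
    · exact main xX hx3' h3 e
    · exact main xX⁻¹ (by rw [Subgroup.coe_inv, inv_pow, hx3', inv_one]) h3' (by rw [map_inv]; exact e)
  · right
    intro c hcv hcx hcy
    have key : ∀ a : X, Commute c (a : G) → φ a = φ dX → c * (dX : G) = dX * c := by
      intro a hca ha
      obtain ⟨k, hk⟩ := hφ1 (dX⁻¹ * a) (by rw [map_mul, map_inv, ha, inv_mul_cancel])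
      have hae : (a : G) = dX * r ^ k := by rw [← hk]; simp
      have h5 : (a : G) ^ 5 = dX := by
        rw [hae, ((show Commute (dX : G) r from hdr).pow_right k).mul_pow, ← pow_mul, mul_comm k,
          pow_mul, hr5, one_pow, mul_one, pow_succ,
          show (dX : G) ^ 4 = ((dX : G) * dX) ^ 2 by rw [← pow_two, ← pow_mul], hd2', one_pow,
          one_mul]
      rw [← h5]
      exact (hca.pow_right 5).eq
    have cv : Commute c (vX : G) := hcv
    have cx : Commute c (xX : G) := hcx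
    have cy : Commute c (yX : G) := hcy
    have cxi : Commute c ((xX⁻¹ : X) : G) := cx.inv_right
    have cyi : Commute c ((yX⁻¹ : X) : G) := cy.inv_right
    rcases h with h | h | h | h | h | h | h
    · exact key (vX * yX * vX * xX * yX⁻¹)
        ((((cv.mul_right cy).mul_right cv).mul_right cx).mul_right cyi) (by simpa using h)
    · exact key (vX * yX * vX * xX⁻¹ * yX⁻¹)
        ((((cv.mul_right cy).mul_right cv).mul_right cxi).mul_right cyi) (by simpa using h)
    · exact key (vX * yX⁻¹ * vX * xX * yX)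
        ((((cv.mul_right cyi).mul_right cv).mul_right cx).mul_right cy) (by simpa using h)
    · exact key (vX * yX⁻¹ * vX * xX⁻¹ * yX)
        ((((cv.mul_right cyi).mul_right cv).mul_right cxi).mul_right cy) (by simpa using h)
    · exact key (xX * yX * xX⁻¹ * yX⁻¹ * xX * yX)
        (((((cx.mul_right cy).mul_right cxi).mul_right cyi).mul_right cx).mul_right cy)
        (by simpa using h)
    · exact key (vX * xX * yX * xX * vX)
        ((((cv.mul_right cx).mul_right cy).mul_right cx).mul_right cv) (by simpa using h)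
    · exact key (vX * xX * yX⁻¹ * xX * vX)
        ((((cv.mul_right cx).mul_right cyi).mul_right cx).mul_right cv) (by simpa using h)

end CfsgLib.Spor.SuzRecog
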