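import Cfsg.Agent.Lib.Spor.SuzRecog.Interface
import Cfsg.Agent.Lib.Spor.Suz.Simple

/-!
A group of the order of the Suzuki group with seven elements as in the presentation is isomorphic
to the presented group.
-/

set_option autoImplicit false
set_option linter.style.haveILetI false

namespace CfsgLib.Spor.SuzRecog

universe u

open Cfsg.Spor

/-- commuting involutions -/
theorem sq_mul_of_comm {G : Type*} [Group G] {x y : G} (hx : x * x = 1) (hy : y * y = 1)
    (h : x * y = y * x) : (x * y) ^ 2 = 1 ∧ (y * x) ^ 2 = 1 := by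
  rw [← h, pow_two, mul_assoc, ← mul_assoc y, ← h, mul_assoc x, hy, mul_one, hx]
  exact ⟨rfl, rfl⟩

/-- the order of a product of involutions is symmetric -/
theorem pow_swap {G : Type*} [Group G] {x y : G} (hx : x * x = 1) {n : ℕ} (h : (x * y) ^ n = 1) :
    (y * x) ^ n = 1 := by
  have e : y * x = x * (x * y) * x⁻¹ := by
    rw [← mul_assoc, hx, one_mul, inv_eq_of_mul_eq_one_right hx]
  rw [e, conj_pow, h, mul_one, mul_inv_cancel]

theorem isoOfGens : IsoOfGens.{u} := by
  intro G _ _ hcard a b c d e f g h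
  let φ : Suz.Gen → G := fun
    | .a => a
    | .b => b
    | .c => c
    | .d => d
    | .e => e
    | .f => f
    | .g => g
  have hrel : ∀ r ∈ coxRelators Suz.edges ∪ {r | r ∈ Suz.extra}, FreeGroup.lift φ r = 1 := by
    rintro r (⟨x, -, y, -, rfl⟩ | hr)
    · rw [map_pow, map_mul, FreeGroup.lift_apply_of, FreeGroup.lift_apply_of]
      cases x <;> cases y <;> simp only [coxLabel, Suz.edges, φ] <;> simp [List.find?] <;>
        first
          | exact h.a_sq | exact h.b_sq | exact h.c_sq | exact h.d_sq | exact h.e_sq | exact h.f_sq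
          | exact h.g_sq
          | exact h.ab | exact pow_swap h.a_sq h.ab
          | exact h.bc | exact pow_swap h.b_sq h.bc
          | exact h.cd | exact pow_swap h.c_sq h.cd
          | exact h.de | exact pow_swap h.d_sq h.de
          | exact h.bf | exact pow_swap h.b_sq h.bf
          | exact h.fg | exact pow_swap h.f_sq h.fg
          | exact h.bg | exact pow_swap h.b_sq h.bg
          | exact (sq_mul_of_comm h.a_sq h.c_sq h.ac).1 | exact (sq_mul_of_comm h.a_sq h.c_sq h.ac).2
          | exact (sq_mul_of_comm h.a_sq h.d_sq h.ad).1 | exact (sq_mul_of_comm h.a_sq h.d_sq h.ad).2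
          | exact (sq_mul_of_comm h.a_sq h.e_sq h.ae).1 | exact (sq_mul_of_comm h.a_sq h.e_sq h.ae).2
          | exact (sq_mul_of_comm h.a_sq h.f_sq h.af).1 | exact (sq_mul_of_comm h.a_sq h.f_sq h.af).2
          | exact (sq_mul_of_comm h.a_sq h.g_sq h.ag).1 | exact (sq_mul_of_comm h.a_sq h.g_sq h.ag).2
          | exact (sq_mul_of_comm h.b_sq h.d_sq h.bd).1 | exact (sq_mul_of_comm h.b_sq h.d_sq h.bd).2
          | exact (sq_mul_of_comm h.b_sq h.e_sq h.be).1 | exact (sq_mul_of_comm h.b_sq h.e_sq h.be).2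
          | exact (sq_mul_of_comm h.c_sq h.e_sq h.ce).1 | exact (sq_mul_of_comm h.c_sq h.e_sq h.ce).2
          | exact (sq_mul_of_comm h.c_sq h.f_sq h.cf).1 | exact (sq_mul_of_comm h.c_sq h.f_sq h.cf).2
          | exact (sq_mul_of_comm h.c_sq h.g_sq h.cg).1 | exact (sq_mul_of_comm h.c_sq h.g_sq h.cg).2
          | exact (sq_mul_of_comm h.d_sq h.f_sq h.df).1 | exact (sq_mul_of_comm h.d_sq h.f_sq h.df).2
          | exact (sq_mul_of_comm h.d_sq h.g_sq h.dg).1 | exact (sq_mul_of_comm h.d_sq h.g_sq h.dg).2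
          | exact (sq_mul_of_comm h.e_sq h.f_sq h.ef).1 | exact (sq_mul_of_comm h.e_sq h.f_sq h.ef).2
          | exact (sq_mul_of_comm h.e_sq h.g_sq h.eg).1 | exact (sq_mul_of_comm h.e_sq h.g_sq h.eg).2
    · simp only [Suz.extra, Set.mem_ofPred_eq, List.mem_cons, List.not_mem_nil, or_false] at hr
      rcases hr with rfl | rfl | rfl | rfl | rfl <;>
        simp only [Suz.a, Suz.b, Suz.c, Suz.d, Suz.e, Suz.f, Suz.g, map_pow, map_mul, map_inv,
          FreeGroup.lift_apply_of, φ]
      · rw [← h.a_cd, mul_inv_cancel]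
      · rw [← h.a_fg, mul_inv_cancel]
      · exact h.abcf
      · exact h.bfg
      · exact h.long
  let Φ : Cfsg.Spor.Suz →* G := PresentedGroup.toGroup hrel
  obtain ⟨hs, hc⟩ := CfsgLib.Spor.Suz.isSuz
  haveI := hs
  have hne : Φ.ker ≠ ⊤ := by
    intro htop
    have h1 : Φ (PresentedGroup.of Suz.Gen.a) = 1 :=
      MonoidHom.mem_ker.1 (htop ▸ Subgroup.mem_top _)
    rw [PresentedGroup.toGroup.of] at h1
    exact h.a_ne h1
  have hinj : Function.Injective Φ :=
    (MonoidHom.ker_eq_bot_iff Φ).1 ((Φ.normal_ker.eq_bot_or_eq_top).resolve_right hne)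
  have hbij : Function.Bijective Φ :=
    (Nat.bijective_iff_injective_and_card Φ).2 ⟨hinj, by rw [hc, hcard]⟩
  exact ⟨(MulEquiv.ofBijective Φ hbij).symm⟩

end CfsgLib.Spor.SuzRecog
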