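import Cfsg.Agent.Lib.Small.SuzTwo.Orth
import Cfsg.Prelude.Def_Spor_Suz

/-!
# Interfaces for recognising the Suzuki sporadic group by its presentation

The route is described in `tools/S1719_notes_helper1.md`.
-/

set_option autoImplicit false

namespace CfsgLib.Spor.SuzRecog

universe u

open CfsgLib.Small.SuzTwo

/-- Seven elements satisfying the relations of the presented group, the first one nontrivial. -/
structure Gens {G : Type*} [Group G] (a b c d e f g : G) : Prop where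
  a_sq : a * a = 1
  b_sq : b * b = 1
  c_sq : c * c = 1
  d_sq : d * d = 1
  e_sq : e * e = 1
  f_sq : f * f = 1
  g_sq : g * g = 1
  ab : (a * b) ^ 5 = 1
  bc : (b * c) ^ 3 = 1
  cd : (c * d) ^ 8 = 1
  de : (d * e) ^ 3 = 1
  bf : (b * f) ^ 3 = 1
  fg : (f * g) ^ 4 = 1
  bg : (b * g) ^ 3 = 1
  ac : a * c = c * a
  ad : a * d = d * a
  ae : a * e = e * a
  af : a * f = f * a
  ag : a * g = g * a
  bd : b * d = d * b
  be : b * e = e * b
  ce : c * e = e * c
  cf : c * f = f * c
  cg : c * g = g * c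
  df : d * f = f * d
  dg : d * g = g * d
  ef : e * f = f * e
  eg : e * g = g * e
  a_cd : a = (c * d) ^ 4
  a_fg : a = (f * g) ^ 2
  abcf : (a * b * c * f) ^ 5 = 1
  bfg : (b * f * g) ^ 5 = 1
  long : ((b * c * d * c * d) ^ 5 * e) ^ 3 = 1
  a_ne : a ≠ 1

/-- P1a: the presented group maps onto any group of its order with such elements. -/
def IsoOfGens : Prop :=
  ∀ (G : Type u) [Group G] [Finite G], Nat.card G = 448345497600 →
    ∀ a b c d e f g : G, Gens a b c d e f g → Cfsg.Spor.IsoSuz G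

/-- P1b: the group on four involutions with these relations is a triple cover of `A₆`. -/
def ThreeA6 : Prop :=
  ∀ (G : Type u) [Group G] (a b c c' : G), a * a = 1 → b * b = 1 → c * c = 1 → c' * c' = 1 →
    (a * b) ^ 5 = 1 → (b * c) ^ 3 = 1 → (b * c') ^ 3 = 1 → a * c = c * a → a * c' = c' * a →
    a = (c * c') ^ 2 →
    ((b * c * c') ^ 5) ^ 3 = 1 ∧ (b * c * c') ^ 5 * a = a * (b * c * c') ^ 5 ∧
      (b * c * c') ^ 5 * b = b * (b * c * c') ^ 5 ∧ (b * c * c') ^ 5 * c = c * (b * c * c') ^ 5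

/-- P1c: the shorter relation collapses the group on five involutions. -/
def Collapse : Prop :=
  ∀ (G : Type u) [Group G] (a b c d e : G), a * a = 1 → b * b = 1 → c * c = 1 → d * d = 1 →
    e * e = 1 → (a * b) ^ 5 = 1 → (b * c) ^ 3 = 1 → (c * d) ^ 8 = 1 → (d * e) ^ 3 = 1 →
    a * c = c * a → a * d = d * a → a * e = e * a → b * d = d * b → b * e = e * b →
    c * e = e * c → a = (c * d) ^ 4 → (b * c * d * c * d) ^ 5 = 1 → a = 1

/-- `L` is `PSL(3,4)`. -/
def IsL34 (L : Type u) [Group L] : Prop :=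
  ∃ (F : Type) (_ : Field F) (_ : Fintype F), Fintype.card F = 4 ∧
    Nonempty (L ≃* Matrix.ProjectiveSpecialLinearGroup (Fin 3) F)

/-- An involution, a dihedral pair above it, a further involution and an inverted element of
order five. -/
structure LConf {L : Type*} [Group L] (z f g c r : L) : Prop where
  z_sq : z * z = 1
  z_ne : z ≠ 1
  f_sq : f * f = 1
  g_sq : g * g = 1
  c_sq : c * c = 1
  c_ne : c ≠ 1
  c_ne_z : c ≠ z
  zf : z * f = f * z
  zg : z * g = g * z
  zc : z * c = c * z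
  fc : f * c = c * f
  gc : g * c = c * g
  fg : (f * g) ^ 2 = z
  r_five : r ^ 5 = 1
  r_ne : r ≠ 1
  zr : z * r * z = r⁻¹

/-- P2: in `PSL(3,4)` a configuration generates, and either `c` is superfluous or a variant
satisfies the relations. -/
def L34Facts : Prop :=
  ∀ (L : Type u) [Group L], IsL34 L → ∀ z f g c r : L, LConf z f g c r →
    Subgroup.closure {z, r, f, g, c} = ⊤ ∧
    (c ∈ Subgroup.closure {z, r, f, g} ∨
      ∃ b f' g' c' : L, b ∈ Subgroup.closure {z, r} ∧ f' ∈ Subgroup.closure {z, f, g} ∧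
        g' ∈ Subgroup.closure {z, f, g} ∧ (c' = c ∨ c' = c * z) ∧ b * b = 1 ∧ f' * f' = 1 ∧
        g' * g' = 1 ∧ (f' * g') ^ 2 = z ∧ (z * b) ^ 5 = 1 ∧ (b * c') ^ 3 = 1 ∧
        (b * f') ^ 3 = 1 ∧ (b * g') ^ 3 = 1 ∧ (z * b * c' * f') ^ 5 = 1 ∧
        (b * f' * g') ^ 5 = 1)

/-- A four group with an element of order three permuting its involutions, in the quotient. -/
structure FourTri (R : Subgroup (Equiv.Perm (Fin 64))) (v w x : Equiv.Perm (Fin 64)) : Prop where
  v_mem : v ∈ R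
  w_mem : w ∈ R
  x_mem : x ∈ R
  v_sq : v * v = 1
  v_ne : v ≠ 1
  w_ne : w ≠ v
  vw : v * w = w * v
  x_cube : x ^ 3 = 1
  xv : x * v * x⁻¹ = w
  xw : x * w * x⁻¹ = v * w

/-- P3: the fours with a large lifted centraliser, and the fixed vectors of an `A₅` above one. -/
def OrthFacts : Prop :=
  ∀ R : Subgroup (Equiv.Perm (Fin 64)), R ≤ O → Nat.card R = 25920 →
    ∀ v w x : Equiv.Perm (Fin 64), FourTri R v w x →
      256 ≤ Nat.card {p : Equiv.Perm (Fin 64) // p ∈ R ∧ p * v = v * p ∧ p * w = w * p} *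
          (2 * Nat.card {h : Fin 64 // v h = h ∧ w h = h}) →
      (∀ h : Fin 64, v h = h → w h = h → x h = h) ∧
      Nat.card {h : Fin 64 // v h = h ∧ w h = h} = 8 ∧
      ∀ d ∈ R, d * d = 1 → d ≠ v → (d * v) ^ 3 = 1 → d * x * d = x⁻¹ →
        ∃ p q h : Fin 64, v p = p ∧ w p = p ∧ d p = p ∧ qb p = false ∧
          v q = q ∧ w q = q ∧ d q = q ∧ qb q = false ∧ bl p q = true ∧
          v h = h ∧ w h = h ∧ qb h = false ∧ bl h p = false ∧ bl h q = false ∧
          h ≠ 0 ∧ bl h (d h) = true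

end CfsgLib.Spor.SuzRecog
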