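import Mathlib.Init

/-!
Certificates for the configurations in `PSL(3,4)`; matrices are numbers with nine digits in base four.
-/

set_option autoImplicit false
set_option maxRecDepth 100000

namespace CfsgLib.Spor.SuzRecog.L34

/-- conjugators of the standard involution to the others, by `64 v + u` -/
def invCert : List (Nat × Nat) := [
  (68, 82945), (72, 101377), (76, 116737), (80, 65793), (84, 82177),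
  (88, 98561), (92, 114945), (96, 66314), (100, 85505), (104, 100865),
  (108, 116225), (112, 66059), (116, 84737), (120, 100097), (124, 84226),
  (257, 82256), (258, 98672), (259, 83120), (272, 65860), (273, 82244),
  (274, 98628), (275, 115012), (288, 65932), (289, 98700), (290, 98664),
  (291, 82316), (304, 65992), (305, 82284), (306, 98652), (307, 98760),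
  (325, 82261), (330, 98677), (335, 83106), (336, 65857), (341, 82241),
  (346, 98625), (351, 115009), (352, 65930), (357, 98698), (362, 98669),
  (367, 82314), (368, 66503), (373, 82281), (378, 98649), (383, 82338),
  (582, 83073), (587, 98733), (589, 115101), (592, 65921), (598, 82305),
  (603, 98689), (605, 115073), (608, 65990), (614, 82345), (619, 98713),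
  (621, 82374), (624, 65867), (630, 82325), (635, 82251), (637, 98635),
  (839, 82409), (841, 83091), (846, 98731), (848, 65985), (855, 82369),
  (857, 98753), (862, 98719), (864, 65870), (871, 98638), (873, 82323),
  (878, 82254), (880, 65927), (887, 115079), (889, 82311), (894, 98695),
  (1025, 69904), (1026, 78112), (1027, 74032), (1028, 87060), (1029, 69908),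
  (1030, 110892), (1031, 74040), (1032, 91196), (1033, 69912), (1034, 78116),
  (1035, 90428), (1036, 120860), (1037, 69916), (1038, 78120), (1039, 74036),
  (1092, 87041), (1096, 91178), (1100, 120833), (1105, 69889), (1109, 69893),
  (1113, 69897), (1117, 69901), (1122, 70177), (1126, 105021), (1130, 104961),
  (1134, 70189), (1139, 74018), (1143, 74026), (1147, 90410), (1151, 74022),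
  (1281, 69968), (1282, 106896), (1283, 74160), (1300, 86340), (1301, 69956),
  (1302, 119108), (1303, 70468), (1320, 90508), (1321, 71000), (1322, 106892),
  (1323, 74124), (1340, 94664), (1341, 71004), (1342, 79336), (1343, 74148),
  (1349, 70981), (1354, 105537), (1359, 91298), (1361, 69953), (1364, 86337),
  (1371, 70473), (1374, 119105), (1378, 106890), (1383, 74122), (1384, 90506),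
  (1389, 74374), (1395, 74146), (1398, 76714), (1401, 70985), (1404, 109246),
  (1606, 87169), (1611, 76270), (1613, 106990), (1617, 70017), (1623, 70533),
  (1626, 70281), (1628, 119169), (1634, 90566), (1636, 112487), (1641, 72073),
  (1647, 76262), (1651, 76258), (1653, 72069), (1656, 127307), (1662, 78155),
  (1863, 71621), (1865, 90474), (1870, 121025), (1873, 70081), (1878, 86465),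
  (1880, 102849), (1887, 74070), (1890, 107082), (1893, 74314), (1899, 74062),
  (1900, 106862), (1907, 74082), (1908, 110983), (1914, 78215), (1917, 127367),
  (2116, 91137), (2120, 109569), (2124, 87083), (2130, 73985), (2134, 90369),
  (2138, 73989), (2142, 73993), (2147, 69923), (2151, 69931), (2155, 109057),
  (2159, 69927), (2161, 78098), (2165, 92929), (2169, 108289), (2173, 108317),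
  (2305, 78240), (2306, 74096), (2307, 70096), (2328, 106820), (2329, 74564),
  (2330, 74052), (2331, 90436), (2348, 111020), (2349, 86484), (2350, 74088),
  (2351, 72132), (2356, 93036), (2357, 86472), (2358, 74076), (2359, 70088),
  (2373, 91201), (2378, 94614), (2383, 76361), (2386, 74049), (2391, 90433),
  (2392, 106817), (2397, 74569), (2403, 72163), (2406, 94602), (2409, 78218),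
  (2412, 110986), (2417, 78226), (2420, 92993), (2427, 108353), (2430, 74073),
  (2630, 91265), (2635, 71023), (2637, 76681), (2642, 74113), (2644, 90497),
  (2649, 74629), (2655, 74377), (2659, 69987), (2661, 79318), (2664, 109185),
  (2670, 75145), (2673, 119115), (2679, 69963), (2682, 75141), (2684, 86347),
  (2887, 70043), (2889, 109761), (2894, 76233), (2898, 76225), (2901, 90561),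
  (2907, 106945), (2908, 112474), (2915, 70051), (2916, 127326), (2922, 76229),
  (2925, 75721), (2929, 102791), (2934, 93121), (2936, 108481), (2943, 70023),
  (3140, 95233), (3144, 113665), (3148, 91159), (3155, 78081), (3159, 78089),
  (3163, 110849), (3167, 78085), (3169, 74003), (3173, 74007), (3177, 74011),
  (3181, 90391), (3186, 69938), (3190, 109083), (3194, 69942), (3198, 69946),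
  (3329, 76272), (3330, 70032), (3331, 78176), (3356, 127300), (3357, 110916),
  (3358, 94532), (3359, 78148), (3364, 108516), (3365, 76276), (3366, 70028),
  (3367, 102796), (3384, 112476), (3385, 76280), (3386, 106952), (3387, 90568),
  (3397, 76247), (3402, 70038), (3407, 90583), (3411, 78145), (3414, 94529),
  (3417, 110913), (3420, 127297), (3425, 76243), (3428, 119178), (3435, 70278),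
  (3438, 70026), (3442, 72114), (3447, 74695), (3448, 112449), (3453, 76255),
  (3654, 95361), (3659, 74587), (3661, 71642), (3667, 78209), (3669, 94593),
  (3672, 110977), (3678, 127361), (3681, 74067), (3687, 86470), (3690, 70086),
  (3692, 102854), (3698, 90443), (3700, 106827), (3705, 74059), (3711, 74575),
  (3911, 74647), (3913, 91283), (3918, 69978), (3923, 79297), (3924, 94657),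
  (3930, 111041), (3933, 75167), (3937, 74131), (3942, 69966), (3944, 113345),
  (3951, 119118), (3954, 74371), (3957, 74119), (3963, 74635), (3964, 90503)]

/-- conjugators of the inverted elements of order five to the two representatives -/
def rCert : List (Nat × Nat × Nat) := [
  (1026, 0, 0), (1027, 1, 0), (1030, 0, 3), (1031, 1, 2), (1034, 0, 1),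
  (1035, 1, 3), (1038, 0, 2), (1039, 1, 1), (1122, 0, 16), (1126, 0, 19),
  (1130, 0, 17), (1134, 0, 18), (1139, 1, 16), (1143, 1, 18), (1147, 1, 19),
  (1151, 1, 17), (1282, 0, 4), (1283, 1, 4), (1302, 0, 55), (1303, 1, 38),
  (1322, 0, 21), (1323, 1, 55), (1342, 0, 38), (1343, 1, 21), (1354, 0, 5),
  (1359, 1, 5), (1371, 1, 39), (1374, 0, 54), (1378, 0, 20), (1383, 1, 54),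
  (1395, 1, 20), (1398, 0, 39), (1606, 0, 11), (1611, 1, 11), (1623, 1, 42),
  (1626, 0, 57), (1634, 0, 24), (1647, 1, 57), (1651, 1, 24), (1662, 0, 42),
  (1863, 1, 14), (1870, 0, 14), (1878, 0, 63), (1887, 1, 45), (1890, 0, 28),
  (1899, 1, 63), (1907, 1, 28), (1914, 0, 45), (2130, 1, 48), (2134, 1, 51),
  (2138, 1, 49), (2142, 1, 50), (2161, 0, 48), (2165, 0, 49), (2169, 0, 50),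
  (2173, 0, 51), (2305, 0, 12), (2306, 1, 12), (2329, 0, 30), (2330, 1, 61),
  (2349, 0, 47), (2350, 1, 30), (2357, 0, 61), (2358, 1, 47), (2373, 0, 13),
  (2378, 1, 13), (2386, 1, 60), (2397, 0, 31), (2406, 1, 31), (2409, 0, 46),
  (2417, 0, 60), (2430, 1, 46), (2630, 1, 7), (2637, 0, 7), (2642, 1, 52),
  (2649, 0, 22), (2661, 0, 37), (2670, 1, 22), (2673, 0, 52), (2682, 1, 37),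
  (2889, 0, 10), (2894, 1, 10), (2898, 1, 56), (2901, 0, 25), (2922, 1, 25),
  (2925, 0, 43), (2929, 0, 56), (2934, 1, 43), (3155, 0, 32), (3159, 0, 34),
  (3163, 0, 35), (3167, 0, 33), (3169, 1, 32), (3173, 1, 33), (3177, 1, 34),
  (3181, 1, 35), (3329, 1, 8), (3331, 0, 8), (3357, 1, 27), (3359, 0, 41),
  (3365, 1, 41), (3367, 0, 58), (3385, 1, 58), (3387, 0, 27), (3397, 1, 9),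
  (3407, 0, 9), (3411, 0, 40), (3417, 1, 26), (3425, 1, 40), (3435, 0, 59),
  (3447, 0, 26), (3453, 1, 59), (3659, 0, 15), (3661, 1, 15), (3667, 0, 44),
  (3669, 1, 29), (3681, 1, 44), (3687, 0, 62), (3705, 1, 62), (3711, 0, 29),
  (3911, 0, 6), (3913, 1, 6), (3923, 0, 36), (3933, 1, 23), (3937, 1, 36),
  (3951, 0, 53), (3957, 1, 53), (3963, 0, 23)]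

/-- the representatives -/
def rReps : List Nat := [74003, 78098]

/-- two generators of the whole group -/
def xyGens : List Nat := [65797, 106343]

/-- transvections as words in the two generators -/
def tCert : List (Nat × List Nat) := [
  (5, [0]),
  (6, [1, 1, 1, 0, 1, 0, 1, 1, 1, 1, 0, 1, 0, 1, 1, 1]),
  (7, [0, 1, 1, 1, 0, 1, 0, 1, 1, 1, 1, 0, 1, 0, 1, 1, 1]),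
  (9, [0, 1, 0, 1, 1, 0, 1, 1, 0, 1, 1, 1, 1, 0, 1]),
  (10, [0, 1, 1, 1, 0, 1, 0, 1, 1, 0, 1, 0, 1, 1, 1, 1, 1, 0, 1, 1]),
  (11, [0, 1, 0, 1, 0, 1, 1, 1, 0, 1, 1, 0, 1, 0, 1, 1, 0, 1, 1, 1, 1, 1]),
  (13, [1, 1, 1, 0, 1, 1, 1, 1]),
  (14, [1, 1, 1, 1, 1, 1, 0, 1, 0, 1, 1, 1, 1, 0, 1, 0]),
  (15, [0, 1, 1, 1, 0, 1, 0, 1, 1, 1, 0, 1]),
  (21, [1, 1, 1, 1, 1, 0, 1, 0, 1, 1, 1, 1, 1, 1, 0, 1, 1]),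
  (22, [1, 0, 1, 1, 0, 1, 0, 1, 1, 0, 1, 1, 0, 1, 0, 1]),
  (23, [1, 0, 1, 1, 1, 0, 1, 1, 0, 1, 1, 1, 1, 0, 1, 1, 0, 1, 1]),
  (25, [1, 1, 1, 0, 1, 1, 0, 1, 1, 1, 1, 1, 0, 1, 0, 1, 1, 0, 1, 0]),
  (26, [0, 1, 1, 0, 1, 1, 1, 1, 0, 1, 0, 1, 0, 1, 1]),
  (27, [1, 1, 1, 0, 1, 0, 1, 1, 0, 1, 1, 1, 1, 1, 0, 1, 1, 1]),
  (29, [1, 1, 0, 1, 1, 1, 1, 1, 0, 1, 0, 1, 1, 0, 1, 0, 1, 1, 1]),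
  (30, [1, 0, 1, 1, 0, 1, 0, 1, 1, 0, 1, 0, 1, 1, 1, 0, 1, 1, 1, 0, 1, 1]),
  (31, [0, 1, 1, 0, 1, 1, 0, 1, 1, 0, 1, 0, 1, 0, 1, 1])]

/-- a configuration's words for the two generators, its word for `c` or its variant -/
structure Row where
  key : Nat
  wx : List Nat
  wy : List Nat
  wc : List Nat
  var : List Nat

/-- part 0 -/
def cfg0 : List Row := [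
  ⟨4384, [2], [3, 1, 2, 3, 1, 3, 2, 1, 2, 1], [1, 2, 1, 2, 3, 1, 1, 2, 3, 1, 3, 1], []⟩,
  ⟨4400, [2], [3, 1, 2, 3, 1, 3, 2, 1, 2, 1], [0, 1, 2, 1, 2, 3, 1, 1, 2, 3, 1, 3, 1], []⟩,
  ⟨5408, [2], [0, 3, 1, 3, 2, 1, 2, 3, 1, 2, 1], [1, 0, 3, 1, 2, 3, 1, 1, 2, 3, 1, 2, 1], []⟩,
  ⟨5424, [2], [0, 3, 1, 3, 2, 1, 2, 3, 1, 2, 1], [1, 1, 2, 3, 1, 1, 2, 3, 1, 3, 2, 1, 3], []⟩,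
  ⟨6432, [2], [3, 1, 2, 1, 0, 3, 1, 3, 2, 1, 0], [1, 1, 2, 1, 2, 3, 1, 1, 3, 2, 1, 2, 1, 1, 3], []⟩,
  ⟨6448, [2], [3, 1, 2, 1, 0, 3, 1, 3, 2, 1, 0], [1, 2, 3, 1, 3, 2, 1, 2, 1, 2, 3, 1, 3, 2, 1], []⟩,
  ⟨7456, [2], [0, 3, 1, 2, 1, 3, 1, 2, 3, 1, 0], [1, 1, 3, 1, 2, 1, 3, 1, 1, 2, 1, 1, 3, 1], []⟩,
  ⟨7472, [2], [0, 3, 1, 2, 1, 3, 1, 2, 3, 1, 0], [0, 1, 1, 3, 1, 2, 1, 3, 1, 1, 2, 1, 1, 3, 1], []⟩,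
  ⟨8992, [1, 1, 2, 1, 2, 1, 1], [2, 3, 1, 1, 3, 2, 1, 3], [1, 2, 1, 2, 3, 1, 1, 2, 3, 1, 3, 1], []⟩,
  ⟨9008, [1, 1, 2, 1, 2, 1, 1], [2, 3, 1, 1, 3, 2, 1, 3], [0, 1, 2, 1, 2, 3, 1, 1, 2, 3, 1, 3, 1], []⟩,
  ⟨10016, [1, 1, 2, 1, 2, 1, 1], [3, 2, 1, 1, 2, 3, 1, 0, 3], [1, 0, 3, 1, 2, 3, 1, 1, 2, 3, 1, 2, 1], []⟩,
  ⟨10032, [1, 1, 2, 1, 2, 1, 1], [3, 2, 1, 1, 2, 3, 1, 0, 3], [1, 1, 2, 3, 1, 1, 2, 3, 1, 3, 2, 1, 3], []⟩,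
  ⟨11040, [1, 1, 2, 1, 2, 1, 1], [1, 1, 3, 1, 2], [1, 1, 2, 1, 2, 3, 1, 1, 3, 2, 1, 2, 1, 1, 3], []⟩,
  ⟨11056, [1, 1, 2, 1, 2, 1, 1], [1, 1, 3, 1, 2], [1, 2, 3, 1, 3, 2, 1, 2, 1, 2, 3, 1, 3, 2, 1], []⟩,
  ⟨12064, [1, 1, 2, 1, 2, 1, 1], [1, 3, 1, 3, 2], [1, 1, 3, 1, 2, 1, 3, 1, 1, 2, 1, 1, 3, 1], []⟩,
  ⟨12080, [1, 1, 2, 1, 2, 1, 1], [1, 3, 1, 3, 2], [0, 1, 1, 3, 1, 2, 1, 3, 1, 1, 2, 1, 1, 3, 1], []⟩,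
  ⟨12832, [1, 2, 1, 1, 1, 2, 1], [3, 1, 2, 1, 2, 3, 1, 3, 1, 2, 3], [1, 2, 1, 2, 3, 1, 1, 2, 3, 1, 3, 1], []⟩,
  ⟨12848, [1, 2, 1, 1, 1, 2, 1], [3, 1, 2, 1, 2, 3, 1, 3, 1, 2, 3], [0, 1, 2, 1, 2, 3, 1, 1, 2, 3, 1, 3, 1], []⟩,
  ⟨13856, [1, 2, 1, 1, 1, 2, 1], [1, 3, 1, 1, 2, 1, 1, 3, 1, 1, 3], [1, 0, 3, 1, 2, 3, 1, 1, 2, 3, 1, 2, 1], []⟩,
  ⟨13872, [1, 2, 1, 1, 1, 2, 1], [1, 3, 1, 1, 2, 1, 1, 3, 1, 1, 3], [1, 1, 2, 3, 1, 1, 2, 3, 1, 3, 2, 1, 3], []⟩,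
  ⟨14880, [1, 2, 1, 1, 1, 2, 1], [1, 3, 1, 2, 1, 2, 3, 1, 3, 2], [1, 1, 2, 1, 2, 3, 1, 1, 3, 2, 1, 2, 1, 1, 3], []⟩,
  ⟨14896, [1, 2, 1, 1, 1, 2, 1], [1, 3, 1, 2, 1, 2, 3, 1, 3, 2], [1, 2, 3, 1, 3, 2, 1, 2, 1, 2, 3, 1, 3, 2, 1], []⟩,
  ⟨15904, [1, 2, 1, 1, 1, 2, 1], [3, 1, 3, 2, 1, 3, 2, 1, 2, 3], [1, 1, 3, 1, 2, 1, 3, 1, 1, 2, 1, 1, 3, 1], []⟩,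
  ⟨15920, [1, 2, 1, 1, 1, 2, 1], [3, 1, 3, 2, 1, 3, 2, 1, 2, 3], [0, 1, 1, 3, 1, 2, 1, 3, 1, 1, 2, 1, 1, 3, 1], []⟩,
  ⟨16480, [3], [2, 1, 3, 2, 1, 2, 3, 1, 3, 1], [1, 2, 1, 2, 3, 1, 1, 2, 3, 1, 3, 1], []⟩,
  ⟨16496, [3], [2, 1, 3, 2, 1, 2, 3, 1, 3, 1], [0, 1, 2, 1, 2, 3, 1, 1, 2, 3, 1, 3, 1], []⟩,
  ⟨17504, [0, 3], [2, 1, 1, 2, 3, 1, 2, 3, 1, 2, 1], [1, 0, 3, 1, 2, 3, 1, 1, 2, 3, 1, 2, 1], []⟩,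
  ⟨17520, [0, 3], [2, 1, 1, 2, 3, 1, 2, 3, 1, 2, 1], [1, 1, 2, 3, 1, 1, 2, 3, 1, 3, 2, 1, 3], []⟩,
  ⟨18528, [1, 1, 2, 1, 2, 3, 1, 1, 3, 2, 1, 2, 1, 1], [1, 2, 1, 2, 3, 1, 1, 2, 3, 1, 1, 0, 3], [1, 1, 2, 1, 2, 3, 1, 1, 3, 2, 1, 2, 1, 1, 3], []⟩,
  ⟨18544, [1, 1, 2, 1, 2, 3, 1, 1, 3, 2, 1, 2, 1, 1], [1, 2, 1, 2, 3, 1, 1, 2, 3, 1, 1, 0, 3], [1, 2, 3, 1, 3, 2, 1, 2, 1, 2, 3, 1, 3, 2, 1], []⟩,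
  ⟨19552, [1, 1, 2, 1, 3, 2, 1, 1, 2, 3, 1, 2, 1, 1], [1, 2, 1, 3, 2, 1, 1, 3, 2, 1, 1, 3], [1, 1, 3, 1, 2, 1, 3, 1, 1, 2, 1, 1, 3, 1], []⟩,
  ⟨19568, [1, 1, 2, 1, 3, 2, 1, 1, 2, 3, 1, 2, 1, 1], [1, 2, 1, 3, 2, 1, 1, 3, 2, 1, 1, 3], [0, 1, 1, 3, 1, 2, 1, 3, 1, 1, 2, 1, 1, 3, 1], []⟩,
  ⟨32992, [1, 3, 1, 1, 1, 3, 1], [2, 1, 3, 1, 3, 2, 1, 2, 1, 3, 2], [1, 2, 1, 2, 3, 1, 1, 2, 3, 1, 3, 1], []⟩,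
  ⟨33008, [1, 3, 1, 1, 1, 3, 1], [2, 1, 3, 1, 3, 2, 1, 2, 1, 3, 2], [0, 1, 2, 1, 2, 3, 1, 1, 2, 3, 1, 3, 1], []⟩,
  ⟨34016, [1, 3, 1, 1, 3, 1], [0, 1, 1, 3, 1, 1, 2, 1, 1, 3, 1, 2], [1, 0, 3, 1, 2, 3, 1, 1, 2, 3, 1, 2, 1], []⟩,
  ⟨34032, [1, 3, 1, 1, 3, 1], [0, 1, 1, 3, 1, 1, 2, 1, 1, 3, 1, 2], [1, 1, 2, 3, 1, 1, 2, 3, 1, 3, 2, 1, 3], []⟩,
  ⟨35040, [1, 1, 0, 3, 1, 2, 1, 1, 1, 3, 1, 2], [1, 1, 2, 3, 1, 1, 2, 3, 1, 1, 2], [1, 1, 2, 1, 2, 3, 1, 1, 3, 2, 1, 2, 1, 1, 3], []⟩,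
  ⟨35056, [1, 1, 0, 3, 1, 2, 1, 1, 1, 3, 1, 2], [1, 1, 2, 3, 1, 1, 2, 3, 1, 1, 2], [1, 2, 3, 1, 3, 2, 1, 2, 1, 2, 3, 1, 3, 2, 1], []⟩,
  ⟨36064, [1, 1, 3, 1, 0, 2, 1, 1, 3, 1, 2], [1, 1, 3, 2, 1, 1, 3, 2, 1, 1, 2], [1, 1, 3, 1, 2, 1, 3, 1, 1, 2, 1, 1, 3, 1], []⟩,
  ⟨36080, [1, 1, 3, 1, 0, 2, 1, 1, 3, 1, 2], [1, 1, 3, 2, 1, 1, 3, 2, 1, 1, 2], [0, 1, 1, 3, 1, 2, 1, 3, 1, 1, 2, 1, 1, 3, 1], []⟩,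
  ⟨49312, [1, 1, 3, 1, 3, 1, 1], [3, 2, 1, 1, 2, 3, 1, 2], [1, 2, 1, 2, 3, 1, 1, 2, 3, 1, 3, 1], []⟩,
  ⟨49328, [1, 1, 3, 1, 3, 1, 1], [3, 2, 1, 1, 2, 3, 1, 2], [0, 1, 2, 1, 2, 3, 1, 1, 2, 3, 1, 3, 1], []⟩,
  ⟨50336, [0, 1, 3, 1, 1, 3, 1, 3], [2, 3, 1, 1, 3, 2, 1, 2], [1, 0, 3, 1, 2, 3, 1, 1, 2, 3, 1, 2, 1], []⟩,
  ⟨50352, [0, 1, 3, 1, 1, 3, 1, 3], [2, 3, 1, 1, 3, 2, 1, 2], [1, 1, 2, 3, 1, 1, 2, 3, 1, 3, 2, 1, 3], []⟩,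
  ⟨51360, [1, 0, 3, 1, 1, 2, 1, 3, 1, 1, 1, 2], [2, 1, 0, 3, 1, 0, 2, 1, 1, 2, 3, 1], [1, 1, 2, 1, 2, 3, 1, 1, 3, 2, 1, 2, 1, 1, 3], []⟩,
  ⟨51376, [1, 0, 3, 1, 1, 2, 1, 3, 1, 1, 1, 2], [2, 1, 0, 3, 1, 0, 2, 1, 1, 2, 3, 1], [1, 2, 3, 1, 3, 2, 1, 2, 1, 2, 3, 1, 3, 2, 1], []⟩,
  ⟨52384, [0, 1, 3, 1, 1, 2, 1, 3, 1, 1, 2], [2, 1, 3, 1, 0, 2, 1, 1, 3, 2, 1], [1, 1, 3, 1, 2, 1, 3, 1, 1, 2, 1, 1, 3, 1], []⟩,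
  ⟨52400, [0, 1, 3, 1, 1, 2, 1, 3, 1, 1, 2], [2, 1, 3, 1, 0, 2, 1, 1, 3, 2, 1], [0, 1, 1, 3, 1, 2, 1, 3, 1, 1, 2, 1, 1, 3, 1], []⟩,
  ⟨69920, [0, 2], [3, 1, 1, 3, 2, 1, 3, 2, 1, 3, 1], [1, 0, 2, 1, 3, 2, 1, 1, 3, 2, 1, 3, 1], []⟩,
  ⟨69936, [0, 2], [3, 1, 1, 3, 2, 1, 3, 2, 1, 3, 1], [1, 1, 3, 2, 1, 1, 3, 2, 1, 2, 3, 1, 2], []⟩,
  ⟨70944, [0, 2], [2, 3, 1, 0, 3, 1, 1, 2, 1, 1, 3], [0, 1, 1, 2, 3, 1, 1, 2, 3, 1, 3, 2, 1, 2], []⟩,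
  ⟨70960, [0, 2], [2, 3, 1, 0, 3, 1, 1, 2, 1, 1, 3], [1, 1, 2, 3, 1, 1, 2, 3, 1, 3, 2, 1, 2], []⟩,
  ⟨71968, [0, 2], [3, 1, 0, 2, 1, 1, 3, 1, 2, 1, 0], [1, 2, 1, 1, 2, 1, 3, 1, 2, 1, 1, 2, 1, 3], []⟩,
  ⟨71984, [0, 2], [3, 1, 0, 2, 1, 1, 3, 1, 2, 1, 0], [0, 1, 2, 1, 1, 2, 1, 3, 1, 2, 1, 1, 2, 1, 3], []⟩,
  ⟨72992, [0, 2], [0, 3, 1, 0, 2, 1, 3, 1, 3, 2, 1, 0], [1, 2, 1, 1, 2, 1, 3, 1, 2, 1, 1, 2, 1, 3], []⟩,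
  ⟨73008, [0, 2], [0, 3, 1, 0, 2, 1, 3, 1, 3, 2, 1, 0], [1, 1, 3, 1, 2, 1, 3, 1, 1, 2, 1, 1, 3, 1], []⟩,
  ⟨74528, [0, 1, 2, 1, 1, 2, 1, 2], [3, 2, 1, 1, 2, 3, 1, 3], [1, 0, 2, 1, 3, 2, 1, 1, 3, 2, 1, 3, 1], []⟩,
  ⟨74544, [0, 1, 2, 1, 1, 2, 1, 2], [3, 2, 1, 1, 2, 3, 1, 3], [1, 1, 3, 2, 1, 1, 3, 2, 1, 2, 3, 1, 2], []⟩,
  ⟨75552, [0, 1, 2, 1, 1, 2, 1, 2], [2, 3, 1, 1, 3, 2, 1, 0, 3], [0, 1, 1, 2, 3, 1, 1, 2, 3, 1, 3, 2, 1, 2], []⟩,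
  ⟨75568, [0, 1, 2, 1, 1, 2, 1, 2], [2, 3, 1, 1, 3, 2, 1, 0, 3], [1, 1, 2, 3, 1, 1, 2, 3, 1, 3, 2, 1, 2], []⟩,
  ⟨76576, [0, 1, 2, 1, 1, 2, 1, 2], [1, 0, 3, 1, 3, 2], [1, 2, 1, 1, 2, 1, 3, 1, 2, 1, 1, 2, 1, 3], []⟩,
  ⟨76592, [0, 1, 2, 1, 1, 2, 1, 2], [1, 0, 3, 1, 3, 2], [0, 1, 2, 1, 1, 2, 1, 3, 1, 2, 1, 1, 2, 1, 3], []⟩,
  ⟨77600, [0, 1, 2, 1, 1, 2, 1, 2], [1, 3, 1, 2, 3], [1, 2, 1, 1, 2, 1, 3, 1, 2, 1, 1, 2, 1, 3], []⟩,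
  ⟨77616, [0, 1, 2, 1, 1, 2, 1, 2], [1, 3, 1, 2, 3], [1, 1, 3, 1, 2, 1, 3, 1, 1, 2, 1, 1, 3, 1], []⟩]

/-- part 1 -/
def cfg1 : List Row := [
  ⟨78368, [1, 2, 1, 1, 2, 1], [0, 1, 1, 2, 1, 1, 3, 1, 1, 2, 1, 3], [1, 0, 2, 1, 3, 2, 1, 1, 3, 2, 1, 3, 1], []⟩,
  ⟨78384, [1, 2, 1, 1, 2, 1], [0, 1, 1, 2, 1, 1, 3, 1, 1, 2, 1, 3], [1, 1, 3, 2, 1, 1, 3, 2, 1, 2, 3, 1, 2], []⟩,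
  ⟨79392, [1, 2, 1, 1, 2, 1], [1, 3, 1, 1, 0, 2, 1, 1, 3, 1, 1, 3], [0, 1, 1, 2, 3, 1, 1, 2, 3, 1, 3, 2, 1, 2], []⟩,
  ⟨79408, [1, 2, 1, 1, 2, 1], [1, 3, 1, 1, 0, 2, 1, 1, 3, 1, 1, 3], [1, 1, 2, 3, 1, 1, 2, 3, 1, 3, 2, 1, 2], []⟩,
  ⟨80416, [1, 2, 1, 1, 2, 1], [1, 3, 1, 1, 2, 1, 3, 2, 1, 2], [1, 2, 1, 1, 2, 1, 3, 1, 2, 1, 1, 2, 1, 3], []⟩,
  ⟨80432, [1, 2, 1, 1, 2, 1], [1, 3, 1, 1, 2, 1, 3, 2, 1, 2], [0, 1, 2, 1, 1, 2, 1, 3, 1, 2, 1, 1, 2, 1, 3], []⟩,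
  ⟨81440, [1, 2, 1, 1, 2, 1], [3, 1, 2, 3, 1, 2, 3, 1, 3, 2], [1, 2, 1, 1, 2, 1, 3, 1, 2, 1, 1, 2, 1, 3], []⟩,
  ⟨81456, [1, 2, 1, 1, 2, 1], [3, 1, 2, 3, 1, 2, 3, 1, 3, 2], [1, 1, 3, 1, 2, 1, 3, 1, 1, 2, 1, 1, 3, 1], []⟩,
  ⟨82016, [3], [0, 2, 1, 2, 3, 1, 3, 2, 1, 3, 1], [1, 0, 2, 1, 3, 2, 1, 1, 3, 2, 1, 3, 1], []⟩,
  ⟨82032, [3], [0, 2, 1, 2, 3, 1, 3, 2, 1, 3, 1], [1, 1, 3, 2, 1, 1, 3, 2, 1, 2, 3, 1, 2], []⟩,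
  ⟨83040, [0, 3], [3, 2, 1, 0, 2, 1, 1, 3, 1, 1, 2], [0, 1, 1, 2, 3, 1, 1, 2, 3, 1, 3, 2, 1, 2], []⟩,
  ⟨83056, [0, 3], [3, 2, 1, 0, 2, 1, 1, 3, 1, 1, 2], [1, 1, 2, 3, 1, 1, 2, 3, 1, 3, 2, 1, 2], []⟩,
  ⟨84064, [1, 2, 1, 1, 2, 1, 3, 1, 2, 1, 1, 2, 1], [2, 1, 1, 2, 1, 3, 1, 1, 2, 1, 1, 2, 3], [1, 2, 1, 1, 2, 1, 3, 1, 2, 1, 1, 2, 1, 3], []⟩,
  ⟨84080, [1, 2, 1, 1, 2, 1, 3, 1, 2, 1, 1, 2, 1], [2, 1, 1, 2, 1, 3, 1, 1, 2, 1, 1, 2, 3], [0, 1, 2, 1, 1, 2, 1, 3, 1, 2, 1, 1, 2, 1, 3], []⟩,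
  ⟨85088, [1, 2, 1, 1, 2, 3, 1, 3, 2, 1, 1, 2, 1], [1, 0, 2, 1, 2, 3, 1, 1, 2, 3, 1, 1, 3], [1, 2, 1, 1, 2, 1, 3, 1, 2, 1, 1, 2, 1, 3], []⟩,
  ⟨85104, [1, 2, 1, 1, 2, 3, 1, 3, 2, 1, 1, 2, 1], [1, 0, 2, 1, 2, 3, 1, 1, 2, 3, 1, 1, 3], [1, 1, 3, 1, 2, 1, 3, 1, 1, 2, 1, 1, 3, 1], []⟩,
  ⟨98528, [1, 3, 1, 1, 1, 3, 1], [1, 2, 1, 1, 3, 1, 1, 2, 1, 1, 2], [1, 0, 2, 1, 3, 2, 1, 1, 3, 2, 1, 3, 1], []⟩,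
  ⟨98544, [1, 3, 1, 1, 1, 3, 1], [1, 2, 1, 1, 3, 1, 1, 2, 1, 1, 2], [1, 1, 3, 2, 1, 1, 3, 2, 1, 2, 3, 1, 2], []⟩,
  ⟨99552, [1, 3, 1, 1, 3, 1], [1, 2, 1, 1, 0, 3, 1, 1, 2, 1, 1, 2], [0, 1, 1, 2, 3, 1, 1, 2, 3, 1, 3, 2, 1, 2], []⟩,
  ⟨99568, [1, 3, 1, 1, 3, 1], [1, 2, 1, 1, 0, 3, 1, 1, 2, 1, 1, 2], [1, 1, 2, 3, 1, 1, 2, 3, 1, 3, 2, 1, 2], []⟩,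
  ⟨100576, [1, 1, 1, 3, 1, 2, 1, 1, 0, 3, 1, 2], [1, 1, 3, 2, 1, 1, 2, 3, 1, 1, 1, 2], [1, 2, 1, 1, 2, 1, 3, 1, 2, 1, 1, 2, 1, 3], []⟩,
  ⟨100592, [1, 1, 1, 3, 1, 2, 1, 1, 0, 3, 1, 2], [1, 1, 3, 2, 1, 1, 2, 3, 1, 1, 1, 2], [0, 1, 2, 1, 1, 2, 1, 3, 1, 2, 1, 1, 2, 1, 3], []⟩,
  ⟨101600, [0, 1, 1, 3, 1, 2, 1, 1, 3, 1, 2], [1, 1, 2, 3, 1, 1, 2, 3, 1, 1, 0, 2], [1, 2, 1, 1, 2, 1, 3, 1, 2, 1, 1, 2, 1, 3], []⟩,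
  ⟨101616, [0, 1, 1, 3, 1, 2, 1, 1, 3, 1, 2], [1, 1, 2, 3, 1, 1, 2, 3, 1, 1, 0, 2], [1, 1, 3, 1, 2, 1, 3, 1, 1, 2, 1, 1, 3, 1], []⟩,
  ⟨114848, [1, 1, 3, 1, 3, 1, 1], [2, 3, 1, 1, 3, 2, 1, 0, 2], [1, 0, 2, 1, 3, 2, 1, 1, 3, 2, 1, 3, 1], []⟩,
  ⟨114864, [1, 1, 3, 1, 3, 1, 1], [2, 3, 1, 1, 3, 2, 1, 0, 2], [1, 1, 3, 2, 1, 1, 3, 2, 1, 2, 3, 1, 2], []⟩,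
  ⟨115872, [0, 1, 3, 1, 1, 3, 1, 3], [3, 2, 1, 1, 2, 3, 1, 0, 2], [0, 1, 1, 2, 3, 1, 1, 2, 3, 1, 3, 2, 1, 2], []⟩,
  ⟨115888, [0, 1, 3, 1, 1, 3, 1, 3], [3, 2, 1, 1, 2, 3, 1, 0, 2], [1, 1, 2, 3, 1, 1, 2, 3, 1, 3, 2, 1, 2], []⟩,
  ⟨116896, [1, 3, 1, 1, 1, 2, 1, 0, 3, 1, 1, 2], [0, 2, 1, 0, 3, 1, 2, 1, 1, 3, 2, 1], [1, 2, 1, 1, 2, 1, 3, 1, 2, 1, 1, 2, 1, 3], []⟩,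
  ⟨116912, [1, 3, 1, 1, 1, 2, 1, 0, 3, 1, 1, 2], [0, 2, 1, 0, 3, 1, 2, 1, 1, 3, 2, 1], [0, 1, 2, 1, 1, 2, 1, 3, 1, 2, 1, 1, 2, 1, 3], []⟩,
  ⟨117920, [1, 3, 1, 1, 0, 2, 1, 3, 1, 1, 2], [0, 2, 1, 3, 1, 2, 1, 1, 2, 3, 1], [1, 2, 1, 1, 2, 1, 3, 1, 2, 1, 1, 2, 1, 3], []⟩,
  ⟨117936, [1, 3, 1, 1, 0, 2, 1, 3, 1, 1, 2], [0, 2, 1, 3, 1, 2, 1, 1, 2, 3, 1], [1, 1, 3, 1, 2, 1, 3, 1, 1, 2, 1, 1, 3, 1], []⟩,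
  ⟨135456, [1, 1, 3, 1, 3, 2, 1, 1, 2, 3, 1, 3, 1, 1], [1, 3, 1, 3, 2, 1, 1, 2, 3, 1, 1, 1, 2], [1, 1, 3, 1, 3, 2, 1, 1, 2, 3, 1, 3, 1, 1, 2], []⟩,
  ⟨135472, [1, 1, 3, 1, 3, 2, 1, 1, 2, 3, 1, 3, 1, 1], [1, 3, 1, 3, 2, 1, 1, 2, 3, 1, 1, 1, 2], [1, 3, 2, 1, 2, 3, 1, 3, 1, 3, 2, 1, 2, 3, 1], []⟩,
  ⟨136480, [1, 3, 1, 1, 2, 3, 1, 3, 2, 1, 1, 3, 1], [3, 1, 1, 3, 1, 2, 1, 1, 3, 1, 1, 3, 2], [1, 3, 1, 1, 2, 3, 1, 3, 2, 1, 1, 3, 1, 2], []⟩,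
  ⟨136496, [1, 3, 1, 1, 2, 3, 1, 3, 2, 1, 1, 3, 1], [3, 1, 1, 3, 1, 2, 1, 1, 3, 1, 1, 3, 2], [0, 1, 3, 1, 1, 2, 3, 1, 3, 2, 1, 1, 3, 1, 2], []⟩,
  ⟨137504, [2, 4], [0, 4, 1, 0, 2, 1, 2, 3, 4, 1], [], [4, 3, 1, 1]⟩,
  ⟨137520, [0, 2, 4], [4, 1, 1, 2, 1, 3, 4, 1], [], [4, 3, 1, 0]⟩,
  ⟨138528, [2, 4], [0, 4, 1, 1, 2, 1, 3, 4, 1], [], [4, 2, 1, 1]⟩,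
  ⟨138544, [0, 2, 4], [4, 1, 0, 2, 1, 2, 3, 4, 1], [], [4, 2, 1, 0]⟩,
  ⟨140064, [1, 0, 2, 1, 1, 3, 1, 2, 1, 1, 1, 3], [3, 1, 0, 2, 1, 0, 3, 1, 1, 3, 2, 1], [1, 1, 3, 1, 3, 2, 1, 1, 2, 3, 1, 3, 1, 1, 2], []⟩,
  ⟨140080, [1, 0, 2, 1, 1, 3, 1, 2, 1, 1, 1, 3], [3, 1, 0, 2, 1, 0, 3, 1, 1, 3, 2, 1], [1, 3, 2, 1, 2, 3, 1, 3, 1, 3, 2, 1, 2, 3, 1], []⟩,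
  ⟨141088, [1, 2, 1, 1, 1, 3, 1, 0, 2, 1, 1, 3], [0, 3, 1, 0, 2, 1, 3, 1, 1, 2, 3, 1], [1, 3, 1, 1, 2, 3, 1, 3, 2, 1, 1, 3, 1, 2], []⟩,
  ⟨141104, [1, 2, 1, 1, 1, 3, 1, 0, 2, 1, 1, 3], [0, 3, 1, 0, 2, 1, 3, 1, 1, 2, 3, 1], [0, 1, 3, 1, 1, 2, 3, 1, 3, 2, 1, 1, 3, 1, 2], []⟩,
  ⟨142112, [1, 1, 2, 4, 1, 2, 4, 1, 1], [1, 1, 3, 1, 2, 4], [], [4, 3, 1, 1]⟩,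
  ⟨142128, [1, 1, 4, 1, 2, 1, 4, 1, 1], [1, 0, 3, 1, 3, 2, 4], [], [4, 3, 1, 0]⟩,
  ⟨143136, [1, 1, 2, 4, 1, 2, 4, 1, 1], [1, 3, 1, 3, 2, 4], [], [4, 2, 1, 1]⟩,
  ⟨143152, [1, 1, 4, 1, 2, 1, 4, 1, 1], [1, 3, 1, 2, 3, 4], [], [4, 2, 1, 0]⟩,
  ⟨143904, [1, 1, 0, 2, 1, 3, 1, 1, 1, 2, 1, 3], [1, 1, 3, 2, 1, 1, 3, 2, 1, 1, 3], [1, 1, 3, 1, 3, 2, 1, 1, 2, 3, 1, 3, 1, 1, 2], []⟩,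
  ⟨143920, [1, 1, 0, 2, 1, 3, 1, 1, 1, 2, 1, 3], [1, 1, 3, 2, 1, 1, 3, 2, 1, 1, 3], [1, 3, 2, 1, 2, 3, 1, 3, 1, 3, 2, 1, 2, 3, 1], []⟩,
  ⟨144928, [1, 1, 1, 2, 1, 3, 1, 1, 0, 2, 1, 3], [1, 1, 2, 3, 1, 1, 2, 3, 1, 1, 0, 3], [1, 3, 1, 1, 2, 3, 1, 3, 2, 1, 1, 3, 1, 2], []⟩,
  ⟨144944, [1, 1, 1, 2, 1, 3, 1, 1, 0, 2, 1, 3], [1, 1, 2, 3, 1, 1, 2, 3, 1, 1, 0, 3], [0, 1, 3, 1, 1, 2, 3, 1, 3, 2, 1, 1, 3, 1, 2], []⟩,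
  ⟨145952, [1, 2, 4, 1, 1, 1, 2, 4, 1], [1, 2, 4, 1, 2, 3, 1, 4, 1, 1, 0], [], [4, 3, 1, 1]⟩,
  ⟨145968, [1, 2, 4, 1, 1, 2, 4, 1], [1, 0, 2, 4, 1, 2, 3, 1, 4, 1, 1, 1], [], [4, 3, 1, 0]⟩,
  ⟨146976, [1, 2, 4, 1, 1, 1, 2, 4, 1], [1, 2, 4, 1, 3, 2, 1, 4, 1, 1, 0], [], [4, 2, 1, 1]⟩,
  ⟨146992, [1, 2, 4, 1, 1, 2, 4, 1], [1, 4, 1, 2, 1, 3, 1, 4, 1, 1, 1], [], [4, 2, 1, 0]⟩,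
  ⟨147552, [3], [2, 1, 3, 1, 0, 2, 1, 2, 3, 1, 0], [1, 1, 3, 1, 3, 2, 1, 1, 2, 3, 1, 3, 1, 1, 2], []⟩,
  ⟨147568, [3], [2, 1, 3, 1, 0, 2, 1, 2, 3, 1, 0], [1, 3, 2, 1, 2, 3, 1, 3, 1, 3, 2, 1, 2, 3, 1], []⟩,
  ⟨148576, [0, 3], [2, 1, 0, 3, 1, 1, 2, 1, 3, 1, 0], [1, 3, 1, 1, 2, 3, 1, 3, 2, 1, 1, 3, 1, 2], []⟩,
  ⟨148592, [0, 3], [2, 1, 0, 3, 1, 1, 2, 1, 3, 1, 0], [0, 1, 3, 1, 1, 2, 3, 1, 3, 2, 1, 1, 3, 1, 2], []⟩,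
  ⟨149600, [3, 4], [0, 4, 1, 0, 3, 1, 3, 2, 4, 1], [], [4, 3, 1, 1]⟩,
  ⟨149616, [0, 3, 4], [4, 1, 1, 3, 1, 2, 4, 1], [], [4, 3, 1, 0]⟩,
  ⟨150624, [0, 3, 4], [0, 4, 1, 3, 1, 2, 3, 4, 1], [], [4, 2, 1, 1]⟩,
  ⟨150640, [3, 4], [4, 1, 3, 1, 3, 2, 4, 1], [], [4, 2, 1, 0]⟩]

/-- part 2 -/
def cfg2 : List Row := [
  ⟨164064, [1, 3, 1, 1, 1, 3, 1], [1, 2, 1, 3, 1, 3, 2, 1, 2, 3], [1, 1, 3, 1, 3, 2, 1, 1, 2, 3, 1, 3, 1, 1, 2], []⟩,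
  ⟨164080, [1, 3, 1, 1, 1, 3, 1], [1, 2, 1, 3, 1, 3, 2, 1, 2, 3], [1, 3, 2, 1, 2, 3, 1, 3, 1, 3, 2, 1, 2, 3, 1], []⟩,
  ⟨165088, [1, 3, 1, 1, 3, 1], [1, 2, 1, 1, 3, 1, 2, 3, 1, 3], [1, 3, 1, 1, 2, 3, 1, 3, 2, 1, 1, 3, 1, 2], []⟩,
  ⟨165104, [1, 3, 1, 1, 3, 1], [1, 2, 1, 1, 3, 1, 2, 3, 1, 3], [0, 1, 3, 1, 1, 2, 3, 1, 3, 2, 1, 1, 3, 1, 2], []⟩,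
  ⟨166112, [1, 3, 4, 1, 1, 1, 3, 4, 1], [1, 3, 4, 1, 3, 2, 1, 4, 1, 1, 0], [], [4, 3, 1, 1]⟩,
  ⟨166128, [1, 3, 4, 1, 1, 3, 4, 1], [1, 0, 3, 4, 1, 3, 2, 1, 4, 1, 1, 1], [], [4, 3, 1, 0]⟩,
  ⟨167136, [1, 3, 4, 1, 1, 3, 4, 1], [1, 0, 3, 4, 1, 2, 3, 1, 4, 1, 1, 0], [], [4, 2, 1, 1]⟩,
  ⟨167152, [1, 3, 1, 1, 4, 1, 1, 3, 1], [1, 3, 4, 1, 2, 3, 1, 4, 1, 1, 1], [], [4, 2, 1, 0]⟩,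
  ⟨180384, [1, 1, 3, 1, 3, 1, 1], [1, 1, 2, 1, 3], [1, 1, 3, 1, 3, 2, 1, 1, 2, 3, 1, 3, 1, 1, 2], []⟩,
  ⟨180400, [1, 1, 3, 1, 3, 1, 1], [1, 1, 2, 1, 3], [1, 3, 2, 1, 2, 3, 1, 3, 1, 3, 2, 1, 2, 3, 1], []⟩,
  ⟨181408, [0, 1, 3, 1, 1, 3, 1, 3], [1, 0, 2, 1, 2, 3], [1, 3, 1, 1, 2, 3, 1, 3, 2, 1, 1, 3, 1, 2], []⟩,
  ⟨181424, [0, 1, 3, 1, 1, 3, 1, 3], [1, 0, 2, 1, 2, 3], [0, 1, 3, 1, 1, 2, 3, 1, 3, 2, 1, 1, 3, 1, 2], []⟩,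
  ⟨182432, [1, 1, 3, 4, 1, 3, 4, 1, 1], [1, 1, 2, 1, 3, 4], [], [4, 3, 1, 1]⟩,
  ⟨182448, [1, 1, 4, 1, 3, 1, 4, 1, 1], [1, 0, 2, 1, 2, 3, 4], [], [4, 3, 1, 0]⟩,
  ⟨183456, [1, 1, 3, 1, 4, 1, 3, 1, 1], [1, 0, 2, 1, 2, 3, 4], [], [4, 2, 1, 1]⟩,
  ⟨183472, [1, 1, 3, 4, 1, 3, 4, 1, 1], [1, 1, 2, 1, 3, 4], [], [4, 2, 1, 0]⟩,
  ⟨200992, [1, 1, 3, 1, 2, 3, 1, 1, 3, 2, 1, 3, 1, 1], [1, 3, 1, 2, 3, 1, 1, 2, 3, 1, 1, 2], [1, 1, 2, 1, 3, 1, 2, 1, 1, 3, 1, 1, 2, 1], []⟩,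
  ⟨201008, [1, 1, 3, 1, 2, 3, 1, 1, 3, 2, 1, 3, 1, 1], [1, 3, 1, 2, 3, 1, 1, 2, 3, 1, 1, 2], [0, 1, 1, 2, 1, 3, 1, 2, 1, 1, 3, 1, 1, 2, 1], []⟩,
  ⟨202016, [1, 3, 1, 1, 3, 2, 1, 2, 3, 1, 1, 3, 1], [1, 0, 3, 1, 3, 2, 1, 1, 3, 2, 1, 1, 2], [1, 3, 1, 1, 3, 1, 2, 1, 3, 1, 1, 3, 1, 2], []⟩,
  ⟨202032, [1, 3, 1, 1, 3, 2, 1, 2, 3, 1, 1, 3, 1], [1, 0, 3, 1, 3, 2, 1, 1, 3, 2, 1, 1, 2], [1, 1, 2, 1, 3, 1, 2, 1, 1, 3, 1, 1, 2, 1], []⟩,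
  ⟨203040, [0, 2, 4], [0, 4, 1, 2, 1, 3, 2, 4, 1], [], [4, 3, 0, 1]⟩,
  ⟨203056, [2, 4], [4, 1, 2, 1, 2, 3, 4, 1], [], [4, 3, 0, 0]⟩,
  ⟨204064, [0, 2, 4], [0, 4, 1, 2, 1, 2, 3, 4, 1], [], [4, 2, 0, 1]⟩,
  ⟨204080, [2, 4], [4, 1, 2, 1, 3, 2, 4, 1], [], [4, 2, 0, 0]⟩,
  ⟨205600, [0, 1, 2, 1, 1, 3, 1, 2, 1, 1, 3], [3, 1, 2, 1, 0, 3, 1, 1, 2, 3, 1], [1, 1, 2, 1, 3, 1, 2, 1, 1, 3, 1, 1, 2, 1], []⟩,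
  ⟨205616, [0, 1, 2, 1, 1, 3, 1, 2, 1, 1, 3], [3, 1, 2, 1, 0, 3, 1, 1, 2, 3, 1], [0, 1, 1, 2, 1, 3, 1, 2, 1, 1, 3, 1, 1, 2, 1], []⟩,
  ⟨206624, [1, 2, 1, 1, 0, 3, 1, 2, 1, 1, 3], [0, 3, 1, 2, 1, 3, 1, 1, 3, 2, 1], [1, 3, 1, 1, 3, 1, 2, 1, 3, 1, 1, 3, 1, 2], []⟩,
  ⟨206640, [1, 2, 1, 1, 0, 3, 1, 2, 1, 1, 3], [0, 3, 1, 2, 1, 3, 1, 1, 3, 2, 1], [1, 1, 2, 1, 3, 1, 2, 1, 1, 3, 1, 1, 2, 1], []⟩,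
  ⟨207648, [1, 1, 2, 1, 4, 1, 2, 1, 1], [1, 0, 3, 1, 3, 2, 4], [], [4, 3, 0, 1]⟩,
  ⟨207664, [1, 1, 2, 4, 1, 2, 4, 1, 1], [1, 1, 3, 1, 2, 4], [], [4, 3, 0, 0]⟩,
  ⟨208672, [1, 1, 2, 1, 4, 1, 2, 1, 1], [1, 3, 1, 2, 3, 4], [], [4, 2, 0, 1]⟩,
  ⟨208688, [1, 1, 2, 4, 1, 2, 4, 1, 1], [1, 3, 1, 3, 2, 4], [], [4, 2, 0, 0]⟩,
  ⟨209440, [1, 1, 2, 1, 0, 3, 1, 1, 2, 1, 3], [1, 1, 2, 3, 1, 1, 2, 3, 1, 1, 3], [1, 1, 2, 1, 3, 1, 2, 1, 1, 3, 1, 1, 2, 1], []⟩,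
  ⟨209456, [1, 1, 2, 1, 0, 3, 1, 1, 2, 1, 3], [1, 1, 2, 3, 1, 1, 2, 3, 1, 1, 3], [0, 1, 1, 2, 1, 3, 1, 2, 1, 1, 3, 1, 1, 2, 1], []⟩,
  ⟨210464, [0, 1, 1, 2, 1, 3, 1, 1, 2, 1, 3], [1, 1, 3, 2, 1, 1, 2, 3, 1, 1, 1, 3], [1, 3, 1, 1, 3, 1, 2, 1, 3, 1, 1, 3, 1, 2], []⟩,
  ⟨210480, [0, 1, 1, 2, 1, 3, 1, 1, 2, 1, 3], [1, 1, 3, 2, 1, 1, 2, 3, 1, 1, 1, 3], [1, 1, 2, 1, 3, 1, 2, 1, 1, 3, 1, 1, 2, 1], []⟩,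
  ⟨211488, [1, 2, 4, 1, 1, 2, 4, 1], [1, 0, 2, 4, 1, 3, 2, 1, 4, 1, 1, 0], [], [4, 3, 0, 1]⟩,
  ⟨211504, [1, 2, 1, 1, 4, 1, 1, 2, 1], [1, 2, 4, 1, 3, 2, 1, 4, 1, 1, 1], [], [4, 3, 0, 0]⟩,
  ⟨212512, [1, 2, 4, 1, 1, 2, 4, 1], [1, 0, 2, 4, 1, 2, 3, 1, 4, 1, 1, 0], [], [4, 2, 0, 1]⟩,
  ⟨212528, [1, 2, 1, 1, 4, 1, 1, 2, 1], [1, 2, 4, 1, 2, 3, 1, 4, 1, 1, 1], [], [4, 2, 0, 0]⟩,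
  ⟨213088, [3], [0, 2, 1, 3, 1, 2, 1, 3, 2, 1, 0], [1, 1, 2, 1, 3, 1, 2, 1, 1, 3, 1, 1, 2, 1], []⟩,
  ⟨213104, [3], [0, 2, 1, 3, 1, 2, 1, 3, 2, 1, 0], [0, 1, 1, 2, 1, 3, 1, 2, 1, 1, 3, 1, 1, 2, 1], []⟩,
  ⟨214112, [0, 3], [0, 2, 1, 0, 3, 1, 2, 1, 2, 3, 1, 0], [1, 3, 1, 1, 3, 1, 2, 1, 3, 1, 1, 3, 1, 2], []⟩,
  ⟨214128, [0, 3], [0, 2, 1, 0, 3, 1, 2, 1, 2, 3, 1, 0], [1, 1, 2, 1, 3, 1, 2, 1, 1, 3, 1, 1, 2, 1], []⟩,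
  ⟨215136, [3, 4], [0, 4, 1, 1, 3, 1, 2, 4, 1], [], [4, 3, 0, 1]⟩,
  ⟨215152, [0, 3, 4], [4, 1, 0, 3, 1, 3, 2, 4, 1], [], [4, 3, 0, 0]⟩,
  ⟨216160, [0, 3, 4], [0, 4, 1, 3, 1, 3, 2, 4, 1], [], [4, 2, 0, 1]⟩,
  ⟨216176, [3, 4], [4, 1, 3, 1, 2, 3, 4, 1], [], [4, 2, 0, 0]⟩,
  ⟨229600, [1, 3, 1, 1, 1, 3, 1], [2, 1, 2, 3, 1, 2, 3, 1, 3, 2], [1, 1, 2, 1, 3, 1, 2, 1, 1, 3, 1, 1, 2, 1], []⟩,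
  ⟨229616, [1, 3, 1, 1, 1, 3, 1], [2, 1, 2, 3, 1, 2, 3, 1, 3, 2], [0, 1, 1, 2, 1, 3, 1, 2, 1, 1, 3, 1, 1, 2, 1], []⟩,
  ⟨230624, [1, 3, 1, 1, 3, 1], [2, 1, 2, 1, 3, 1, 3, 2, 1, 3], [1, 3, 1, 1, 3, 1, 2, 1, 3, 1, 1, 3, 1, 2], []⟩,
  ⟨230640, [1, 3, 1, 1, 3, 1], [2, 1, 2, 1, 3, 1, 3, 2, 1, 3], [1, 1, 2, 1, 3, 1, 2, 1, 1, 3, 1, 1, 2, 1], []⟩,
  ⟨231648, [1, 3, 4, 1, 1, 1, 3, 4, 1], [1, 3, 4, 1, 2, 3, 1, 4, 1, 1, 0], [], [4, 3, 0, 1]⟩,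
  ⟨231664, [1, 3, 4, 1, 1, 3, 4, 1], [1, 4, 1, 3, 1, 2, 1, 4, 1, 1, 1], [], [4, 3, 0, 0]⟩,
  ⟨232672, [1, 3, 4, 1, 1, 3, 4, 1], [1, 0, 3, 4, 1, 3, 2, 1, 4, 1, 1, 0], [], [4, 2, 0, 1]⟩,
  ⟨232688, [1, 3, 1, 1, 4, 1, 1, 3, 1], [1, 3, 4, 1, 3, 2, 1, 4, 1, 1, 1], [], [4, 2, 0, 0]⟩,
  ⟨245920, [1, 1, 3, 1, 3, 1, 1], [1, 2, 1, 2, 3], [1, 1, 2, 1, 3, 1, 2, 1, 1, 3, 1, 1, 2, 1], []⟩,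
  ⟨245936, [1, 1, 3, 1, 3, 1, 1], [1, 2, 1, 2, 3], [0, 1, 1, 2, 1, 3, 1, 2, 1, 1, 3, 1, 1, 2, 1], []⟩,
  ⟨246944, [0, 1, 3, 1, 1, 3, 1, 3], [1, 2, 1, 3, 2], [1, 3, 1, 1, 3, 1, 2, 1, 3, 1, 1, 3, 1, 2], []⟩,
  ⟨246960, [0, 1, 3, 1, 1, 3, 1, 3], [1, 2, 1, 3, 2], [1, 1, 2, 1, 3, 1, 2, 1, 1, 3, 1, 1, 2, 1], []⟩,
  ⟨247968, [1, 1, 3, 4, 1, 3, 4, 1, 1], [1, 2, 1, 2, 3, 4], [], [4, 3, 0, 1]⟩,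
  ⟨247984, [1, 1, 4, 1, 3, 1, 4, 1, 1], [1, 2, 1, 3, 2, 4], [], [4, 3, 0, 0]⟩,
  ⟨248992, [1, 1, 3, 1, 4, 1, 3, 1, 1], [1, 2, 1, 3, 2, 4], [], [4, 2, 0, 1]⟩,
  ⟨249008, [1, 1, 3, 4, 1, 3, 4, 1, 1], [1, 2, 1, 2, 3, 4], [], [4, 2, 0, 0]⟩]

/-- part 3 -/
def cfg3 : List Row := [
  ⟨266528, [2], [1, 2, 1, 1, 3, 1, 1, 1, 3], [0, 1, 2, 1, 2, 3, 1, 1, 2, 3, 1, 3, 1], []⟩,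
  ⟨266544, [2], [1, 2, 1, 1, 3, 1, 1, 1, 3], [1, 2, 1, 2, 3, 1, 1, 2, 3, 1, 3, 1], []⟩,
  ⟨267552, [2], [1, 2, 1, 1, 3, 1, 1, 3], [1, 1, 2, 3, 1, 1, 2, 3, 1, 3, 2, 1, 3], []⟩,
  ⟨267568, [2], [1, 2, 1, 1, 3, 1, 1, 3], [1, 0, 3, 1, 2, 3, 1, 1, 2, 3, 1, 2, 1], []⟩,
  ⟨268576, [2], [3, 1, 2, 1, 3, 1, 2, 3, 1, 3, 2], [0, 1, 1, 3, 1, 2, 1, 3, 1, 1, 2, 1, 1, 3, 1], []⟩,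
  ⟨268592, [2], [3, 1, 2, 1, 3, 1, 2, 3, 1, 3, 2], [1, 1, 3, 1, 2, 1, 3, 1, 1, 2, 1, 1, 3, 1], []⟩,
  ⟨269600, [2], [0, 3, 1, 2, 1, 0, 3, 1, 2, 1, 3, 1, 2], [1, 2, 3, 1, 3, 2, 1, 2, 1, 2, 3, 1, 3, 2, 1], []⟩,
  ⟨269616, [2], [0, 3, 1, 2, 1, 0, 3, 1, 2, 1, 3, 1, 2], [1, 1, 2, 1, 2, 3, 1, 1, 3, 2, 1, 2, 1, 1, 3], []⟩,
  ⟨271136, [1, 2, 1, 1, 1, 2, 1], [2, 1, 1, 3, 2, 1, 0], [0, 1, 2, 1, 2, 3, 1, 1, 2, 3, 1, 3, 1], []⟩,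
  ⟨271152, [1, 2, 1, 1, 1, 2, 1], [2, 1, 1, 3, 2, 1, 0], [1, 2, 1, 2, 3, 1, 1, 2, 3, 1, 3, 1], []⟩,
  ⟨272160, [1, 2, 1, 1, 1, 2, 1], [2, 1, 1, 2, 3, 1, 0], [1, 1, 2, 3, 1, 1, 2, 3, 1, 3, 2, 1, 3], []⟩,
  ⟨272176, [1, 2, 1, 1, 1, 2, 1], [2, 1, 1, 2, 3, 1, 0], [1, 0, 3, 1, 2, 3, 1, 1, 2, 3, 1, 2, 1], []⟩,
  ⟨273184, [1, 2, 1, 1, 1, 2, 1], [0, 1, 2, 1, 1, 3, 1, 2, 1, 1, 1, 2], [0, 1, 1, 3, 1, 2, 1, 3, 1, 1, 2, 1, 1, 3, 1], []⟩,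
  ⟨273200, [1, 2, 1, 1, 1, 2, 1], [0, 1, 2, 1, 1, 3, 1, 2, 1, 1, 1, 2], [1, 1, 3, 1, 2, 1, 3, 1, 1, 2, 1, 1, 3, 1], []⟩,
  ⟨274208, [1, 2, 1, 1, 1, 2, 1], [0, 1, 2, 1, 1, 0, 3, 1, 2, 1, 1, 1, 2], [1, 2, 3, 1, 3, 2, 1, 2, 1, 2, 3, 1, 3, 2, 1], []⟩,
  ⟨274224, [1, 2, 1, 1, 1, 2, 1], [0, 1, 2, 1, 1, 0, 3, 1, 2, 1, 1, 1, 2], [1, 1, 2, 1, 2, 3, 1, 1, 3, 2, 1, 2, 1, 1, 3], []⟩,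
  ⟨274976, [1, 1, 2, 1, 2, 1, 1], [1, 1, 1, 2, 1, 2, 3, 1, 3, 1], [0, 1, 2, 1, 2, 3, 1, 1, 2, 3, 1, 3, 1], []⟩,
  ⟨274992, [1, 1, 2, 1, 2, 1, 1], [1, 1, 1, 2, 1, 2, 3, 1, 3, 1], [1, 2, 1, 2, 3, 1, 1, 2, 3, 1, 3, 1], []⟩,
  ⟨276000, [1, 1, 2, 1, 2, 1, 1], [0, 1, 2, 1, 3, 2, 1, 0, 3, 1, 3], [1, 1, 2, 3, 1, 1, 2, 3, 1, 3, 2, 1, 3], []⟩,
  ⟨276016, [1, 1, 2, 1, 2, 1, 1], [0, 1, 2, 1, 3, 2, 1, 0, 3, 1, 3], [1, 0, 3, 1, 2, 3, 1, 1, 2, 3, 1, 2, 1], []⟩,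
  ⟨277024, [1, 1, 2, 1, 2, 1, 1], [1, 0, 2, 1, 2, 3, 1, 2, 1, 1, 3], [0, 1, 1, 3, 1, 2, 1, 3, 1, 1, 2, 1, 1, 3, 1], []⟩,
  ⟨277040, [1, 1, 2, 1, 2, 1, 1], [1, 0, 2, 1, 2, 3, 1, 2, 1, 1, 3], [1, 1, 3, 1, 2, 1, 3, 1, 1, 2, 1, 1, 3, 1], []⟩,
  ⟨278048, [1, 1, 2, 1, 2, 1, 1], [1, 2, 3, 1, 3, 2, 1, 2, 1, 1, 3], [1, 2, 3, 1, 3, 2, 1, 2, 1, 2, 3, 1, 3, 2, 1], []⟩,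
  ⟨278064, [1, 1, 2, 1, 2, 1, 1], [1, 2, 3, 1, 3, 2, 1, 2, 1, 1, 3], [1, 1, 2, 1, 2, 3, 1, 1, 3, 2, 1, 2, 1, 1, 3], []⟩,
  ⟨278624, [3], [1, 3, 1, 1, 2, 1, 1, 1, 2], [0, 1, 2, 1, 2, 3, 1, 1, 2, 3, 1, 3, 1], []⟩,
  ⟨278640, [3], [1, 3, 1, 1, 2, 1, 1, 1, 2], [1, 2, 1, 2, 3, 1, 1, 2, 3, 1, 3, 1], []⟩,
  ⟨279648, [0, 3], [1, 2, 3, 1, 1, 2, 1, 1, 1], [1, 1, 2, 3, 1, 1, 2, 3, 1, 3, 2, 1, 3], []⟩,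
  ⟨279664, [0, 3], [1, 2, 3, 1, 1, 2, 1, 1, 1], [1, 0, 3, 1, 2, 3, 1, 1, 2, 3, 1, 2, 1], []⟩,
  ⟨280672, [1, 1, 2, 1, 3, 2, 1, 1, 2, 3, 1, 2, 1, 1], [2, 1, 1, 3, 2, 1, 3, 1, 0, 2, 1, 1], [0, 1, 1, 3, 1, 2, 1, 3, 1, 1, 2, 1, 1, 3, 1], []⟩,
  ⟨280688, [1, 1, 2, 1, 3, 2, 1, 1, 2, 3, 1, 2, 1, 1], [2, 1, 1, 3, 2, 1, 3, 1, 0, 2, 1, 1], [1, 1, 3, 1, 2, 1, 3, 1, 1, 2, 1, 1, 3, 1], []⟩,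
  ⟨281696, [1, 1, 2, 1, 2, 3, 1, 1, 3, 2, 1, 2, 1, 1], [0, 1, 2, 1, 2, 3, 1, 1, 2, 3, 1, 1, 2], [1, 2, 3, 1, 3, 2, 1, 2, 1, 2, 3, 1, 3, 2, 1], []⟩,
  ⟨281712, [1, 1, 2, 1, 2, 3, 1, 1, 3, 2, 1, 2, 1, 1], [0, 1, 2, 1, 2, 3, 1, 1, 2, 3, 1, 1, 2], [1, 1, 2, 1, 2, 3, 1, 1, 3, 2, 1, 2, 1, 1, 3], []⟩,
  ⟨295136, [1, 1, 3, 1, 3, 1, 1], [1, 1, 1, 3, 1, 3, 2, 1, 2, 1], [0, 1, 2, 1, 2, 3, 1, 1, 2, 3, 1, 3, 1], []⟩,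
  ⟨295152, [1, 1, 3, 1, 3, 1, 1], [1, 1, 1, 3, 1, 3, 2, 1, 2, 1], [1, 2, 1, 2, 3, 1, 1, 2, 3, 1, 3, 1], []⟩,
  ⟨296160, [0, 1, 3, 1, 1, 3, 1, 3], [0, 1, 1, 3, 1, 2, 3, 1, 2, 1], [1, 1, 2, 3, 1, 1, 2, 3, 1, 3, 2, 1, 3], []⟩,
  ⟨296176, [0, 1, 3, 1, 1, 3, 1, 3], [0, 1, 1, 3, 1, 2, 3, 1, 2, 1], [1, 0, 3, 1, 2, 3, 1, 1, 2, 3, 1, 2, 1], []⟩,
  ⟨297184, [0, 1, 3, 1, 1, 2, 1, 3, 1, 1, 2], [0, 3, 1, 1, 2, 1, 3, 2, 1, 2, 1, 2], [0, 1, 1, 3, 1, 2, 1, 3, 1, 1, 2, 1, 1, 3, 1], []⟩,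
  ⟨297200, [0, 1, 3, 1, 1, 2, 1, 3, 1, 1, 2], [0, 3, 1, 1, 2, 1, 3, 2, 1, 2, 1, 2], [1, 1, 3, 1, 2, 1, 3, 1, 1, 2, 1, 1, 3, 1], []⟩,
  ⟨298208, [1, 0, 3, 1, 1, 2, 1, 3, 1, 1, 1, 2], [3, 1, 1, 2, 1, 2, 3, 1, 2, 1, 2], [1, 2, 3, 1, 3, 2, 1, 2, 1, 2, 3, 1, 3, 2, 1], []⟩,
  ⟨298224, [1, 0, 3, 1, 1, 2, 1, 3, 1, 1, 1, 2], [3, 1, 1, 2, 1, 2, 3, 1, 2, 1, 2], [1, 1, 2, 1, 2, 3, 1, 1, 3, 2, 1, 2, 1, 1, 3], []⟩,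
  ⟨311456, [1, 3, 1, 1, 1, 3, 1], [3, 1, 1, 2, 3, 1, 0], [0, 1, 2, 1, 2, 3, 1, 1, 2, 3, 1, 3, 1], []⟩,
  ⟨311472, [1, 3, 1, 1, 1, 3, 1], [3, 1, 1, 2, 3, 1, 0], [1, 2, 1, 2, 3, 1, 1, 2, 3, 1, 3, 1], []⟩,
  ⟨312480, [1, 3, 1, 1, 3, 1], [0, 3, 1, 1, 3, 2, 1, 0], [1, 1, 2, 3, 1, 1, 2, 3, 1, 3, 2, 1, 3], []⟩,
  ⟨312496, [1, 3, 1, 1, 3, 1], [0, 3, 1, 1, 3, 2, 1, 0], [1, 0, 3, 1, 2, 3, 1, 1, 2, 3, 1, 2, 1], []⟩,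
  ⟨313504, [1, 1, 3, 1, 0, 2, 1, 1, 3, 1, 2], [0, 1, 3, 1, 0, 2, 1, 1, 3, 2, 1, 0, 2], [0, 1, 1, 3, 1, 2, 1, 3, 1, 1, 2, 1, 1, 3, 1], []⟩,
  ⟨313520, [1, 1, 3, 1, 0, 2, 1, 1, 3, 1, 2], [0, 1, 3, 1, 0, 2, 1, 1, 3, 2, 1, 0, 2], [1, 1, 3, 1, 2, 1, 3, 1, 1, 2, 1, 1, 3, 1], []⟩,
  ⟨314528, [1, 1, 0, 3, 1, 2, 1, 1, 1, 3, 1, 2], [0, 1, 0, 3, 1, 0, 2, 1, 1, 2, 3, 1, 0, 2], [1, 2, 3, 1, 3, 2, 1, 2, 1, 2, 3, 1, 3, 2, 1], []⟩,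
  ⟨314544, [1, 1, 0, 3, 1, 2, 1, 1, 1, 3, 1, 2], [0, 1, 0, 3, 1, 0, 2, 1, 1, 2, 3, 1, 0, 2], [1, 1, 2, 1, 2, 3, 1, 1, 3, 2, 1, 2, 1, 1, 3], []⟩,
  ⟨332064, [0, 2], [1, 3, 2, 1, 1, 3, 1, 1, 1], [1, 1, 3, 2, 1, 1, 3, 2, 1, 2, 3, 1, 2], []⟩,
  ⟨332080, [0, 2], [1, 3, 2, 1, 1, 3, 1, 1, 1], [1, 0, 2, 1, 3, 2, 1, 1, 3, 2, 1, 3, 1], []⟩,
  ⟨333088, [0, 2], [1, 0, 2, 1, 1, 3, 1, 1, 3], [1, 1, 2, 3, 1, 1, 2, 3, 1, 3, 2, 1, 2], []⟩,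
  ⟨333104, [0, 2], [1, 0, 2, 1, 1, 3, 1, 1, 3], [0, 1, 1, 2, 3, 1, 1, 2, 3, 1, 3, 2, 1, 2], []⟩,
  ⟨334112, [0, 2], [3, 1, 0, 2, 1, 3, 1, 3, 2, 1, 2, 3], [1, 1, 3, 1, 2, 1, 3, 1, 1, 2, 1, 1, 3, 1], []⟩,
  ⟨334128, [0, 2], [3, 1, 0, 2, 1, 3, 1, 3, 2, 1, 2, 3], [1, 2, 1, 1, 2, 1, 3, 1, 2, 1, 1, 2, 1, 3], []⟩,
  ⟨335136, [0, 2], [0, 3, 1, 0, 2, 1, 1, 2, 3, 1, 2, 1, 3], [0, 1, 2, 1, 1, 2, 1, 3, 1, 2, 1, 1, 2, 1, 3], []⟩,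
  ⟨335152, [0, 2], [0, 3, 1, 0, 2, 1, 1, 2, 3, 1, 2, 1, 3], [1, 2, 1, 1, 2, 1, 3, 1, 2, 1, 1, 2, 1, 3], []⟩,
  ⟨336672, [1, 2, 1, 1, 2, 1], [0, 2, 1, 1, 2, 3, 1, 0], [1, 1, 3, 2, 1, 1, 3, 2, 1, 2, 3, 1, 2], []⟩,
  ⟨336688, [1, 2, 1, 1, 2, 1], [0, 2, 1, 1, 2, 3, 1, 0], [1, 0, 2, 1, 3, 2, 1, 1, 3, 2, 1, 3, 1], []⟩,
  ⟨337696, [1, 2, 1, 1, 2, 1], [0, 2, 1, 1, 3, 2, 1, 0], [1, 1, 2, 3, 1, 1, 2, 3, 1, 3, 2, 1, 2], []⟩,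
  ⟨337712, [1, 2, 1, 1, 2, 1], [0, 2, 1, 1, 3, 2, 1, 0], [0, 1, 1, 2, 3, 1, 1, 2, 3, 1, 3, 2, 1, 2], []⟩,
  ⟨338720, [1, 2, 1, 1, 2, 1], [0, 1, 0, 2, 1, 1, 3, 1, 2, 1, 1, 2], [1, 1, 3, 1, 2, 1, 3, 1, 1, 2, 1, 1, 3, 1], []⟩,
  ⟨338736, [1, 2, 1, 1, 2, 1], [0, 1, 0, 2, 1, 1, 3, 1, 2, 1, 1, 2], [1, 2, 1, 1, 2, 1, 3, 1, 2, 1, 1, 2, 1, 3], []⟩,
  ⟨339744, [1, 2, 1, 1, 2, 1], [0, 1, 2, 1, 1, 1, 3, 1, 2, 1, 1, 2], [0, 1, 2, 1, 1, 2, 1, 3, 1, 2, 1, 1, 2, 1, 3], []⟩,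
  ⟨339760, [1, 2, 1, 1, 2, 1], [0, 1, 2, 1, 1, 1, 3, 1, 2, 1, 1, 2], [1, 2, 1, 1, 2, 1, 3, 1, 2, 1, 1, 2, 1, 3], []⟩]

/-- part 4 -/
def cfg4 : List Row := [
  ⟨340512, [0, 1, 2, 1, 1, 2, 1, 2], [0, 1, 1, 2, 1, 3, 2, 1, 3, 1], [1, 1, 3, 2, 1, 1, 3, 2, 1, 2, 3, 1, 2], []⟩,
  ⟨340528, [0, 1, 2, 1, 1, 2, 1, 2], [0, 1, 1, 2, 1, 3, 2, 1, 3, 1], [1, 0, 2, 1, 3, 2, 1, 1, 3, 2, 1, 3, 1], []⟩,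
  ⟨341536, [0, 1, 2, 1, 1, 2, 1, 2], [0, 1, 1, 2, 1, 2, 3, 1, 0, 3, 1], [1, 1, 2, 3, 1, 1, 2, 3, 1, 3, 2, 1, 2], []⟩,
  ⟨341552, [0, 1, 2, 1, 1, 2, 1, 2], [0, 1, 1, 2, 1, 2, 3, 1, 0, 3, 1], [0, 1, 1, 2, 3, 1, 1, 2, 3, 1, 3, 2, 1, 2], []⟩,
  ⟨342560, [0, 1, 2, 1, 1, 2, 1, 2], [1, 2, 1, 3, 2, 1, 0, 2, 1, 1, 3], [1, 1, 3, 1, 2, 1, 3, 1, 1, 2, 1, 1, 3, 1], []⟩,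
  ⟨342576, [0, 1, 2, 1, 1, 2, 1, 2], [1, 2, 1, 3, 2, 1, 0, 2, 1, 1, 3], [1, 2, 1, 1, 2, 1, 3, 1, 2, 1, 1, 2, 1, 3], []⟩,
  ⟨343584, [0, 1, 2, 1, 1, 2, 1, 2], [1, 2, 1, 2, 3, 1, 2, 1, 1, 1, 3], [0, 1, 2, 1, 1, 2, 1, 3, 1, 2, 1, 1, 2, 1, 3], []⟩,
  ⟨343600, [0, 1, 2, 1, 1, 2, 1, 2], [1, 2, 1, 2, 3, 1, 2, 1, 1, 1, 3], [1, 2, 1, 1, 2, 1, 3, 1, 2, 1, 1, 2, 1, 3], []⟩,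
  ⟨344160, [3], [1, 3, 1, 1, 2, 1, 1, 2], [1, 1, 3, 2, 1, 1, 3, 2, 1, 2, 3, 1, 2], []⟩,
  ⟨344176, [3], [1, 3, 1, 1, 2, 1, 1, 2], [1, 0, 2, 1, 3, 2, 1, 1, 3, 2, 1, 3, 1], []⟩,
  ⟨345184, [0, 3], [1, 0, 3, 1, 1, 2, 1, 1, 2], [1, 1, 2, 3, 1, 1, 2, 3, 1, 3, 2, 1, 2], []⟩,
  ⟨345200, [0, 3], [1, 0, 3, 1, 1, 2, 1, 1, 2], [0, 1, 1, 2, 3, 1, 1, 2, 3, 1, 3, 2, 1, 2], []⟩,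
  ⟨346208, [1, 2, 1, 1, 2, 3, 1, 3, 2, 1, 1, 2, 1], [0, 2, 1, 1, 2, 3, 1, 3, 1, 2, 1, 1], [1, 1, 3, 1, 2, 1, 3, 1, 1, 2, 1, 1, 3, 1], []⟩,
  ⟨346224, [1, 2, 1, 1, 2, 3, 1, 3, 2, 1, 1, 2, 1], [0, 2, 1, 1, 2, 3, 1, 3, 1, 2, 1, 1], [1, 2, 1, 1, 2, 1, 3, 1, 2, 1, 1, 2, 1, 3], []⟩,
  ⟨347232, [1, 2, 1, 1, 2, 1, 3, 1, 2, 1, 1, 2, 1], [0, 2, 1, 1, 2, 1, 3, 1, 1, 2, 1, 1], [0, 1, 2, 1, 1, 2, 1, 3, 1, 2, 1, 1, 2, 1, 3], []⟩,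
  ⟨347248, [1, 2, 1, 1, 2, 1, 3, 1, 2, 1, 1, 2, 1], [0, 2, 1, 1, 2, 1, 3, 1, 1, 2, 1, 1], [1, 2, 1, 1, 2, 1, 3, 1, 2, 1, 1, 2, 1, 3], []⟩,
  ⟨360672, [1, 1, 3, 1, 3, 1, 1], [0, 1, 3, 1, 2, 3, 1, 0, 2, 1, 2], [1, 1, 3, 2, 1, 1, 3, 2, 1, 2, 3, 1, 2], []⟩,
  ⟨360688, [1, 1, 3, 1, 3, 1, 1], [0, 1, 3, 1, 2, 3, 1, 0, 2, 1, 2], [1, 0, 2, 1, 3, 2, 1, 1, 3, 2, 1, 3, 1], []⟩,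
  ⟨361696, [0, 1, 3, 1, 1, 3, 1, 3], [0, 1, 1, 3, 1, 3, 2, 1, 0, 2, 1], [1, 1, 2, 3, 1, 1, 2, 3, 1, 3, 2, 1, 2], []⟩,
  ⟨361712, [0, 1, 3, 1, 1, 3, 1, 3], [0, 1, 1, 3, 1, 3, 2, 1, 0, 2, 1], [0, 1, 1, 2, 3, 1, 1, 2, 3, 1, 3, 2, 1, 2], []⟩,
  ⟨362720, [1, 3, 1, 1, 0, 2, 1, 3, 1, 1, 2], [2, 1, 2, 1, 3, 1, 3, 1, 2, 1, 1, 3], [1, 1, 3, 1, 2, 1, 3, 1, 1, 2, 1, 1, 3, 1], []⟩,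
  ⟨362736, [1, 3, 1, 1, 0, 2, 1, 3, 1, 1, 2], [2, 1, 2, 1, 3, 1, 3, 1, 2, 1, 1, 3], [1, 2, 1, 1, 2, 1, 3, 1, 2, 1, 1, 2, 1, 3], []⟩,
  ⟨363744, [1, 3, 1, 1, 1, 2, 1, 0, 3, 1, 1, 2], [2, 1, 2, 1, 1, 3, 1, 1, 2, 1, 1, 0, 3], [0, 1, 2, 1, 1, 2, 1, 3, 1, 2, 1, 1, 2, 1, 3], []⟩,
  ⟨363760, [1, 3, 1, 1, 1, 2, 1, 0, 3, 1, 1, 2], [2, 1, 2, 1, 1, 3, 1, 1, 2, 1, 1, 0, 3], [1, 2, 1, 1, 2, 1, 3, 1, 2, 1, 1, 2, 1, 3], []⟩,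
  ⟨376992, [1, 3, 1, 1, 1, 3, 1], [3, 1, 1, 3, 2, 1, 0], [1, 1, 3, 2, 1, 1, 3, 2, 1, 2, 3, 1, 2], []⟩,
  ⟨377008, [1, 3, 1, 1, 1, 3, 1], [3, 1, 1, 3, 2, 1, 0], [1, 0, 2, 1, 3, 2, 1, 1, 3, 2, 1, 3, 1], []⟩,
  ⟨378016, [1, 3, 1, 1, 3, 1], [0, 3, 1, 1, 2, 3, 1, 0], [1, 1, 2, 3, 1, 1, 2, 3, 1, 3, 2, 1, 2], []⟩,
  ⟨378032, [1, 3, 1, 1, 3, 1], [0, 3, 1, 1, 2, 3, 1, 0], [0, 1, 1, 2, 3, 1, 1, 2, 3, 1, 3, 2, 1, 2], []⟩,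
  ⟨379040, [0, 1, 1, 3, 1, 2, 1, 1, 3, 1, 2], [0, 1, 3, 1, 2, 1, 1, 2, 3, 1, 2], [1, 1, 3, 1, 2, 1, 3, 1, 1, 2, 1, 1, 3, 1], []⟩,
  ⟨379056, [0, 1, 1, 3, 1, 2, 1, 1, 3, 1, 2], [0, 1, 3, 1, 2, 1, 1, 2, 3, 1, 2], [1, 2, 1, 1, 2, 1, 3, 1, 2, 1, 1, 2, 1, 3], []⟩,
  ⟨380064, [1, 1, 1, 3, 1, 2, 1, 1, 0, 3, 1, 2], [0, 1, 0, 3, 1, 2, 1, 1, 3, 2, 1, 2], [0, 1, 2, 1, 1, 2, 1, 3, 1, 2, 1, 1, 2, 1, 3], []⟩,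
  ⟨380080, [1, 1, 1, 3, 1, 2, 1, 1, 0, 3, 1, 2], [0, 1, 0, 3, 1, 2, 1, 1, 3, 2, 1, 2], [1, 2, 1, 1, 2, 1, 3, 1, 2, 1, 1, 2, 1, 3], []⟩,
  ⟨397600, [1, 1, 3, 1, 2, 3, 1, 1, 3, 2, 1, 3, 1, 1], [3, 1, 1, 2, 3, 1, 2, 1, 0, 3, 1, 1], [0, 1, 1, 2, 1, 3, 1, 2, 1, 1, 3, 1, 1, 2, 1], []⟩,
  ⟨397616, [1, 1, 3, 1, 2, 3, 1, 1, 3, 2, 1, 3, 1, 1], [3, 1, 1, 2, 3, 1, 2, 1, 0, 3, 1, 1], [1, 1, 2, 1, 3, 1, 2, 1, 1, 3, 1, 1, 2, 1], []⟩,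
  ⟨398624, [1, 3, 1, 1, 3, 2, 1, 2, 3, 1, 1, 3, 1], [0, 3, 1, 1, 3, 2, 1, 2, 1, 3, 1, 1], [1, 1, 2, 1, 3, 1, 2, 1, 1, 3, 1, 1, 2, 1], []⟩,
  ⟨398640, [1, 3, 1, 1, 3, 2, 1, 2, 3, 1, 1, 3, 1], [0, 3, 1, 1, 3, 2, 1, 2, 1, 3, 1, 1], [1, 3, 1, 1, 3, 1, 2, 1, 3, 1, 1, 3, 1, 2], []⟩,
  ⟨399648, [2, 4], [0, 2, 1, 3, 1, 2, 4, 1, 1, 1], [], [4, 2, 0, 0]⟩,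
  ⟨399664, [0, 2, 4], [0, 2, 1, 3, 1, 2, 4, 1, 1, 0], [], [4, 2, 0, 1]⟩,
  ⟨400672, [2, 4], [2, 1, 2, 1, 3, 4, 1, 1, 4], [], [4, 3, 0, 0]⟩,
  ⟨400688, [0, 2, 4], [1, 3, 2, 1, 1, 3, 4, 1, 1, 1], [], [4, 3, 0, 1]⟩,
  ⟨402208, [1, 1, 2, 1, 0, 3, 1, 1, 2, 1, 3], [0, 1, 2, 1, 0, 3, 1, 1, 2, 3, 1, 0, 3], [0, 1, 1, 2, 1, 3, 1, 2, 1, 1, 3, 1, 1, 2, 1], []⟩,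
  ⟨402224, [1, 1, 2, 1, 0, 3, 1, 1, 2, 1, 3], [0, 1, 2, 1, 0, 3, 1, 1, 2, 3, 1, 0, 3], [1, 1, 2, 1, 3, 1, 2, 1, 1, 3, 1, 1, 2, 1], []⟩,
  ⟨403232, [0, 1, 1, 2, 1, 3, 1, 1, 2, 1, 3], [0, 1, 2, 1, 3, 1, 1, 3, 2, 1, 3], [1, 1, 2, 1, 3, 1, 2, 1, 1, 3, 1, 1, 2, 1], []⟩,
  ⟨403248, [0, 1, 1, 2, 1, 3, 1, 1, 2, 1, 3], [0, 1, 2, 1, 3, 1, 1, 3, 2, 1, 3], [1, 3, 1, 1, 3, 1, 2, 1, 3, 1, 1, 3, 1, 2], []⟩,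
  ⟨404256, [1, 2, 1, 1, 4, 1, 1, 2, 1], [0, 3, 4, 1, 3, 1, 2], [], [4, 2, 0, 0]⟩,
  ⟨404272, [1, 2, 4, 1, 1, 2, 4, 1], [3, 4, 1, 3, 1, 2], [], [4, 2, 0, 1]⟩,
  ⟨405280, [1, 2, 1, 1, 4, 1, 1, 2, 1], [0, 4, 1, 3, 1, 1, 2], [], [4, 3, 0, 0]⟩,
  ⟨405296, [1, 2, 4, 1, 1, 2, 4, 1], [4, 1, 3, 1, 1, 2], [], [4, 3, 0, 1]⟩,
  ⟨406048, [0, 1, 2, 1, 1, 3, 1, 2, 1, 1, 3], [0, 2, 1, 1, 3, 1, 2, 3, 1, 3, 1, 3], [0, 1, 1, 2, 1, 3, 1, 2, 1, 1, 3, 1, 1, 2, 1], []⟩,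
  ⟨406064, [0, 1, 2, 1, 1, 3, 1, 2, 1, 1, 3], [0, 2, 1, 1, 3, 1, 2, 3, 1, 3, 1, 3], [1, 1, 2, 1, 3, 1, 2, 1, 1, 3, 1, 1, 2, 1], []⟩,
  ⟨407072, [1, 2, 1, 1, 0, 3, 1, 2, 1, 1, 3], [3, 1, 2, 3, 1, 2, 1, 3, 2, 1, 1, 2], [1, 1, 2, 1, 3, 1, 2, 1, 1, 3, 1, 1, 2, 1], []⟩,
  ⟨407088, [1, 2, 1, 1, 0, 3, 1, 2, 1, 1, 3], [3, 1, 2, 3, 1, 2, 1, 3, 2, 1, 1, 2], [1, 3, 1, 1, 3, 1, 2, 1, 3, 1, 1, 3, 1, 2], []⟩,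
  ⟨408096, [1, 1, 2, 4, 1, 2, 4, 1, 1], [1, 1, 1, 2, 4, 1, 2, 3, 1, 3, 4, 1], [], [4, 2, 0, 0]⟩,
  ⟨408112, [1, 1, 2, 1, 4, 1, 2, 1, 1], [1, 4, 1, 1, 2, 3, 4, 1, 1, 2, 4, 1], [], [4, 2, 0, 1]⟩,
  ⟨409120, [1, 1, 2, 4, 1, 2, 4, 1, 1], [0, 4, 1, 2, 3, 4, 1, 2, 3, 4, 1, 3], [], [4, 3, 0, 0]⟩,
  ⟨409136, [1, 1, 2, 1, 4, 1, 2, 1, 1], [4, 1, 2, 3, 1, 4, 1, 2, 3, 1, 3], [], [4, 3, 0, 1]⟩,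
  ⟨409696, [3], [2, 1, 3, 1, 2, 1, 3, 2, 1, 2, 3], [0, 1, 1, 2, 1, 3, 1, 2, 1, 1, 3, 1, 1, 2, 1], []⟩,
  ⟨409712, [3], [2, 1, 3, 1, 2, 1, 3, 2, 1, 2, 3], [1, 1, 2, 1, 3, 1, 2, 1, 1, 3, 1, 1, 2, 1], []⟩,
  ⟨410720, [0, 3], [2, 1, 0, 3, 1, 2, 1, 2, 3, 1, 3, 2], [1, 1, 2, 1, 3, 1, 2, 1, 1, 3, 1, 1, 2, 1], []⟩,
  ⟨410736, [0, 3], [2, 1, 0, 3, 1, 2, 1, 2, 3, 1, 3, 2], [1, 3, 1, 1, 3, 1, 2, 1, 3, 1, 1, 3, 1, 2], []⟩,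
  ⟨411744, [3, 4], [0, 3, 1, 2, 1, 3, 4, 1, 1, 1], [], [4, 2, 0, 0]⟩,
  ⟨411760, [0, 3, 4], [0, 3, 1, 2, 1, 3, 4, 1, 1, 0], [], [4, 2, 0, 1]⟩,
  ⟨412768, [0, 3, 4], [3, 1, 2, 1, 3, 4, 1, 1, 0], [], [4, 3, 0, 0]⟩,
  ⟨412784, [3, 4], [3, 1, 2, 1, 3, 4, 1, 1, 1], [], [4, 3, 0, 1]⟩]

/-- part 5 -/
def cfg5 : List Row := [
  ⟨426208, [1, 1, 3, 1, 3, 1, 1], [1, 0, 3, 1, 3, 2, 1, 3, 1, 1, 2], [0, 1, 1, 2, 1, 3, 1, 2, 1, 1, 3, 1, 1, 2, 1], []⟩,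
  ⟨426224, [1, 1, 3, 1, 3, 1, 1], [1, 0, 3, 1, 3, 2, 1, 3, 1, 1, 2], [1, 1, 2, 1, 3, 1, 2, 1, 1, 3, 1, 1, 2, 1], []⟩,
  ⟨427232, [0, 1, 3, 1, 1, 3, 1, 3], [1, 3, 1, 2, 3, 1, 0, 3, 1, 1, 2], [1, 1, 2, 1, 3, 1, 2, 1, 1, 3, 1, 1, 2, 1], []⟩,
  ⟨427248, [0, 1, 3, 1, 1, 3, 1, 3], [1, 3, 1, 2, 3, 1, 0, 3, 1, 1, 2], [1, 3, 1, 1, 3, 1, 2, 1, 3, 1, 1, 3, 1, 2], []⟩,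
  ⟨428256, [1, 1, 3, 4, 1, 3, 4, 1, 1], [1, 1, 1, 3, 4, 1, 3, 2, 1, 2, 4, 1], [], [4, 2, 0, 0]⟩,
  ⟨428272, [1, 1, 3, 1, 4, 1, 3, 1, 1], [1, 4, 1, 1, 3, 2, 4, 1, 1, 3, 4, 1], [], [4, 2, 0, 1]⟩,
  ⟨429280, [1, 1, 4, 1, 3, 1, 4, 1, 1], [0, 1, 1, 3, 4, 1, 2, 3, 1, 2, 4, 1], [], [4, 3, 0, 0]⟩,
  ⟨429296, [1, 1, 3, 4, 1, 3, 4, 1, 1], [4, 1, 2, 1, 3, 1, 4, 1, 3, 2, 1, 0], [], [4, 3, 0, 1]⟩,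
  ⟨442528, [1, 3, 1, 1, 1, 3, 1], [0, 1, 3, 1, 1, 2, 1, 3, 1, 1, 1, 3], [0, 1, 1, 2, 1, 3, 1, 2, 1, 1, 3, 1, 1, 2, 1], []⟩,
  ⟨442544, [1, 3, 1, 1, 1, 3, 1], [0, 1, 3, 1, 1, 2, 1, 3, 1, 1, 1, 3], [1, 1, 2, 1, 3, 1, 2, 1, 1, 3, 1, 1, 2, 1], []⟩,
  ⟨443552, [1, 3, 1, 1, 3, 1], [0, 1, 0, 3, 1, 1, 2, 1, 3, 1, 1, 3], [1, 1, 2, 1, 3, 1, 2, 1, 1, 3, 1, 1, 2, 1], []⟩,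
  ⟨443568, [1, 3, 1, 1, 3, 1], [0, 1, 0, 3, 1, 1, 2, 1, 3, 1, 1, 3], [1, 3, 1, 1, 3, 1, 2, 1, 3, 1, 1, 3, 1, 2], []⟩,
  ⟨444576, [1, 3, 1, 1, 4, 1, 1, 3, 1], [0, 2, 4, 1, 2, 1, 3], [], [4, 2, 0, 0]⟩,
  ⟨444592, [1, 3, 4, 1, 1, 3, 4, 1], [2, 4, 1, 2, 1, 3], [], [4, 2, 0, 1]⟩,
  ⟨445600, [1, 3, 4, 1, 1, 3, 4, 1], [0, 2, 4, 1, 2, 1, 0, 3], [], [4, 3, 0, 0]⟩,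
  ⟨445616, [1, 3, 4, 1, 1, 1, 3, 4, 1], [2, 4, 1, 2, 1, 0, 3], [], [4, 3, 0, 1]⟩,
  ⟨463136, [1, 1, 3, 1, 3, 2, 1, 1, 2, 3, 1, 3, 1, 1], [0, 1, 3, 1, 3, 2, 1, 1, 3, 2, 1, 1, 3], [1, 3, 2, 1, 2, 3, 1, 3, 1, 3, 2, 1, 2, 3, 1], []⟩,
  ⟨463152, [1, 1, 3, 1, 3, 2, 1, 1, 2, 3, 1, 3, 1, 1], [0, 1, 3, 1, 3, 2, 1, 1, 3, 2, 1, 1, 3], [1, 1, 3, 1, 3, 2, 1, 1, 2, 3, 1, 3, 1, 1, 2], []⟩,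
  ⟨464160, [1, 3, 1, 1, 2, 3, 1, 3, 2, 1, 1, 3, 1], [0, 3, 1, 1, 3, 1, 2, 1, 1, 3, 1, 1], [0, 1, 3, 1, 1, 2, 3, 1, 3, 2, 1, 1, 3, 1, 2], []⟩,
  ⟨464176, [1, 3, 1, 1, 2, 3, 1, 3, 2, 1, 1, 3, 1], [0, 3, 1, 1, 3, 1, 2, 1, 1, 3, 1, 1], [1, 3, 1, 1, 2, 3, 1, 3, 2, 1, 1, 3, 1, 2], []⟩,
  ⟨465184, [0, 2, 4], [2, 1, 3, 1, 2, 4, 1, 1, 0], [], [4, 2, 1, 0]⟩,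
  ⟨465200, [2, 4], [2, 1, 3, 1, 2, 4, 1, 1, 1], [], [4, 2, 1, 1]⟩,
  ⟨466208, [0, 2, 4], [1, 2, 1, 1, 3, 4, 1, 1, 4], [], [4, 3, 1, 0]⟩,
  ⟨466224, [2, 4], [1, 2, 1, 1, 3, 4, 1, 1, 1, 4], [], [4, 3, 1, 1]⟩,
  ⟨467744, [1, 1, 0, 2, 1, 3, 1, 1, 1, 2, 1, 3], [0, 1, 0, 2, 1, 0, 3, 1, 1, 3, 2, 1, 0, 3], [1, 3, 2, 1, 2, 3, 1, 3, 1, 3, 2, 1, 2, 3, 1], []⟩,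
  ⟨467760, [1, 1, 0, 2, 1, 3, 1, 1, 1, 2, 1, 3], [0, 1, 0, 2, 1, 0, 3, 1, 1, 3, 2, 1, 0, 3], [1, 1, 3, 1, 3, 2, 1, 1, 2, 3, 1, 3, 1, 1, 2], []⟩,
  ⟨468768, [1, 1, 1, 2, 1, 3, 1, 1, 0, 2, 1, 3], [0, 1, 0, 2, 1, 3, 1, 1, 2, 3, 1, 3], [0, 1, 3, 1, 1, 2, 3, 1, 3, 2, 1, 1, 3, 1, 2], []⟩,
  ⟨468784, [1, 1, 1, 2, 1, 3, 1, 1, 0, 2, 1, 3], [0, 1, 0, 2, 1, 3, 1, 1, 2, 3, 1, 3], [1, 3, 1, 1, 2, 3, 1, 3, 2, 1, 1, 3, 1, 2], []⟩,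
  ⟨469792, [1, 2, 4, 1, 1, 2, 4, 1], [0, 3, 4, 1, 3, 1, 0, 2], [], [4, 2, 1, 0]⟩,
  ⟨469808, [1, 2, 4, 1, 1, 1, 2, 4, 1], [3, 4, 1, 3, 1, 0, 2], [], [4, 2, 1, 1]⟩,
  ⟨470816, [1, 2, 4, 1, 1, 2, 4, 1], [0, 4, 1, 3, 1, 1, 0, 2], [], [4, 3, 1, 0]⟩,
  ⟨470832, [1, 2, 4, 1, 1, 1, 2, 4, 1], [4, 1, 3, 1, 1, 0, 2], [], [4, 3, 1, 1]⟩,
  ⟨471584, [1, 0, 2, 1, 1, 3, 1, 2, 1, 1, 1, 3], [2, 1, 1, 3, 1, 3, 2, 1, 3, 1, 3], [1, 3, 2, 1, 2, 3, 1, 3, 1, 3, 2, 1, 2, 3, 1], []⟩,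
  ⟨471600, [1, 0, 2, 1, 1, 3, 1, 2, 1, 1, 1, 3], [2, 1, 1, 3, 1, 3, 2, 1, 3, 1, 3], [1, 1, 3, 1, 3, 2, 1, 1, 2, 3, 1, 3, 1, 1, 2], []⟩,
  ⟨472608, [1, 2, 1, 1, 1, 3, 1, 0, 2, 1, 1, 3], [2, 1, 1, 3, 2, 1, 2, 3, 1, 0, 3, 1, 0], [0, 1, 3, 1, 1, 2, 3, 1, 3, 2, 1, 1, 3, 1, 2], []⟩,
  ⟨472624, [1, 2, 1, 1, 1, 3, 1, 0, 2, 1, 1, 3], [2, 1, 1, 3, 2, 1, 2, 3, 1, 0, 3, 1, 0], [1, 3, 1, 1, 2, 3, 1, 3, 2, 1, 1, 3, 1, 2], []⟩,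
  ⟨473632, [1, 1, 4, 1, 2, 1, 4, 1, 1], [0, 1, 1, 2, 4, 1, 3, 2, 1, 3, 4, 1], [], [4, 2, 1, 0]⟩,
  ⟨473648, [1, 1, 2, 4, 1, 2, 4, 1, 1], [4, 1, 2, 3, 1, 4, 1, 2, 3, 1, 0, 3], [], [4, 2, 1, 1]⟩,
  ⟨474656, [1, 1, 4, 1, 2, 1, 4, 1, 1], [0, 1, 4, 1, 2, 4, 1, 1, 3, 1, 4, 1], [], [4, 3, 1, 0]⟩,
  ⟨474672, [1, 1, 2, 4, 1, 2, 4, 1, 1], [4, 1, 2, 3, 4, 1, 2, 3, 4, 1, 3], [], [4, 3, 1, 1]⟩,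
  ⟨475232, [3], [0, 2, 1, 3, 1, 0, 2, 1, 2, 3, 1, 3, 2], [1, 3, 2, 1, 2, 3, 1, 3, 1, 3, 2, 1, 2, 3, 1], []⟩,
  ⟨475248, [3], [0, 2, 1, 3, 1, 0, 2, 1, 2, 3, 1, 3, 2], [1, 1, 3, 1, 3, 2, 1, 1, 2, 3, 1, 3, 1, 1, 2], []⟩,
  ⟨476256, [0, 3], [0, 2, 1, 0, 3, 1, 1, 2, 1, 3, 1, 2, 3], [0, 1, 3, 1, 1, 2, 3, 1, 3, 2, 1, 1, 3, 1, 2], []⟩,
  ⟨476272, [0, 3], [0, 2, 1, 0, 3, 1, 1, 2, 1, 3, 1, 2, 3], [1, 3, 1, 1, 2, 3, 1, 3, 2, 1, 1, 3, 1, 2], []⟩,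
  ⟨477280, [3, 4], [3, 1, 3, 1, 2, 4, 1, 1, 4], [], [4, 2, 1, 0]⟩,
  ⟨477296, [0, 3, 4], [1, 2, 3, 1, 1, 2, 4, 1, 1, 1], [], [4, 2, 1, 1]⟩,
  ⟨478304, [0, 3, 4], [1, 3, 1, 1, 2, 4, 1, 1, 4], [], [4, 3, 1, 0]⟩,
  ⟨478320, [3, 4], [1, 3, 1, 1, 2, 4, 1, 1, 1, 4], [], [4, 3, 1, 1]⟩,
  ⟨491744, [1, 1, 3, 1, 3, 1, 1], [1, 3, 2, 1, 2, 3, 1, 3, 1, 1, 2], [1, 3, 2, 1, 2, 3, 1, 3, 1, 3, 2, 1, 2, 3, 1], []⟩,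
  ⟨491760, [1, 1, 3, 1, 3, 1, 1], [1, 3, 2, 1, 2, 3, 1, 3, 1, 1, 2], [1, 1, 3, 1, 3, 2, 1, 1, 2, 3, 1, 3, 1, 1, 2], []⟩,
  ⟨492768, [0, 1, 3, 1, 1, 3, 1, 3], [1, 3, 1, 3, 2, 1, 3, 1, 1, 1, 2], [0, 1, 3, 1, 1, 2, 3, 1, 3, 2, 1, 1, 3, 1, 2], []⟩,
  ⟨492784, [0, 1, 3, 1, 1, 3, 1, 3], [1, 3, 1, 3, 2, 1, 3, 1, 1, 1, 2], [1, 3, 1, 1, 2, 3, 1, 3, 2, 1, 1, 3, 1, 2], []⟩,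
  ⟨493792, [1, 1, 3, 4, 1, 3, 4, 1, 1], [0, 4, 1, 3, 2, 4, 1, 3, 2, 4, 1, 2], [], [4, 2, 1, 0]⟩,
  ⟨493808, [1, 1, 3, 1, 4, 1, 3, 1, 1], [4, 1, 2, 3, 4, 1, 2, 3, 4, 1, 2], [], [4, 2, 1, 1]⟩,
  ⟨494816, [1, 1, 4, 1, 3, 1, 4, 1, 1], [0, 1, 4, 1, 3, 4, 1, 1, 2, 1, 4, 1], [], [4, 3, 1, 0]⟩,
  ⟨494832, [1, 1, 3, 4, 1, 3, 4, 1, 1], [4, 1, 2, 3, 1, 4, 1, 2, 3, 1, 2], [], [4, 3, 1, 1]⟩,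
  ⟨508064, [1, 3, 1, 1, 1, 3, 1], [0, 1, 3, 1, 1, 0, 2, 1, 3, 1, 1, 1, 3], [1, 3, 2, 1, 2, 3, 1, 3, 1, 3, 2, 1, 2, 3, 1], []⟩,
  ⟨508080, [1, 3, 1, 1, 1, 3, 1], [0, 1, 3, 1, 1, 0, 2, 1, 3, 1, 1, 1, 3], [1, 1, 3, 1, 3, 2, 1, 1, 2, 3, 1, 3, 1, 1, 2], []⟩,
  ⟨509088, [1, 3, 1, 1, 3, 1], [0, 1, 3, 1, 1, 1, 2, 1, 3, 1, 1, 3], [0, 1, 3, 1, 1, 2, 3, 1, 3, 2, 1, 1, 3, 1, 2], []⟩,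
  ⟨509104, [1, 3, 1, 1, 3, 1], [0, 1, 3, 1, 1, 1, 2, 1, 3, 1, 1, 3], [1, 3, 1, 1, 2, 3, 1, 3, 2, 1, 1, 3, 1, 2], []⟩,
  ⟨510112, [1, 3, 1, 1, 4, 1, 1, 3, 1], [0, 4, 1, 2, 1, 1, 3], [], [4, 2, 1, 0]⟩,
  ⟨510128, [1, 3, 4, 1, 1, 3, 4, 1], [4, 1, 2, 1, 1, 3], [], [4, 2, 1, 1]⟩,
  ⟨511136, [1, 3, 4, 1, 1, 3, 4, 1], [0, 4, 1, 2, 1, 1, 0, 3], [], [4, 3, 1, 0]⟩,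
  ⟨511152, [1, 3, 4, 1, 1, 1, 3, 4, 1], [4, 1, 2, 1, 1, 0, 3], [], [4, 3, 1, 1]⟩]

/-- all configurations -/
def cfgCert : List Row := cfg0 ++ cfg1 ++ cfg2 ++ cfg3 ++ cfg4 ++ cfg5

end CfsgLib.Spor.SuzRecog.L34
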