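import Cfsg.Agent.Lib.Spor.SuzRecog.L34Data
import Cfsg.Agent.Lib.Spor.FourField
import Cfsg.Agent.Lib.Classical.SLGen
import Cfsg.Agent.Lib.PSL2.Congr
import Mathlib.LinearAlgebra.Matrix.Adjugate
import Mathlib.FieldTheory.Finite.GaloisField

/-!
The configurations of an involution, a dihedral pair, a further involution and an inverted element
of order five in `PSL(3,4)`, checked by certificates on matrices coded as numbers.
-/

set_option autoImplicit false
set_option maxRecDepth 100000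

namespace CfsgLib.Spor.SuzRecog.L34

open Matrix CfsgLib.Spor

/-- the element of a number -/
def q4 (n : ℕ) : QField := ⟨⟨n % 4, Nat.mod_lt _ (by norm_num)⟩⟩

/-- sum -/
def addN (a b : ℕ) : ℕ := (a % 4) ^^^ (b % 4)

/-- product -/
def mulN (a b : ℕ) : ℕ := (2625168384 >>> (2 * (4 * (a % 4) + b % 4))) % 4

theorem q4_eq_iff {a b : ℕ} : q4 a = q4 b ↔ a % 4 = b % 4 := by simp [q4, Fin.ext_iff]

theorem q4_mod (n : ℕ) : q4 n = q4 (n % 4) := by simp [q4]

theorem tables : ∀ a < 4, ∀ b < 4,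
    q4 (addN a b) = q4 a + q4 b ∧ q4 (mulN a b) = q4 a * q4 b := by
  decide +kernel

theorem q4_add (a b : ℕ) : q4 (addN a b) = q4 a + q4 b := by
  have h := (tables (a % 4) (Nat.mod_lt _ (by norm_num)) (b % 4) (Nat.mod_lt _ (by norm_num))).1
  rw [← q4_mod, ← q4_mod] at h
  rw [← h]
  simp [addN]

theorem q4_mul (a b : ℕ) : q4 (mulN a b) = q4 a * q4 b := by
  have h := (tables (a % 4) (Nat.mod_lt _ (by norm_num)) (b % 4) (Nat.mod_lt _ (by norm_num))).2
  rw [← q4_mod, ← q4_mod] at h
  rw [← h]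
  simp [mulN]

theorem q4_surjective : ∀ c : QField, ∃ n < 4, q4 n = c := by decide +kernel

theorem qneg (a : QField) : -a = a := rfl

theorem qtwo (a : QField) : a + a = 0 := by
  simpa [qneg] using add_neg_cancel a

theorem qcube : ∀ a : QField, a ≠ 0 → a ^ 3 = 1 := by decide +kernel

theorem qscalar : ∀ a : QField, a ≠ 0 → a = q4 1 ∨ a = q4 2 ∨ a = q4 3 := by decide +kernel

theorem qsqrt_one : ∀ a : QField, a * a = 1 → a = 1 := by decide +kernel

/-- nine digits -/
def pack (a b c d e f g h i : ℕ) : ℕ :=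
  a % 4 + 4 * (b % 4 + 4 * (c % 4 + 4 * (d % 4 + 4 * (e % 4 + 4 * (f % 4 + 4 * (g % 4 +
    4 * (h % 4 + 4 * (i % 4))))))))

/-- the matrix of a number -/
def dec (n : ℕ) : Matrix (Fin 3) (Fin 3) QField :=
  !![q4 n, q4 (n / 4), q4 (n / 16); q4 (n / 64), q4 (n / 256), q4 (n / 1024);
    q4 (n / 4096), q4 (n / 16384), q4 (n / 65536)]

theorem dec_pack (a b c d e f g h i : ℕ) :
    dec (pack a b c d e f g h i) = !![q4 a, q4 b, q4 c; q4 d, q4 e, q4 f; q4 g, q4 h, q4 i] := by
  have key : ∀ {m n : ℕ}, m % 4 = n % 4 → q4 m = q4 n := fun h => q4_eq_iff.2 h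
  unfold dec
  generalize hn : pack a b c d e f g h i = n
  unfold pack at hn
  rw [key (m := n) (n := a) (by omega), key (m := n / 4) (n := b) (by omega),
    key (m := n / 16) (n := c) (by omega), key (m := n / 64) (n := d) (by omega),
    key (m := n / 256) (n := e) (by omega), key (m := n / 1024) (n := f) (by omega),
    key (m := n / 4096) (n := g) (by omega), key (m := n / 16384) (n := h) (by omega),
    key (m := n / 65536) (n := i) (by omega)]

/-- inner product -/
def dot3 (a b c x y z : ℕ) : ℕ := addN (addN (mulN a x) (mulN b y)) (mulN c z)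

/-- product -/
def mulM (p r : ℕ) : ℕ :=
  pack (dot3 p (p / 4) (p / 16) r (r / 64) (r / 4096))
    (dot3 p (p / 4) (p / 16) (r / 4) (r / 256) (r / 16384))
    (dot3 p (p / 4) (p / 16) (r / 16) (r / 1024) (r / 65536))
    (dot3 (p / 64) (p / 256) (p / 1024) r (r / 64) (r / 4096))
    (dot3 (p / 64) (p / 256) (p / 1024) (r / 4) (r / 256) (r / 16384))
    (dot3 (p / 64) (p / 256) (p / 1024) (r / 16) (r / 1024) (r / 65536))
    (dot3 (p / 4096) (p / 16384) (p / 65536) r (r / 64) (r / 4096))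
    (dot3 (p / 4096) (p / 16384) (p / 65536) (r / 4) (r / 256) (r / 16384))
    (dot3 (p / 4096) (p / 16384) (p / 65536) (r / 16) (r / 1024) (r / 65536))

theorem dec_mulM (p r : ℕ) : dec (mulM p r) = dec p * dec r := by
  rw [mulM, dec_pack]
  simp only [dot3, q4_add, q4_mul, dec]
  ext i j
  rw [Matrix.mul_apply, Fin.sum_univ_three]
  fin_cases i <;> fin_cases j <;> rfl

/-- scalar multiple -/
def scalM (l p : ℕ) : ℕ :=
  pack (mulN l p) (mulN l (p / 4)) (mulN l (p / 16)) (mulN l (p / 64)) (mulN l (p / 256))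
    (mulN l (p / 1024)) (mulN l (p / 4096)) (mulN l (p / 16384)) (mulN l (p / 65536))

theorem dec_scalM (l p : ℕ) : dec (scalM l p) = q4 l • dec p := by
  rw [scalM, dec_pack]
  simp only [q4_mul, dec]
  ext i j
  fin_cases i <;> fin_cases j <;> rfl

/-- the identity -/
def oneM : ℕ := 65793

theorem dec_oneM : dec oneM = 1 := by decide +kernel

/-- equality of matrices -/
def eqM (p r : ℕ) : Bool := Nat.beq (p % 262144) (r % 262144)

theorem eqM_iff {p r : ℕ} : eqM p r = true ↔ dec p = dec r := by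
  rw [eqM, Nat.beq_eq]
  constructor
  · intro h
    have key : ∀ k : ℕ, k ∈ [1, 4, 16, 64, 256, 1024, 4096, 16384, 65536] →
        q4 (p / k) = q4 (r / k) := by
      intro k hk
      rw [q4_eq_iff]
      simp only [List.mem_cons, List.not_mem_nil, or_false] at hk
      rcases hk with rfl | rfl | rfl | rfl | rfl | rfl | rfl | rfl | rfl <;> omega
    have h1 := key 1 (by simp)
    simp only [Nat.div_one] at h1
    simp only [dec, h1, key 4 (by simp), key 16 (by simp), key 64 (by simp), key 256 (by simp),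
      key 1024 (by simp), key 4096 (by simp), key 16384 (by simp), key 65536 (by simp)]
  · intro h
    have e := fun i j => congrFun (congrFun h i) j
    have h0 := q4_eq_iff.1 (e 0 0)
    have h1 := q4_eq_iff.1 (e 0 1)
    have h2 := q4_eq_iff.1 (e 0 2)
    have h3 := q4_eq_iff.1 (e 1 0)
    have h4 := q4_eq_iff.1 (e 1 1)
    have h5 := q4_eq_iff.1 (e 1 2)
    have h6 := q4_eq_iff.1 (e 2 0)
    have h7 := q4_eq_iff.1 (e 2 1)
    have h8 := q4_eq_iff.1 (e 2 2)
    omega

/-- projective equality -/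
def pe (p r : ℕ) : Bool := eqM p r || eqM p (scalM 2 r) || eqM p (scalM 3 r)

/-- determinant -/
def detM (p : ℕ) : ℕ :=
  addN (addN (addN (addN (addN (mulN (mulN p (p / 256)) (p / 65536))
    (mulN (mulN p (p / 1024)) (p / 16384))) (mulN (mulN (p / 4) (p / 64)) (p / 65536)))
    (mulN (mulN (p / 4) (p / 1024)) (p / 4096))) (mulN (mulN (p / 16) (p / 64)) (p / 16384)))
    (mulN (mulN (p / 16) (p / 256)) (p / 4096))

theorem q4_detM (p : ℕ) : q4 (detM p) = (dec p).det := by
  rw [Matrix.det_fin_three]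
  simp only [detM, q4_add, q4_mul, sub_eq_add_neg, qneg]
  rfl

/-- the special linear group -/
abbrev S : Type := SpecialLinearGroup (Fin 3) QField

/-- the projective group -/
abbrev PP : Type := ProjectiveSpecialLinearGroup (Fin 3) QField

/-- the quotient map -/
def mk : S →* PP := QuotientGroup.mk' _

theorem mk_surjective : Function.Surjective mk := QuotientGroup.mk'_surjective _

theorem mk_eq_iff (M N : S) :
    mk M = mk N ↔ ∃ r : QField, r ≠ 0 ∧ (N : Matrix (Fin 3) (Fin 3) QField) = r • (M : Matrix _ _ _) := by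
  rw [mk, QuotientGroup.mk'_apply, QuotientGroup.mk'_apply, QuotientGroup.eq,
    Matrix.SpecialLinearGroup.mem_center_iff]
  constructor
  · rintro ⟨r, hr, h⟩
    refine ⟨r, fun h0 => by simp [h0] at hr, ?_⟩
    have e : N = M * (M⁻¹ * N) := by group
    rw [e]
    show M.1 * (M⁻¹ * N).1 = _
    rw [← h, scalar_apply, ← smul_one_eq_diagonal, Matrix.mul_smul, Matrix.mul_one]
  · rintro ⟨r, hr, h⟩
    refine ⟨r, qcube r hr, ?_⟩
    show _ = (M⁻¹).1 * N.1
    rw [h, Matrix.mul_smul, scalar_apply, ← smul_one_eq_diagonal]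
    congr 1
    show (1 : S).1 = ((M⁻¹ * M : S)).1
    rw [inv_mul_cancel]

section

variable {L : Type*} [Group L] (φ : L ≃* PP)

/-- `x` has code `n` under `φ` -/
def Rep (x : L) (n : ℕ) : Prop :=
  ∃ M : S, mk M = φ x ∧ (M : Matrix (Fin 3) (Fin 3) QField) = dec n

variable {φ}

theorem Rep.one : Rep φ 1 oneM := ⟨1, by simp, by rw [dec_oneM]; rfl⟩

theorem Rep.mul {x y : L} {m n : ℕ} (hx : Rep φ x m) (hy : Rep φ y n) :
    Rep φ (x * y) (mulM m n) := by
  obtain ⟨M, h1, h2⟩ := hx
  obtain ⟨N, h3, h4⟩ := hy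
  exact ⟨M * N, by rw [map_mul, map_mul, h1, h3], by show M.1 * N.1 = _; rw [dec_mulM, ← h2, ← h4]⟩

theorem Rep.pe_iff {x y : L} {m n : ℕ} (hx : Rep φ x m) (hy : Rep φ y n) :
    pe m n = true ↔ x = y := by
  obtain ⟨M, h1, h2⟩ := hx
  obtain ⟨N, h3, h4⟩ := hy
  have h : x = y ↔ mk N = mk M := by rw [h1, h3]; exact ⟨fun e => by rw [e], fun e => φ.injective e.symm⟩
  rw [h, mk_eq_iff]
  simp only [pe, Bool.or_eq_true, eqM_iff, dec_scalM, ← h2, ← h4]
  constructor
  · rintro ((e | e) | e)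
    · exact ⟨1, one_ne_zero, by rw [one_smul, e]⟩
    · exact ⟨q4 2, by decide, e⟩
    · exact ⟨q4 3, by decide, e⟩
  · rintro ⟨r, hr, e⟩
    rcases qscalar r hr with rfl | rfl | rfl
    · left; left
      rw [e]
      exact one_smul QField _
    · exact Or.inl (Or.inr e)
    · exact Or.inr e

/-- powers -/
def pwM (p : ℕ) : ℕ → ℕ
  | 0 => oneM
  | n + 1 => mulM (pwM p n) p

theorem Rep.pow {x : L} {m : ℕ} (hx : Rep φ x m) : ∀ n : ℕ, Rep φ (x ^ n) (pwM m n)
  | 0 => by rw [pow_zero]; exact Rep.one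
  | n + 1 => by rw [pow_succ]; exact (Rep.pow hx n).mul hx

/-- the value of a word -/
def evW (gs : List ℕ) (w : List ℕ) : ℕ := w.foldl (fun a i => mulM a (gs.getD i oneM)) oneM

theorem exists_rep_evW {H : Subgroup L} {gs : List ℕ} (hgs : ∀ m ∈ gs, ∃ y ∈ H, Rep φ y m)
    (w : List ℕ) : ∃ y ∈ H, Rep φ y (evW gs w) := by
  have h : ∀ (w : List ℕ) (a : ℕ), (∃ y ∈ H, Rep φ y a) →
      ∃ y ∈ H, Rep φ y (w.foldl (fun a i => mulM a (gs.getD i oneM)) a) := by
    intro w
    induction w with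
    | nil => exact fun a h => h
    | cons i w ih =>
      intro a ha
      obtain ⟨y, hy, ry⟩ := ha
      obtain ⟨g, hg, rg⟩ : ∃ g ∈ H, Rep φ g (gs.getD i oneM) := by
        rw [List.getD_eq_getElem?_getD]
        rcases h : gs[i]? with _ | m
        · exact ⟨1, H.one_mem, by simpa using Rep.one⟩
        · simpa using hgs m (List.mem_of_getElem? h)
      exact ih _ ⟨y * g, H.mul_mem hy hg, ry.mul rg⟩
  exact h w _ ⟨1, H.one_mem, Rep.one⟩

end

/-- `z` -/
def zM : ℕ := 65809

/-- unitriangular matrices -/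
def uM (i : ℕ) : ℕ := pack 1 i (i / 16) 0 1 (i / 4) 0 0 1

/-- digits of a vector -/
def dotV (v u : ℕ) : ℕ := dot3 v (v / 4) (v / 16) u (u / 4) (u / 16)

/-- the first nonzero digit is one -/
def normV (v : ℕ) : Bool :=
  Nat.beq (v % 4) 1 || Nat.beq (v % 4) 0 &&
    (Nat.beq (v / 4 % 4) 1 || Nat.beq (v / 4 % 4) 0 && Nat.beq (v / 16 % 4) 1)

/-- `1 + v ⊗ u` -/
def invM (v u : ℕ) : ℕ :=
  pack (addN 1 (mulN v u)) (mulN v (u / 4)) (mulN v (u / 16))
    (mulN (v / 4) u) (addN 1 (mulN (v / 4) (u / 4))) (mulN (v / 4) (u / 16))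
    (mulN (v / 16) u) (mulN (v / 16) (u / 4)) (addN 1 (mulN (v / 16) (u / 16)))

/-- codes of involutions -/
def invOK (v u : ℕ) : Bool := normV v && Nat.ble 1 u && Nat.beq (dotV v u % 4) 0

/-- every involution is conjugate to `z` -/
def invChk : Bool :=
  (List.range 64).all fun v => (List.range 64).all fun u => !invOK v u ||
    invCert.any fun e => Nat.beq e.1 (64 * v + u) &&
      (eqM (mulM e.2 zM) (mulM (invM v u) e.2) && Nat.beq (detM e.2) 1)

/-- the elements of order five inverted by `z` -/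
def rChk : Bool :=
  (List.range 64).all fun v => (List.range 64).all fun u => !invOK v u ||
    (!pe (pwM (mulM zM (invM v u)) 5) oneM || pe (mulM zM (invM v u)) oneM ||
      rCert.any fun e => Nat.beq e.1 (64 * v + u) && (Nat.blt e.2.1 2 && Nat.blt e.2.2 64 &&
        pe (mulM (uM e.2.2) (mulM zM (invM v u))) (mulM (rReps.getD e.2.1 oneM) (uM e.2.2))))

/-- the transvections are words in the two generators -/
def tChk : Bool :=
  (List.range 3).all fun i => (List.range 3).all fun j => Nat.beq i j ||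
    (List.range 4).all fun c => Nat.beq c 0 ||
      tCert.any fun e => Nat.beq e.1 ((3 * i + j) * 4 + c) &&
        pe (evW xyGens e.2) (oneM + c * 4 ^ (3 * i + j))

/-- the elements of `⟨z, f, g⟩` offered -/
def optF (F G a : ℕ) : ℕ := [F, mulM F zM, G, mulM G zM].getD a oneM

/-- a variant satisfies the relations -/
def varOK (R F G C : ℕ) (l : List ℕ) : Bool :=
  let b := mulM zM (pwM R (l.getD 0 0))
  let f := optF F G (l.getD 1 0)
  let g := optF F G (l.getD 2 0)
  let c := [C, mulM C zM].getD (l.getD 3 0) C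
  pe (mulM b b) oneM && pe (mulM f f) oneM && pe (mulM g g) oneM && pe (pwM (mulM f g) 2) zM &&
    pe (pwM (mulM zM b) 5) oneM && pe (pwM (mulM b c) 3) oneM && pe (pwM (mulM b f) 3) oneM &&
    pe (pwM (mulM b g) 3) oneM && pe (pwM (mulM (mulM (mulM zM b) c) f) 5) oneM &&
    pe (pwM (mulM (mulM b f) g) 5) oneM

/-- a configuration generates and has a short word for `c` or a variant -/
def cfgOK (R F G C : ℕ) (e : Row) : Bool :=
  pe (evW [zM, R, F, G, C] e.wx) (xyGens.getD 0 oneM) &&
    pe (evW [zM, R, F, G, C] e.wy) (xyGens.getD 1 oneM) &&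
      match e.var with
      | [] => pe (evW [zM, R, F, G] e.wc) C
      | _ :: _ => varOK R F G C e.var

/-- all configurations in the centraliser -/
def cfgChk : Bool :=
  (List.range 64).all fun f => !pe (mulM (uM f) (uM f)) oneM || (List.range 64).all fun g =>
    !(pe (mulM (uM g) (uM g)) oneM && pe (pwM (mulM (uM f) (uM g)) 2) zM) ||
      (List.range 64).all fun c =>
        !(pe (mulM (uM c) (uM c)) oneM && !pe (uM c) oneM && !pe (uM c) zM &&
          pe (mulM (uM f) (uM c)) (mulM (uM c) (uM f)) &&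
          pe (mulM (uM g) (uM c)) (mulM (uM c) (uM g))) ||
        (List.range 2).all fun k => cfgCert.any fun e =>
          Nat.beq e.key (((k * 64 + f) * 64 + g) * 64 + c) &&
            cfgOK (rReps.getD k oneM) (uM f) (uM g) (uM c) e

end CfsgLib.Spor.SuzRecog.L34
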