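import Cfsg.Agent.Lib.Spor.SuzRecog.Cent
import Cfsg.Agent.Lib.Spor.SuzRecog.Interface
import Cfsg.Agent.Lib.Small.SuzTwo.Model

/-!
Three involutions of the extraspecial subgroup above the chosen four group.
-/

set_option autoImplicit false
set_option linter.style.haveILetI false

namespace CfsgLib.Spor.SuzRecog

open Subgroup CfsgLib.Small.SuzOrder CfsgLib.Small.SuzTwo Equiv

universe u

/-- The elements of `Q` completing the configuration. -/
structure LiftCfg {G : Type*} [Group G] (z v w x d P1 P2 H : G) : Prop where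
  p_sq : P1 * P1 = 1
  q_sq : P2 * P2 = 1
  h_sq : H * H = 1
  zp : z * P1 = P1 * z
  zq : z * P2 = P2 * z
  zh : z * H = H * z
  pv : P1 * v = v * P1
  qv : P2 * v = v * P2
  hv : H * v = v * H
  pw : P1 * w = w * P1
  qw : P2 * w = w * P2
  hw : H * w = w * H
  px : P1 * x = x * P1
  qx : P2 * x = x * P2
  hx : H * x = x * H
  pd : P1 * d = d * P1
  qd : P2 * d = d * P2
  pq : (P1 * P2) ^ 2 = z
  ph : P1 * H = H * P1
  qh : P2 * H = H * P2
  h_ne : H ≠ 1
  h_ne_z : H ≠ z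
  hd : (H * (d * H * d)) ^ 2 = z

variable {G : Type u} [Group G] [Finite G] {z : G} {Q : Subgroup G} {f : G → Fin 64}
  {ρ : Cz z →* Perm (Fin 64)}

theorem sign_fix (M : Model z Q f ρ) {a q : G} (ha : a ∈ Cz z) (hq : q ∈ Q)
    (h : ρ ⟨a, ha⟩ (f q) = f q) : a * q * a⁻¹ = q ∨ a * q * a⁻¹ = q * z := by
  refine M.f_eq hq (M.normal a ha q hq) ?_
  rw [M.img_conj (Img.mk' ha) hq, h]

/-- A signed action of the chosen elements on a lift is trivial. -/
theorem lift_comm (M : Model z Q f ρ) {v w x q : G} (hv : v ∈ Cz z) (hw : w ∈ Cz z)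
    (hx : x ∈ Cz z) (hx3 : x ^ 3 = 1) (hxv : x * v * x⁻¹ = w) (hxw : x * w * x⁻¹ = v * w)
    (hq : q ∈ Q) (fv : ρ ⟨v, hv⟩ (f q) = f q) (fx : ρ ⟨x, hx⟩ (f q) = f q) :
    q * v = v * q ∧ q * w = w * q ∧ q * x = x * q := by
  have hqz : z * q = q * z := (mem_Cz.1 (M.le hq)).symm
  have hqzz : q * z * z = q := by rw [mul_assoc, M.zz, mul_one]
  have hcz : ∀ a ∈ Cz z, ∀ b : G, a * (b * z) * a⁻¹ = a * b * a⁻¹ * z := fun a ha b => by
    calc a * (b * z) * a⁻¹ = a * b * (z * a⁻¹) := by group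
      _ = a * b * (a⁻¹ * z) := by rw [mem_Cz.1 (inv_mem ha)]
      _ = _ := by group
  have hx' : x * q * x⁻¹ = q := by
    rcases sign_fix M hx hq fx with h | h
    · exact h
    · exfalso
      refine M.z_ne ((mul_eq_left (a := q)).1 ?_)
      have e : x ^ 3 * q * (x ^ 3)⁻¹ = q * z := by
        calc x ^ 3 * q * (x ^ 3)⁻¹ = x * (x * (x * q * x⁻¹) * x⁻¹) * x⁻¹ := by
              simp only [pow_succ, pow_zero, one_mul]; group
          _ = q * z := by rw [h, hcz x hx, h, hqzz, h]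
      rw [hx3, one_mul, inv_one, mul_one] at e
      exact e.symm
  have hxq : x * q = q * x := mul_inv_eq_iff_eq_mul.1 hx'
  have hwq : ∀ a, a * q * a⁻¹ = q ∨ a * q * a⁻¹ = q * z →
      (x * a * x⁻¹) * q * (x * a * x⁻¹)⁻¹ = a * q * a⁻¹ := by
    intro a ha
    have e1 : x⁻¹ * q * x = q := by rw [mul_assoc, ← hxq, inv_mul_cancel_left]
    calc (x * a * x⁻¹) * q * (x * a * x⁻¹)⁻¹ = x * (a * (x⁻¹ * q * x) * a⁻¹) * x⁻¹ := by group
      _ = x * (a * q * a⁻¹) * x⁻¹ := by rw [e1]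
      _ = a * q * a⁻¹ := by
          rcases ha with h | h
          · rw [h, hx']
          · rw [h, hcz x hx, hx']
  have hv' : v * q * v⁻¹ = q := by
    rcases sign_fix M hv hq fv with h | h
    · exact h
    · exfalso
      have h1 := hwq v (Or.inr h)
      rw [hxv, h] at h1
      have h2 := hwq w (Or.inr h1)
      rw [hxw, h1] at h2
      have h3 : v * w * q * (v * w)⁻¹ = q := by
        calc v * w * q * (v * w)⁻¹ = v * (w * q * w⁻¹) * v⁻¹ := by group
          _ = q := by rw [h1, hcz v hv, h, hqzz]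
      rw [h3] at h2
      exact M.z_ne (mul_eq_left.1 h2.symm)
  have hw' : w * q * w⁻¹ = q := by rw [← hxv, hwq v (Or.inl hv'), hv']
  exact ⟨(mul_inv_eq_iff_eq_mul.1 hv').symm, (mul_inv_eq_iff_eq_mul.1 hw').symm, hxq.symm⟩

theorem exists_lift (M : Model z Q f ρ) {t : G} {L : LocData z t} (D : FourData L)
    {r v w x d : G} (C : FiveCfg D r v w x d) (hO : OrthFacts)
    (hQ : ∀ q ∈ Q, IsConj t q → False) :
    ∃ P1 P2 H : G, LiftCfg z v w x d P1 P2 H := by
  classical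
  have hzM : z ∈ D.M := (D.z_conj z (IsConj.refl z) L.comm).1
  have hVz : ∀ u ∈ D.V, u ∈ Cz z := fun u hu => mem_Cz.2 (((D.M_eq z).1 hzM u hu)).symm
  have hv := hVz v C.v_mem
  have hw := hVz w C.w_mem
  have hx : x ∈ Cz z := mem_Cz.2 C.xz
  have hd : d ∈ Cz z := mem_Cz.2 C.dz
  set pv := ρ ⟨v, hv⟩ with hpv
  set pw := ρ ⟨w, hw⟩ with hpw
  set px := ρ ⟨x, hx⟩ with hpx
  set pd := ρ ⟨d, hd⟩ with hpd
  have hvne : ∀ u (hu : u ∈ D.V), u ≠ 1 → ρ ⟨u, hVz u hu⟩ ≠ 1 := fun u hu h1 he =>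
    hQ u ((M.ρ_ker ⟨u, hVz u hu⟩).1 he) (D.V_conj u hu h1)
  have hvw : v * w = w * v := (D.M_eq v).1 (Odd.V_le_M D C.v_mem) w C.w_mem
  have hv2 : pv * pv = 1 := by
    rw [hpv, ← map_mul, show (⟨v, hv⟩ : Cz z) * ⟨v, hv⟩ = 1 from
      Subtype.ext (D.V_sq v C.v_mem), map_one]
  have hvwne : v * w ≠ 1 := fun h => C.wv_ne (by
    rw [mul_eq_one_iff_eq_inv] at h
    rw [h, inv_eq_of_mul_eq_one_right (D.V_sq w C.w_mem)])
  have hne2 : pw ≠ pv := fun h => hvne (v * w) (mul_mem C.v_mem C.w_mem) hvwne (by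
    rw [show (⟨v * w, hVz _ (mul_mem C.v_mem C.w_mem)⟩ : Cz z) = ⟨v, hv⟩ * ⟨w, hw⟩ from rfl,
      map_mul, ← hpv, ← hpw, h, hv2])
  have htri : FourTri ρ.range pv pw px := by
    refine ⟨⟨_, rfl⟩, ⟨_, rfl⟩, ⟨_, rfl⟩, hv2, hvne v C.v_mem C.v_ne, hne2, ?_, ?_, ?_, ?_⟩
    · rw [hpv, hpw, ← map_mul, ← map_mul]; exact congrArg ρ (Subtype.ext hvw)
    · rw [hpx, ← map_pow, show (⟨x, hx⟩ : Cz z) ^ 3 = 1 from Subtype.ext C.x_cube, map_one]
    · rw [hpx, hpv, hpw, ← map_mul, ← map_inv, ← map_mul]; exact congrArg ρ (Subtype.ext C.xv)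
    · rw [hpx, hpv, hpw, ← map_mul, ← map_inv, ← map_mul, ← map_mul]
      exact congrArg ρ (Subtype.ext C.xw)
  -- the centraliser of the four in `Cz z`
  let N : Subgroup (Cz z) := centralizer {⟨v, hv⟩, ⟨w, hw⟩}
  have hT0 : 256 ≤ Nat.card N := by
    rw [← L.card_T0]
    have hmem : ∀ a ∈ L.T0, a * z = z * a := fun a ha => (Odd.tz_mem (Odd.T0_le_T ha)).1
    refine Nat.card_le_card_of_injective
      (fun a : L.T0 => (⟨⟨a, mem_Cz.2 (hmem a a.2)⟩, mem_centralizer_iff.2 ?_⟩ : N)) ?_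
    · rintro u (rfl | rfl)
      · exact Subtype.ext ((D.M_eq (a : G)).1 (D.T0_le a.2) v C.v_mem).symm
      · exact Subtype.ext ((D.M_eq (a : G)).1 (D.T0_le a.2) w C.w_mem).symm
    · intro a b h
      exact Subtype.ext (congrArg (fun c : N => ((c : Cz z) : G)) h)
  have hbound : Nat.card N ≤
      Nat.card {p : Perm (Fin 64) // p ∈ ρ.range ∧ p * pv = pv * p ∧ p * pw = pw * p} *
        (2 * Nat.card {h : Fin 64 // pv h = h ∧ pw h = h}) := by
    let φ := ρ.comp N.subtype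
    rw [← φ.ker.card_mul_index, index_ker, mul_comm]
    refine Nat.mul_le_mul ?_ ?_
    · refine Nat.card_le_card_of_injective (fun p : φ.range =>
        (⟨p.1, ?_⟩ : {p : Perm (Fin 64) // p ∈ ρ.range ∧ p * pv = pv * p ∧ p * pw = pw * p})) ?_
      · obtain ⟨a, ha⟩ := p.2
        refine ⟨⟨a, ha⟩, ?_, ?_⟩
        · rw [← ha, hpv]
          show ρ _ * ρ _ = ρ _ * ρ _
          rw [← map_mul, ← map_mul]
          exact congrArg ρ (mem_centralizer_iff.1 a.2 _ (Or.inl rfl)).symm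
        · rw [← ha, hpw]
          show ρ _ * ρ _ = ρ _ * ρ _
          rw [← map_mul, ← map_mul]
          exact congrArg ρ (mem_centralizer_iff.1 a.2 _ (Or.inr rfl)).symm
      · intro a b h
        exact Subtype.ext (congrArg Subtype.val h :)
    · have hk : ∀ a : φ.ker, ((a : N) : G) ∈ Q ∧ pv (f ((a : N) : G)) = f ((a : N) : G) ∧
          pw (f ((a : N) : G)) = f ((a : N) : G) := by
        intro a
        have hQa : ((a : N) : G) ∈ Q := (M.ρ_ker _).1 a.2
        refine ⟨hQa, ?_, ?_⟩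
        · rw [hpv, ← M.img_conj (Img.mk' hv) hQa]
          refine congrArg f ?_
          have := congrArg Subtype.val (mem_centralizer_iff.1 (a : N).2 _ (Or.inl rfl))
          simp only [Subgroup.coe_mul] at this
          rw [this, mul_inv_cancel_right]
        · rw [hpw, ← M.img_conj (Img.mk' hw) hQa]
          refine congrArg f ?_
          have := congrArg Subtype.val (mem_centralizer_iff.1 (a : N).2 _ (Or.inr rfl))
          simp only [Subgroup.coe_mul] at this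
          rw [this, mul_inv_cancel_right]
      let s : {h : Fin 64 // pv h = h ∧ pw h = h} → G := fun h => (M.f_surj h.1).choose
      have hs : ∀ h, s h ∈ Q ∧ f (s h) = h.1 := fun h => (M.f_surj h.1).choose_spec
      have hcov : ∀ a : φ.ker, ((a : N) : G) = s ⟨_, (hk a).2⟩ ∨
          ((a : N) : G) = s ⟨_, (hk a).2⟩ * z := fun a =>
        M.f_eq (hs ⟨_, (hk a).2⟩).1 (hk a).1 (hs ⟨_, (hk a).2⟩).2
      rw [← Nat.card_eq_fintype_card (α := Bool) |>.trans Fintype.card_bool, ← Nat.card_prod]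
      refine Nat.card_le_card_of_injective (fun a : φ.ker =>
        ((if ((a : N) : G) = s ⟨_, (hk a).2⟩ then true else false,
          (⟨_, (hk a).2⟩ : {h : Fin 64 // pv h = h ∧ pw h = h})))) ?_
      intro a b h
      obtain ⟨h1, h2⟩ := Prod.mk.inj h
      have hsab : s ⟨_, (hk a).2⟩ = s ⟨_, (hk b).2⟩ := congrArg s h2
      apply Subtype.ext
      apply Subtype.ext
      apply Subtype.ext
      show ((a : N) : G) = ((b : N) : G)
      by_cases ha : ((a : N) : G) = s ⟨_, (hk a).2⟩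
      · have hb : ((b : N) : G) = s ⟨_, (hk b).2⟩ := by
          by_contra hb
          rw [if_pos ha, if_neg hb] at h1
          exact Bool.noConfusion h1
        rw [ha, hb, hsab]
      · have hb : ((b : N) : G) ≠ s ⟨_, (hk b).2⟩ := fun hb => by
          rw [if_neg ha, if_pos hb] at h1
          exact Bool.noConfusion h1
        rw [(hcov a).resolve_left ha, (hcov b).resolve_left hb, hsab]
  obtain ⟨hfx, -, hd4⟩ := hO ρ.range M.range_le M.ρ_card pv pw px htri (le_trans hT0 hbound)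
  have hd2 : pd * pd = 1 := by
    rw [hpd, ← map_mul, show (⟨d, hd⟩ : Cz z) * ⟨d, hd⟩ = 1 from Subtype.ext C.d_sq, map_one]
  have hdv : (pd * pv) ^ 3 = 1 := by
    rw [hpd, hpv, ← map_mul, ← map_pow,
      show ((⟨d, hd⟩ : Cz z) * ⟨v, hv⟩) ^ 3 = 1 from Subtype.ext C.dv, map_one]
  have hdne : pd ≠ pv := by
    intro h
    -- then `x` would be inverted by `v`
    have e := congrArg ρ (show (⟨d, hd⟩ : Cz z) * ⟨x, hx⟩ * ⟨d, hd⟩ = (⟨x, hx⟩)⁻¹ from
      Subtype.ext C.dx)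
    rw [map_mul, map_mul, map_inv, ← hpd, ← hpx, h] at e
    have hvi : pv⁻¹ = pv := inv_eq_of_mul_eq_one_right hv2
    have e' : pv * px⁻¹ * pv = px := by
      calc pv * px⁻¹ * pv = (pv⁻¹ * px * pv⁻¹)⁻¹ := by group
        _ = px := by rw [hvi, e, inv_inv]
    have h3 : px * (px * pv * px⁻¹) * px⁻¹ = pv * pw := by rw [htri.xv]; exact htri.xw
    have hx2 : px⁻¹ = px * px := inv_eq_of_mul_eq_one_left (by
      rw [← htri.x_cube, pow_succ, pow_two])
    have h4 : px⁻¹ * pv * px = pv * pw := by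
      rw [← h3]
      nth_rw 1 [hx2]
      calc px * px * pv * px = px * (px * pv * px⁻¹) * px⁻¹ * (px * px * px) := by group
        _ = _ := by rw [← pow_two, ← pow_succ, htri.x_cube, mul_one]
    have h5 : pv * pw * pv = pw := by
      rw [htri.vw, mul_assoc, hv2, mul_one]
    refine htri.v_ne ((mul_eq_right (b := pw)).1 ?_)
    rw [← h4]
    nth_rw 1 [← h5]
    rw [← htri.xv]
    calc px⁻¹ * pv * px = px⁻¹ * pv * (pv * pv) * px := by rw [hv2, mul_one]
      _ = px⁻¹ * pv * (pv * pv * px) := by group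
      _ = (pv * px * pv) * pv * (pv * px⁻¹ * pv) := by rw [e, e', hv2, one_mul]
      _ = pv * (px * (pv * pv) * pv * px⁻¹) * pv := by group
      _ = pv * (px * pv * px⁻¹) * pv := by rw [hv2, mul_one]
  obtain ⟨p, q, h, vp, wp, dp, qp, vq, wq, dq, qq, bpq, vh, wh, qh, bhp, bhq, h0, bhd⟩ :=
    hd4 pd ⟨_, rfl⟩ hd2 hdne hdv (by
      rw [hpd, hpx, ← map_mul, ← map_mul, ← map_inv]; exact congrArg ρ (Subtype.ext C.dx))
  obtain ⟨P1, hP, fP⟩ := M.f_surj p
  obtain ⟨P2, hP2, fP2⟩ := M.f_surj q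
  obtain ⟨H, hH, fH⟩ := M.f_surj h
  have hsq : ∀ a ∈ Q, qb (f a) = false → a * a = 1 := fun a ha he => by
    rw [M.sq_zp ha, he, zp_false]
  have hzc : ∀ a ∈ Q, z * a = a * z := fun a ha => (mem_Cz.1 (M.le ha)).symm
  obtain ⟨pvc, pwc, pxc⟩ := lift_comm M hv hw hx C.x_cube C.xv C.xw hP (by rw [fP]; exact vp)
    (by rw [fP]; exact hfx p vp wp)
  obtain ⟨qvc, qwc, qxc⟩ := lift_comm M hv hw hx C.x_cube C.xv C.xw hP2 (by rw [fP2]; exact vq)
    (by rw [fP2]; exact hfx q vq wq)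
  obtain ⟨hvc, hwc, hxc⟩ := lift_comm M hv hw hx C.x_cube C.xv C.xw hH (by rw [fH]; exact vh)
    (by rw [fH]; exact hfx h vh wh)
  have hdcomm : ∀ a ∈ Q, a * v = v * a → pd (f a) = f a → a * d = d * a := by
    intro a ha hav hfa
    rcases sign_fix M hd ha hfa with h' | h'
    · exact (mul_inv_eq_iff_eq_mul.1 h').symm
    · exfalso
      refine M.z_ne ((mul_eq_left (a := a)).1 ?_)
      have hconj : ∀ b : G, d * v * (b * z) * (d * v)⁻¹ = d * v * b * (d * v)⁻¹ * z := fun b => by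
        have hdvz : z * (d * v)⁻¹ = (d * v)⁻¹ * z :=
          (mem_Cz.1 (inv_mem (mul_mem hd hv))).symm
        calc d * v * (b * z) * (d * v)⁻¹ = d * v * b * (z * (d * v)⁻¹) := by group
          _ = _ := by rw [hdvz]; group
      have h1 : d * v * a * (d * v)⁻¹ = a * z := by
        calc d * v * a * (d * v)⁻¹ = d * (v * a * v⁻¹) * d⁻¹ := by group
          _ = a * z := by rw [← hav, mul_inv_cancel_right, h']
      have e : (d * v) ^ 3 * a * ((d * v) ^ 3)⁻¹ = a * z := by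
        calc (d * v) ^ 3 * a * ((d * v) ^ 3)⁻¹
            = d * v * (d * v * (d * v * a * (d * v)⁻¹) * (d * v)⁻¹) * (d * v)⁻¹ := by
              simp only [pow_succ, pow_zero, one_mul]; group
          _ = a * z := by
              rw [h1, hconj a, h1, mul_assoc a z z, M.zz, mul_one, h1]
      rw [C.dv, one_mul, inv_one, mul_one] at e
      exact e.symm
  have hdH : d * H * d ∈ Q := by
    have := M.normal d hd H hH
    rwa [inv_eq_of_mul_eq_one_right C.d_sq] at this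
  have hfdH : f (d * H * d) = pd h := by
    rw [← fH, hpd, ← M.img_conj (Img.mk' hd) hH, inv_eq_of_mul_eq_one_right C.d_sq]
  have hpair : ∀ a ∈ Q, ∀ b ∈ Q, a * a = 1 → b * b = 1 → bl (f a) (f b) = true →
      (a * b) ^ 2 = z := by
    intro a ha b hb ha2 hb2 hab
    have e := M.comm ha hb
    rw [hab, zp_true] at e
    rw [pow_two]
    calc a * b * (a * b) = a * (b * a) * b := by group
      _ = (a * z) * (a * b) * b := by rw [e]; group
      _ = (z * a) * (a * b) * b := by rw [hzc a ha]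
      _ = z * (a * a) * (b * b) := by group
      _ = z := by rw [ha2, hb2, mul_one, mul_one]
  refine ⟨P1, P2, H, ⟨hsq _ hP (fP ▸ qp), hsq _ hP2 (fP2 ▸ qq), hsq _ hH (fH ▸ qh), hzc _ hP,
    hzc _ hP2, hzc _ hH, pvc, qvc, hvc, pwc, qwc, hwc, pxc, qxc, hxc,
    hdcomm _ hP pvc (fP ▸ dp), hdcomm _ hP2 qvc (fP2 ▸ dq),
    hpair _ hP _ hP2 (hsq _ hP (fP ▸ qp)) (hsq _ hP2 (fP2 ▸ qq)) (by rw [fP, fP2]; exact bpq),
    (M.commute_iff hH hP).2 ?_, (M.commute_iff hH hP2).2 ?_, ?_, ?_, ?_⟩⟩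
  · rw [fH, fP]; exact bhp
  · rw [fH, fP2]; exact bhq
  · intro e; rw [e, M.f_one] at fH; exact h0 fH.symm
  · intro e; rw [e, M.f_z] at fH; exact h0 fH.symm
  · refine hpair _ hH _ hdH (hsq _ hH (fH ▸ qh)) ?_ (by rw [fH, hfdH]; exact bhd)
    rw [show d * H * d * (d * H * d) = d * (H * (d * d) * H) * d by group, C.d_sq, mul_one,
      hsq _ hH (fH ▸ qh), mul_one, C.d_sq]

end CfsgLib.Spor.SuzRecog
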