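import Cfsg.Agent.Lib.Small.SuzTwo.Orth

/-!
Finite checks for the four groups with an element of order three in the orthogonal group of
minus type in dimension six: enumerations of intertwining maps, by columns.
-/

set_option autoImplicit false
set_option maxRecDepth 100000
set_option maxHeartbeats 0
set_option synthInstance.maxSize 4000

namespace CfsgLib.Spor.SuzRecog

open CfsgLib.Small.SuzTwo

/-- The representatives of the four groups and of the elements of order three. -/
def w₁ : Ix := 30

/-- The second four group. -/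
def w₂ : Ix := 42

/-- The element of order three for the first. -/
def x₁ : Ix := 91

/-- The element of order three for the second. -/
def x₂ : Ix := 98

/-- Some `a` may be the image of `p`, given the images `done`. -/
def colOk (p a : Fin 64) (done : List (Fin 64 × Fin 64)) : Bool :=
  qb a == qb p && done.all fun e => bl a e.2 == bl p e.1

/-- The fixed vectors of a matrix. -/
def fixL (m : Mat) : List (Fin 64) := (List.finRange 64).filter fun a => m.ap a == a

/-- The vectors with a given commutator. -/
def solL (m : Mat) (c : Fin 64) (L : List (Fin 64)) : List (Fin 64) :=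
  L.filter fun a => vadd a (m.ap a) == c

/-- The isometries commuting with `ixA`. -/
def cenA : List Mat :=
  let τ := nm ixA
  let L := fixL τ
  let U := List.finRange 64
  (L.filter fun a => colOk 1 a []).flatMap fun a =>
  (L.filter fun b => colOk 2 b [(1, a)]).flatMap fun b =>
  (L.filter fun c => colOk 4 c [(1, a), (2, b)]).flatMap fun c =>
  (L.filter fun d => colOk 8 d [(1, a), (2, b), (4, c)]).flatMap fun d =>
  ((solL τ c U).filter fun e => colOk 16 e [(1, a), (2, b), (4, c), (8, d)]).flatMap fun e =>
  ((solL τ b U).filter fun f => colOk 32 f [(1, a), (2, b), (4, c), (8, d), (16, e)]).map fun f =>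
    ⟨a, b, c, d, e, f⟩

/-- The isometries conjugating `ixC` to the named element. -/
def intw (i : Ix) : List Mat :=
  let τ := nm i
  let L := fixL τ
  let U := List.finRange 64
  (L.filter fun a => colOk 1 a []).flatMap fun a =>
  (L.filter fun b => colOk 2 b [(1, a)]).flatMap fun b =>
  (L.filter fun c => colOk 4 c [(1, a), (2, b)]).flatMap fun c =>
  (L.filter fun f => colOk 32 f [(1, a), (2, b), (4, c)]).flatMap fun f =>
  ((solL τ b U).filter fun d => colOk 8 d [(1, a), (2, b), (4, c), (32, f)]).flatMap fun d =>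
  ((solL τ (vadd a b) U).filter fun e =>
      colOk 16 e [(1, a), (2, b), (4, c), (32, f), (8, d)]).map fun e =>
    ⟨a, b, c, d, e, f⟩

/-- The isometries inverting the second element of order three. -/
def dCand : List Mat :=
  let x := nm x₂
  let L := fixL x
  let U := List.finRange 64
  (L.filter fun b => colOk 2 b []).flatMap fun b =>
  (L.filter fun e => colOk 16 e [(2, b)]).flatMap fun e =>
  (L.filter fun c => colOk 4 c [(2, b), (16, e)]).flatMap fun c =>
  (L.filter fun f => colOk 32 f [(2, b), (16, e), (4, c)]).flatMap fun f =>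
  (U.filter fun a => colOk 1 a [(2, b), (16, e), (4, c), (32, f)]).flatMap fun a =>
  ([x.ap (x.ap a)].filter fun d =>
      colOk 8 d [(2, b), (16, e), (4, c), (32, f), (1, a)]).map fun d =>
    ⟨a, b, c, d, e, f⟩

/-- Some commutator is not singular. -/
def hasNonsing (m : Mat) : Bool := (List.finRange 64).any fun h => qb (vadd h (m.ap h))

/-- The size of the commutator space. -/
def imCard (m : Mat) : ℕ := (Finset.univ.image fun h => vadd h (m.ap h)).card

/-- Conjugators for the second involution. -/
def gW : List Mat := [⟨1,2,4,8,16,32⟩, ⟨1,2,6,9,48,32⟩, ⟨1,2,32,40,16,37⟩, ⟨1,2,32,41,48,39⟩,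
  ⟨1,2,37,12,16,4⟩, ⟨1,2,37,13,53,6⟩, ⟨3,2,4,8,26,32⟩, ⟨3,2,6,8,58,32⟩, ⟨3,2,32,8,26,4⟩,
  ⟨3,2,32,8,58,6⟩, ⟨3,2,32,40,26,39⟩, ⟨3,2,32,40,58,37⟩]

/-- Conjugators for the first element of order three. -/
def gX₁ : List Mat := [⟨1,2,4,8,16,32⟩, ⟨1,2,4,9,16,32⟩, ⟨1,2,4,10,19,32⟩, ⟨1,2,4,11,19,32⟩]

/-- Conjugators for the second element of order three. -/
def gX₂ : List Mat := [⟨1,2,4,8,16,32⟩, ⟨1,2,4,10,19,32⟩, ⟨3,2,4,8,26,32⟩, ⟨3,2,4,10,27,32⟩]

/-- A transvection centralising the first four group. -/
def trM : Mat := ⟨1, 2, 4, 11, 19, 32⟩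

/-- The fixed vectors of the second four group. -/
def fix₂ : List (Fin 64) := (fixL (nm ixC)).filter fun a => (nm w₂).ap a == a

/-- The three vectors asked for. -/
def witness (m : Mat) : Bool :=
  fix₂.any fun p => m.ap p == p && !qb p &&
    fix₂.any fun q => m.ap q == q && !qb q && bl p q &&
      fix₂.any fun h => !qb h && !bl h p && !bl h q && h != 0 && bl h (m.ap h)

theorem cenA_facts : (cenA.all fun m =>
    !(m.mul m == idMat && !hasNonsing m && !hasNonsing ((nm ixA).mul m)) ||
      m == idMat || m == nm ixA) = true := by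
  decide +kernel

theorem wC_facts : ((intw ixC).all fun m =>
    !(m.mul m == idMat && m != idMat && m != nm ixC && hasNonsing m &&
        hasNonsing ((nm ixC).mul m) && imCard m == 4 && imCard ((nm ixC).mul m) == 4) ||
      gW.any fun g => g.mul m == (nm w₁).mul g || g.mul m == (nm w₂).mul g) = true := by
  decide +kernel

theorem x₁_facts : ((intw w₁).all fun m =>
    !(m.mul (nm w₁) == ((nm ixC).mul (nm w₁)).mul m && m.mul (m.mul m) == idMat) ||
      gX₁.any fun g => g.mul (nm w₁) == (nm w₁).mul g && g.mul m == (nm x₁).mul g) = true := by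
  decide +kernel

theorem x₂_facts : ((intw w₂).all fun m =>
    !(m.mul (nm w₂) == ((nm ixC).mul (nm w₂)).mul m && m.mul (m.mul m) == idMat) ||
      gX₂.any fun g => g.mul (nm w₂) == (nm w₂).mul g && g.mul m == (nm x₂).mul g) = true := by
  decide +kernel

theorem conjugators : ∀ g ∈ gW ++ gX₁ ++ gX₂ ++ [trM],
    g.mul (nm ixC) = (nm ixC).mul g ∧ ∀ v, qb (g.ap v) = qb v := by
  decide +kernel

theorem type_facts : imCard (nm ixC) = 4 ∧ hasNonsing (nm ixC) = true ∧
    hasNonsing (nm ixA) = false := by
  decide +kernel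

theorem first_facts :
    ((intw ixC).filter fun m => m.mul (nm w₁) == (nm w₁).mul m).length = 16 ∧
      trM.mul (nm w₁) = (nm w₁).mul trM ∧ trM.mul trM = idMat ∧ trM ≠ idMat ∧
      (∃ r : Fin 64, ∀ h, vadd h (trM.ap h) = 0 ∨ vadd h (trM.ap h) = r) ∧
      ((fixL (nm ixC)).filter fun a => (nm w₁).ap a == a).length ≤ 8 := by
  decide +kernel

theorem moved_two : ∀ i : Ix, i = ixA ∨ i = ixC → ∀ r : Fin 64,
    ∃ v, vadd v ((nm i).ap v) ≠ 0 ∧ vadd v ((nm i).ap v) ≠ r := by
  intro i hi
  rcases hi with rfl | rfl <;> decide +kernel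

theorem second_facts : fix₂.length = 8 ∧ ∀ a ∈ fix₂, (nm x₂).ap a = a := by
  decide +kernel

theorem d_facts : (dCand.all fun m =>
    !(m.mul m == idMat && m != nm ixC &&
        (m.mul (nm ixC)).mul ((m.mul (nm ixC)).mul (m.mul (nm ixC))) == idMat) ||
      witness m) = true := by
  decide +kernel

end CfsgLib.Spor.SuzRecog
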