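import Cfsg.Agent.Lib.Spor.SuzRecog.Interface
import Cfsg.Agent.Lib.Spor.SuzRecog.OrthTables

/-!
The four groups with an element of order three in a subgroup of order 25920 of the orthogonal
group: they are moved onto two representatives, and only one of these has a large centraliser.
-/

set_option autoImplicit false

namespace CfsgLib.Spor.SuzRecog

open CfsgLib.Small.SuzTwo Equiv

/-! ### Matrices of orthogonal maps -/

theorem matOf_mul {π σ : Perm (Fin 64)} (hπ : π ∈ O) (hσ : σ ∈ O) :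
    matOf (π * σ) = (matOf π).mul (matOf σ) :=
  mat_ext fun j => by
    rw [← O_apply (mul_mem hπ hσ), ap_mul, ← O_apply hσ, ← O_apply hπ, Perm.mul_apply]

theorem matOf_one : matOf (1 : Perm (Fin 64)) = idMat := rfl

theorem matOf_P (i : Ix) : matOf (P i) = nm i :=
  mat_ext fun j => by rw [← O_apply (P_mem i), P_apply]

theorem matOf_inj {π σ : Perm (Fin 64)} (hπ : π ∈ O) (hσ : σ ∈ O) (h : matOf π = matOf σ) :
    π = σ :=
  Equiv.ext fun v => by rw [O_apply hπ, O_apply hσ, h]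

/-- A matrix preserving the form, as a permutation. -/
noncomputable def mkPerm (m : Mat) (h : ∀ v, qb (m.ap v) = qb v) : Perm (Fin 64) :=
  Equiv.ofBijective _ (Finite.injective_iff_bijective.1 (injective_of_q h))

theorem mkPerm_mem (m : Mat) (h : ∀ v, qb (m.ap v) = qb v) : mkPerm m h ∈ O :=
  ⟨fun v w => ap_add m v w, h⟩

theorem matOf_mkPerm (m : Mat) (h : ∀ v, qb (m.ap v) = qb v) : matOf (mkPerm m h) = m :=
  mat_ext fun j => by rw [← O_apply (mkPerm_mem m h)]; rfl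

/-! ### The enumerations are complete -/

theorem colOk_of_O {π : Perm (Fin 64)} (hπ : π ∈ O) (p : Fin 64) (done : List (Fin 64 × Fin 64))
    (hd : ∀ e ∈ done, π e.1 = e.2) : colOk p (π p) done = true := by
  rw [colOk, Bool.and_eq_true, beq_iff_eq, List.all_eq_true]
  refine ⟨O_q hπ p, fun e he => ?_⟩
  rw [beq_iff_eq, ← hd e he, O_bl hπ]

theorem fixL_mem {m : Mat} {a : Fin 64} (h : m.ap a = a) : a ∈ fixL m := by
  simp [fixL, h]

theorem sol_mem {m : Mat} {a c : Fin 64} (h : vadd a (m.ap a) = c) :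
    a ∈ solL m c (List.finRange 64) := by
  simp [solL, h]

theorem cenA_complete {π : Perm (Fin 64)} (hπ : π ∈ O) (h : π * P ixA = P ixA * π) :
    matOf π ∈ cenA := by
  have hc : ∀ v, (nm ixA).ap (π v) = π ((nm ixA).ap v) := fun v => by
    rw [← P_apply, ← P_apply, ← Perm.mul_apply, ← h, Perm.mul_apply]
  obtain ⟨f1, f2, f4, f8, s16, s32⟩ : (nm ixA).ap 1 = 1 ∧ (nm ixA).ap 2 = 2 ∧
      (nm ixA).ap 4 = 4 ∧ (nm ixA).ap 8 = 8 ∧ vadd 16 ((nm ixA).ap 16) = 4 ∧
      vadd 32 ((nm ixA).ap 32) = 2 := by decide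
  simp only [cenA, List.mem_flatMap, List.mem_map, List.mem_filter]
  refine ⟨π 1, ⟨fixL_mem (by rw [hc, f1]), colOk_of_O hπ _ _ ?_⟩,
    π 2, ⟨fixL_mem (by rw [hc, f2]), colOk_of_O hπ _ _ ?_⟩,
    π 4, ⟨fixL_mem (by rw [hc, f4]), colOk_of_O hπ _ _ ?_⟩,
    π 8, ⟨fixL_mem (by rw [hc, f8]), colOk_of_O hπ _ _ ?_⟩,
    π 16, ⟨sol_mem (by rw [hc, ← O_add hπ, s16]), colOk_of_O hπ _ _ ?_⟩,
    π 32, ⟨sol_mem (by rw [hc, ← O_add hπ, s32]), colOk_of_O hπ _ _ ?_⟩, rfl⟩ <;> simp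

theorem intw_complete (i : Ix) {π : Perm (Fin 64)} (hπ : π ∈ O) (h : π * P ixC = P i * π) :
    matOf π ∈ intw i := by
  have hc : ∀ v, (nm i).ap (π v) = π ((nm ixC).ap v) := fun v => by
    rw [← P_apply, ← P_apply, ← Perm.mul_apply, ← h, Perm.mul_apply]
  obtain ⟨f1, f2, f4, f32, s8, s16⟩ : (nm ixC).ap 1 = 1 ∧ (nm ixC).ap 2 = 2 ∧
      (nm ixC).ap 4 = 4 ∧ (nm ixC).ap 32 = 32 ∧ vadd 8 ((nm ixC).ap 8) = 2 ∧
      vadd 16 ((nm ixC).ap 16) = vadd 1 2 := by decide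
  simp only [intw, List.mem_flatMap, List.mem_map, List.mem_filter]
  refine ⟨π 1, ⟨fixL_mem (by rw [hc, f1]), colOk_of_O hπ _ _ ?_⟩,
    π 2, ⟨fixL_mem (by rw [hc, f2]), colOk_of_O hπ _ _ ?_⟩,
    π 4, ⟨fixL_mem (by rw [hc, f4]), colOk_of_O hπ _ _ ?_⟩,
    π 32, ⟨fixL_mem (by rw [hc, f32]), colOk_of_O hπ _ _ ?_⟩,
    π 8, ⟨sol_mem (by rw [hc, ← O_add hπ, s8]), colOk_of_O hπ _ _ ?_⟩,
    π 16, ⟨sol_mem (by rw [hc, ← O_add hπ, s16, O_add hπ]), colOk_of_O hπ _ _ ?_⟩, rfl⟩ <;> simp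

theorem dCand_complete {π : Perm (Fin 64)} (hπ : π ∈ O) (h : P x₂ * π * P x₂ = π) :
    matOf π ∈ dCand := by
  have hc : ∀ v, (nm x₂).ap (π ((nm x₂).ap v)) = π v := fun v => by
    rw [← P_apply, ← P_apply, ← Perm.mul_apply, ← Perm.mul_apply, h]
  obtain ⟨f2, f4, f16, f32, e1, e3⟩ : (nm x₂).ap 2 = 2 ∧ (nm x₂).ap 4 = 4 ∧
      (nm x₂).ap 16 = 16 ∧ (nm x₂).ap 32 = 32 ∧ (nm x₂).ap 1 = 8 ∧
      ∀ v, (nm x₂).ap ((nm x₂).ap ((nm x₂).ap v)) = v := by decide +kernel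
  have hfix : ∀ p, (nm x₂).ap p = p → (nm x₂).ap (π p) = π p := fun p hp => by
    have := hc p
    rwa [hp] at this
  have h8 : π 8 = (nm x₂).ap ((nm x₂).ap (π 1)) := by
    have h1 := hc 1
    rw [e1] at h1
    rw [← h1, e3]
  simp only [dCand, List.mem_flatMap, List.mem_map, List.mem_filter]
  refine ⟨π 2, ⟨fixL_mem (hfix 2 f2), colOk_of_O hπ _ _ ?_⟩,
    π 16, ⟨fixL_mem (hfix 16 f16), colOk_of_O hπ _ _ ?_⟩,
    π 4, ⟨fixL_mem (hfix 4 f4), colOk_of_O hπ _ _ ?_⟩,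
    π 32, ⟨fixL_mem (hfix 32 f32), colOk_of_O hπ _ _ ?_⟩,
    π 1, ⟨List.mem_finRange _, colOk_of_O hπ _ _ ?_⟩,
    π 8, ⟨by rw [List.mem_singleton]; exact h8, colOk_of_O hπ _ _ ?_⟩, rfl⟩ <;> simp

/-! ### Invariants of conjugation -/

theorem comm_move {y τ : Perm (Fin 64)} (hy : y ∈ O) (v : Fin 64) :
    vadd (y v) ((y * τ * y⁻¹) (y v)) = y (vadd v (τ v)) := by
  simp [O_add hy]

theorem hasNonsing_conj {y τ σ : Perm (Fin 64)} (hy : y ∈ O) (hτ : τ ∈ O) (hσ : σ ∈ O)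
    (h : y * τ * y⁻¹ = σ) : hasNonsing (matOf σ) = hasNonsing (matOf τ) := by
  rw [Bool.eq_iff_iff]
  simp only [hasNonsing, List.any_eq_true, List.mem_finRange, true_and, ← O_apply hσ,
    ← O_apply hτ]
  constructor
  · rintro ⟨v, hv⟩
    refine ⟨y⁻¹ v, ?_⟩
    rw [← O_q hy, ← comm_move hy, h]
    simpa using hv
  · rintro ⟨v, hv⟩
    refine ⟨y v, ?_⟩
    rw [← h, comm_move hy, O_q hy]
    exact hv

theorem imCard_conj {y τ σ : Perm (Fin 64)} (hy : y ∈ O) (hτ : τ ∈ O) (hσ : σ ∈ O)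
    (h : y * τ * y⁻¹ = σ) : imCard (matOf σ) = imCard (matOf τ) := by
  unfold imCard
  rw [show (Finset.univ.image fun v => vadd v ((matOf σ).ap v)) =
      (Finset.univ.image fun v => vadd v ((matOf τ).ap v)).image y from ?_,
    Finset.card_image_of_injective _ y.injective]
  ext a
  simp only [Finset.mem_image, Finset.mem_univ, true_and, ← O_apply hσ, ← O_apply hτ,
    exists_exists_eq_and]
  constructor
  · rintro ⟨v, rfl⟩
    refine ⟨y⁻¹ v, ?_⟩
    rw [← comm_move hy, h]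
    simp
  · rintro ⟨v, rfl⟩
    exact ⟨y v, by rw [← h, comm_move hy]⟩

/-- A map moving everything along one vector is not in a subgroup of order 25920. -/
theorem not_mem_of_line {R : Subgroup (Perm (Fin 64))} (hR : R ≤ O) (hc : Nat.card R = 25920)
    {t : Perm (Fin 64)} (h2 : t * t = 1) (h1 : t ≠ 1) {r : Fin 64}
    (hr : ∀ v, vadd v (t v) = 0 ∨ vadd v (t v) = r) : t ∉ R := by
  intro ht
  obtain ⟨σ, hσ, hσt⟩ := invol_conj hR hc ht h2 h1
  have key : ∀ i : Ix, i = ixA ∨ i = ixC → σ * t * σ⁻¹ ≠ P i := by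
    intro i hi e
    obtain ⟨v, hv0, hvr⟩ := moved_two i hi (σ r)
    have hv : vadd v ((nm i).ap v) = σ (vadd (σ⁻¹ v) (t (σ⁻¹ v))) := by
      rw [← P_apply, ← e, ← comm_move (hR hσ)]
      simp
    rcases hr (σ⁻¹ v) with h | h
    · exact hv0 (by rw [hv, h, O_zero (hR hσ)])
    · exact hvr (by rw [hv, h])
  rcases hσt with e | e
  · exact key _ (Or.inl rfl) e
  · exact key _ (Or.inr rfl) e

/-! ### Transfer along conjugation -/

/-- What is to be proved of one four group and element of order three. -/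
def Goal (R : Subgroup (Perm (Fin 64))) (v w x : Perm (Fin 64)) : Prop :=
  256 ≤ Nat.card {p : Perm (Fin 64) // p ∈ R ∧ p * v = v * p ∧ p * w = w * p} *
      (2 * Nat.card {h : Fin 64 // v h = h ∧ w h = h}) →
    (∀ h : Fin 64, v h = h → w h = h → x h = h) ∧
    Nat.card {h : Fin 64 // v h = h ∧ w h = h} = 8 ∧
    ∀ d ∈ R, d * d = 1 → d ≠ v → (d * v) ^ 3 = 1 → d * x * d = x⁻¹ →
      ∃ p q h : Fin 64, v p = p ∧ w p = p ∧ d p = p ∧ qb p = false ∧
        v q = q ∧ w q = q ∧ d q = q ∧ qb q = false ∧ bl p q = true ∧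
        v h = h ∧ w h = h ∧ qb h = false ∧ bl h p = false ∧ bl h q = false ∧
        h ≠ 0 ∧ bl h (d h) = true

/-- A conjugate subgroup. -/
def cjR (σ : Perm (Fin 64)) (R : Subgroup (Perm (Fin 64))) : Subgroup (Perm (Fin 64)) :=
  R.map (MulAut.conj σ).toMonoidHom

variable {R : Subgroup (Perm (Fin 64))} {v w x σ : Perm (Fin 64)}

theorem conj_mem_cjR {p : Perm (Fin 64)} (h : p ∈ R) : σ * p * σ⁻¹ ∈ cjR σ R :=
  ⟨p, h, rfl⟩

theorem mem_cjR {p : Perm (Fin 64)} : p ∈ cjR σ R ↔ σ⁻¹ * p * σ ∈ R := by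
  constructor
  · rintro ⟨q, hq, rfl⟩
    simpa [MulAut.conj_apply, mul_assoc] using hq
  · intro h
    simpa [mul_assoc] using conj_mem_cjR (σ := σ) h

theorem cjR_le (hR : R ≤ O) (hσ : σ ∈ O) : cjR σ R ≤ O := by
  rintro p ⟨q, hq, rfl⟩
  exact mul_mem (mul_mem hσ (hR hq)) (inv_mem hσ)

theorem card_cjR : Nat.card (cjR σ R) = Nat.card R :=
  Nat.card_congr (R.equivMapOfInjective _ (MulAut.conj σ).injective).symm.toEquiv

theorem fourTri_conj (h : FourTri R v w x) :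
    FourTri (cjR σ R) (σ * v * σ⁻¹) (σ * w * σ⁻¹) (σ * x * σ⁻¹) := by
  have e : ∀ a b : Perm (Fin 64), MulAut.conj σ a = MulAut.conj σ b ↔ a = b :=
    fun a b => (MulAut.conj σ).injective.eq_iff
  refine ⟨conj_mem_cjR h.v_mem, conj_mem_cjR h.w_mem, conj_mem_cjR h.x_mem, ?_, ?_, ?_, ?_, ?_,
    by rw [← h.xv]; group, ?_⟩ <;>
    simp only [← MulAut.conj_apply]
  · rw [← map_mul, h.v_sq, map_one]
  · exact fun e1 => h.v_ne ((e _ _).1 (e1.trans (map_one _).symm))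
  · exact fun e1 => h.w_ne ((e _ _).1 e1)
  · rw [← map_mul, h.vw, map_mul]
  · rw [← map_pow, h.x_cube, map_one]
  · simp only [MulAut.conj_apply]
    calc _ = σ * (x * w * x⁻¹) * σ⁻¹ := by group
      _ = _ := by rw [h.xw]; group

theorem fix_conj (h : Fin 64) : (σ * v * σ⁻¹) (σ h) = σ h ↔ v h = h := by
  simp

theorem goal_of_conj (hσ : σ ∈ O)
    (h : Goal (cjR σ R) (σ * v * σ⁻¹) (σ * w * σ⁻¹) (σ * x * σ⁻¹)) : Goal R v w x := by
  intro hb
  have e : ∀ a b : Perm (Fin 64), MulAut.conj σ a = MulAut.conj σ b ↔ a = b :=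
    fun a b => (MulAut.conj σ).injective.eq_iff
  have hF : Nat.card {p : Fin 64 // v p = p ∧ w p = p} =
      Nat.card {p : Fin 64 // (σ * v * σ⁻¹) p = p ∧ (σ * w * σ⁻¹) p = p} :=
    Nat.card_congr (σ.subtypeEquiv fun a => by rw [fix_conj, fix_conj])
  have hC : Nat.card {p : Perm (Fin 64) // p ∈ R ∧ p * v = v * p ∧ p * w = w * p} =
      Nat.card {p : Perm (Fin 64) // p ∈ cjR σ R ∧ p * (σ * v * σ⁻¹) = σ * v * σ⁻¹ * p ∧
        p * (σ * w * σ⁻¹) = σ * w * σ⁻¹ * p} :=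
    Nat.card_congr ((MulAut.conj σ).toEquiv.subtypeEquiv fun a => by
      change (_ ∧ _ ∧ _) ↔ (MulAut.conj σ a ∈ _ ∧ _ ∧ _)
      simp only [MulEquiv.toEquiv_eq_coe, EquivLike.coe_coe, ← MulAut.conj_apply, ← map_mul, e]
      refine and_congr_left' ⟨fun ha => conj_mem_cjR ha, fun ha => ?_⟩
      simpa [MulAut.conj_apply, mul_assoc] using mem_cjR.1 ha)
  rw [hF, hC] at hb
  obtain ⟨h1, h2, h3⟩ := h hb
  refine ⟨fun a ha1 ha2 => ?_, by rw [hF, h2], fun d hd hd1 hd2 hd3 hd4 => ?_⟩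
  · exact (fix_conj a).1 (h1 (σ a) ((fix_conj a).2 ha1) ((fix_conj a).2 ha2))
  obtain ⟨p, q, k, hp⟩ := h3 (σ * d * σ⁻¹) (conj_mem_cjR hd)
    (by simp only [← MulAut.conj_apply, ← map_mul, hd1, map_one])
    (fun e1 => hd2 ((e _ _).1 (by simpa only [MulAut.conj_apply] using e1)))
    (by simp only [← MulAut.conj_apply, ← map_mul, ← map_pow, hd3, map_one])
    (by simp only [← MulAut.conj_apply, ← map_mul, ← map_inv, hd4])
  obtain ⟨p, rfl⟩ := σ.surjective p
  obtain ⟨q, rfl⟩ := σ.surjective q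
  obtain ⟨k, rfl⟩ := σ.surjective k
  have hk : (σ * d * σ⁻¹) (σ k) = σ (d k) := by simp
  simp only [fix_conj, hk, O_q hσ, O_bl hσ, ne_eq] at hp
  refine ⟨p, q, k, ?_⟩
  obtain ⟨a1, a2, a3, a4, a5, a6, a7, a8, a9, b1, b2, b3, b4, b5, b6, b7⟩ := hp
  exact ⟨a1, a2, a3, a4, a5, a6, a7, a8, a9, b1, b2, b3, b4, b5,
    fun e0 => b6 (by rw [e0, O_zero hσ]), b7⟩

/-! ### The two representatives -/

theorem goal_first (hR : R ≤ O) (hc : Nat.card R = 25920) :
    Goal R (P ixC) (P w₁) x := by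
  intro hb
  exfalso
  obtain ⟨hlen, htw, ht2, ht1, ⟨r, hr⟩, hfix⟩ := first_facts
  obtain ⟨htc, htq⟩ := conjugators trM (by simp)
  set t := mkPerm trM htq
  have htO : t ∈ O := mkPerm_mem _ _
  have htm : matOf t = trM := matOf_mkPerm _ _
  have hcomm : ∀ i : Ix, trM.mul (nm i) = (nm i).mul trM → Commute t (P i) := fun i hi =>
    matOf_inj (mul_mem htO (P_mem i)) (mul_mem (P_mem i) htO) (by
      rw [matOf_mul htO (P_mem i), matOf_mul (P_mem i) htO, htm, matOf_P, hi])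
  have htR : t ∉ R := by
    refine not_mem_of_line hR hc ?_ ?_ (r := r) fun a => ?_
    · exact matOf_inj (mul_mem htO htO) (one_mem O) (by rw [matOf_mul htO htO, htm, ht2]; rfl)
    · exact fun e => ht1 (by rw [← htm, e]; rfl)
    · rw [O_apply htO, htm]; exact hr a
  set C := {p : Perm (Fin 64) // p ∈ R ∧ p * P ixC = P ixC * p ∧ p * P w₁ = P w₁ * p}
  have hmem : ∀ p : Perm (Fin 64), p ∈ O → Commute p (P ixC) → Commute p (P w₁) →
      matOf p ∈ ((intw ixC).filter fun m => m.mul (nm w₁) == (nm w₁).mul m).toFinset := by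
    intro p hp h1 h2
    rw [List.mem_toFinset, List.mem_filter]
    refine ⟨intw_complete ixC hp h1, beq_iff_eq.2 ?_⟩
    rw [← matOf_P, ← matOf_mul hp (P_mem _), ← matOf_mul (P_mem _) hp, h2.eq]
  have hle : Nat.card (C ⊕ C) ≤ 16 := by
    refine le_trans (Nat.card_le_card_of_injective
      (β := ((intw ixC).filter fun m => m.mul (nm w₁) == (nm w₁).mul m).toFinset)
      (Sum.elim (fun p : C => ⟨matOf p.1, hmem _ (hR p.2.1) p.2.2.1 p.2.2.2⟩)
        (fun p : C => ⟨matOf (p.1 * t), hmem _ (mul_mem (hR p.2.1) htO)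
          (Commute.mul_left p.2.2.1 (hcomm _ htc))
          (Commute.mul_left p.2.2.2 (hcomm _ htw))⟩)) ?_) ?_
    · rintro (a | a) (b | b) hab <;> simp only [Sum.elim_inl, Sum.elim_inr, Subtype.mk.injEq] at hab
      · exact congrArg Sum.inl (Subtype.ext (matOf_inj (hR a.2.1) (hR b.2.1) hab))
      · refine absurd ?_ htR
        have h := matOf_inj (hR a.2.1) (mul_mem (hR b.2.1) htO) hab
        rw [show t = b.1⁻¹ * a.1 by rw [h, inv_mul_cancel_left]]
        exact mul_mem (inv_mem b.2.1) a.2.1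
      · refine absurd ?_ htR
        have h := matOf_inj (mul_mem (hR a.2.1) htO) (hR b.2.1) hab
        rw [show t = a.1⁻¹ * b.1 by rw [← h, inv_mul_cancel_left]]
        exact mul_mem (inv_mem a.2.1) b.2.1
      · exact congrArg Sum.inr (Subtype.ext (mul_right_cancel
          (matOf_inj (mul_mem (hR a.2.1) htO) (mul_mem (hR b.2.1) htO) hab)))
    · rw [Nat.card_eq_finsetCard]
      exact (List.toFinset_card_le _).trans hlen.le
  rw [Nat.card_sum] at hle
  have hF : Nat.card {h : Fin 64 // P ixC h = h ∧ P w₁ h = h} ≤ 7 + 1 := by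
    refine le_trans (Nat.card_le_card_of_injective
      (β := ((fixL (nm ixC)).filter fun a => (nm w₁).ap a == a).toFinset)
      (fun a => ⟨a.1, ?_⟩) fun a b hab => Subtype.ext (congrArg (fun z => z.1) hab)) ?_
    · rw [List.mem_toFinset, List.mem_filter, beq_iff_eq, ← P_apply]
      exact ⟨fixL_mem (by rw [← P_apply]; exact a.2.1), a.2.2⟩
    · rw [Nat.card_eq_finsetCard]
      exact (List.toFinset_card_le _).trans hfix
  have h3 : Nat.card C ≤ 8 := by omega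
  have := Nat.mul_le_mul h3 (Nat.mul_le_mul_left 2 hF)
  omega

theorem mem_fix₂ {a : Fin 64} : a ∈ fix₂ ↔ P ixC a = a ∧ P w₂ a = a := by
  simp [fix₂, fixL, P_apply, and_comm]

theorem goal_second (hR : R ≤ O) : Goal R (P ixC) (P w₂) (P x₂) := by
  intro _
  obtain ⟨hlen, hfix⟩ := second_facts
  refine ⟨fun a h1 h2 => by rw [P_apply]; exact hfix a (mem_fix₂.2 ⟨h1, h2⟩), ?_, ?_⟩
  · rw [← hlen, Nat.card_congr (Equiv.subtypeEquivRight (q := fun a => a ∈ fix₂.toFinset)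
      fun a => by rw [List.mem_toFinset, mem_fix₂]), Nat.card_eq_finsetCard]
    refine List.toFinset_card_of_nodup ?_
    exact (List.Nodup.filter _ ((List.nodup_finRange 64).filter _))
  intro d hd hd2 hdv hd3 hdx
  have hdO := hR hd
  have hx : P x₂ * d * P x₂ = d := by
    have e : d * P x₂ = (P x₂)⁻¹ * d := by
      rw [← hdx, mul_assoc (d * P x₂), hd2, mul_one]
    rw [mul_assoc, e, mul_inv_cancel_left]
  have hm := List.all_eq_true.1 d_facts _ (dCand_complete hdO hx)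
  have c1 : (matOf d).mul (matOf d) = idMat := by rw [← matOf_mul hdO hdO, hd2]; rfl
  have c2 : matOf d ≠ nm ixC := fun e => hdv (matOf_inj hdO (P_mem _) (e.trans (matOf_P _).symm))
  have c3 : ((matOf d).mul (nm ixC)).mul
      (((matOf d).mul (nm ixC)).mul ((matOf d).mul (nm ixC))) = idMat := by
    have hp := mul_mem hdO (P_mem ixC)
    rw [← matOf_P, ← matOf_mul hdO (P_mem _), ← matOf_mul hp hp, ← matOf_mul hp (mul_mem hp hp),
      ← mul_assoc, ← sq, ← pow_succ, hd3]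
    rfl
  simp only [Bool.or_eq_true, Bool.not_eq_true', Bool.and_eq_false_iff, beq_eq_false_iff_ne,
    bne_eq_false_iff_eq, c1, c2, c3, ne_eq, not_true, false_or, or_false] at hm
  simp only [witness, List.any_eq_true, Bool.and_eq_true, Bool.not_eq_true', beq_iff_eq,
    bne_iff_ne, ← O_apply hdO] at hm
  obtain ⟨p, hp, ⟨hp1, hp2⟩, q, hq, ⟨⟨hq1, hq2⟩, hpq⟩, h, hh, ⟨⟨⟨hh1, hh2⟩, hh3⟩, hh4⟩, hh5⟩ := hm
  obtain ⟨p1, p2⟩ := mem_fix₂.1 hp
  obtain ⟨q1, q2⟩ := mem_fix₂.1 hq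
  obtain ⟨k1, k2⟩ := mem_fix₂.1 hh
  exact ⟨p, q, h, p1, p2, hp1, hp2, q1, q2, hq1, hq2, hpq, k1, k2, hh1, hh2, hh3, hh4, hh5⟩

/-! ### Reduction to the representatives -/

theorem goal_fixed_x {w' : Ix} {x' : Ix} (gs : List Mat)
    (hgs : ∀ g ∈ gs, g ∈ gW ++ gX₁ ++ gX₂ ++ [trM])
    (hfacts : ((intw w').all fun m =>
      !(m.mul (nm w') == ((nm ixC).mul (nm w')).mul m && m.mul (m.mul m) == idMat) ||
        gs.any fun g => g.mul (nm w') == (nm w').mul g && g.mul m == (nm x').mul g) = true)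
    (hgoal : ∀ S : Subgroup (Perm (Fin 64)), S ≤ O → Nat.card S = 25920 →
      Goal S (P ixC) (P w') (P x'))
    (hR : R ≤ O) (hc : Nat.card R = 25920) (h : FourTri R (P ixC) (P w') x) :
    Goal R (P ixC) (P w') x := by
  have hxO := hR h.x_mem
  have hm := List.all_eq_true.1 hfacts _ (intw_complete w' hxO (mul_inv_eq_iff_eq_mul.1 h.xv))
  have c1 : (matOf x).mul (nm w') = ((nm ixC).mul (nm w')).mul (matOf x) := by
    rw [← matOf_P, ← matOf_P, ← matOf_mul (P_mem _) (P_mem _),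
      ← matOf_mul hxO (P_mem _), ← matOf_mul (mul_mem (P_mem _) (P_mem _)) hxO,
      mul_inv_eq_iff_eq_mul.1 h.xw]
  have c2 : (matOf x).mul ((matOf x).mul (matOf x)) = idMat := by
    rw [← matOf_mul hxO hxO, ← matOf_mul hxO (mul_mem hxO hxO), ← mul_assoc, ← sq, ← pow_succ,
      h.x_cube]
    rfl
  simp only [Bool.or_eq_true, Bool.not_eq_true', Bool.and_eq_false_iff, beq_eq_false_iff_ne,
    c1, c2, ne_eq, not_true, false_or, List.any_eq_true, Bool.and_eq_true, beq_iff_eq] at hm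
  obtain ⟨g, hg, hgw, hgx⟩ := hm
  obtain ⟨hgc, hgq⟩ := conjugators g (hgs g hg)
  set π := mkPerm g hgq
  have hπ : π ∈ O := mkPerm_mem _ _
  have hπm : matOf π = g := matOf_mkPerm _ _
  have hconj : ∀ (a b : Perm (Fin 64)), a ∈ O → b ∈ O →
      g.mul (matOf a) = (matOf b).mul g → π * a * π⁻¹ = b := fun a b ha hb he =>
    mul_inv_eq_iff_eq_mul.2 (matOf_inj (mul_mem hπ ha) (mul_mem hb hπ) (by
      rw [matOf_mul hπ ha, matOf_mul hb hπ, hπm, he]))
  refine goal_of_conj hπ ?_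
  rw [hconj _ _ (P_mem _) (P_mem _) (by rw [matOf_P, hgc]),
    hconj _ _ (P_mem w') (P_mem _) (by rw [matOf_P, hgw]),
    hconj _ (P x') hxO (P_mem _) (by rw [matOf_P, hgx])]
  exact hgoal _ (cjR_le hR hπ) (card_cjR.trans hc)

theorem w_ne_one (h : FourTri R v w x) : w ≠ 1 := fun e => h.v_ne (by
  have := h.xv
  rw [e, conj_eq_one_iff] at this
  exact this)

theorem vw_conj (h : FourTri R v w x) : x * x * v * (x * x)⁻¹ = v * w := by
  rw [← h.xw, ← h.xv]
  group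

theorem w_sq (h : FourTri R v w x) : w * w = 1 := by
  rw [← h.xv]
  calc x * v * x⁻¹ * (x * v * x⁻¹) = x * (v * v) * x⁻¹ := by group
    _ = 1 := by rw [h.v_sq]; group

theorem no_A (hR : R ≤ O) : ¬ FourTri R (P ixA) w x := by
  intro h
  have hwO := hR h.w_mem
  have hxO := hR h.x_mem
  have hm := List.all_eq_true.1 cenA_facts _ (cenA_complete hwO h.vw.symm)
  have c1 : (matOf w).mul (matOf w) = idMat := by rw [← matOf_mul hwO hwO, w_sq h]; rfl
  have c2 : hasNonsing (matOf w) = false := by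
    rw [hasNonsing_conj hxO (P_mem _) hwO h.xv, matOf_P, type_facts.2.2]
  have c3 : hasNonsing ((nm ixA).mul (matOf w)) = false := by
    rw [← matOf_P, ← matOf_mul (P_mem _) hwO,
      hasNonsing_conj (mul_mem hxO hxO) (P_mem _) (mul_mem (P_mem _) hwO) (vw_conj h), matOf_P,
      type_facts.2.2]
  simp only [Bool.or_eq_true, Bool.not_eq_true', Bool.and_eq_false_iff, beq_eq_false_iff_ne,
    c1, c2, c3, ne_eq, not_true, Bool.not_false, Bool.true_eq_false,
    false_or, beq_iff_eq] at hm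
  rcases hm with e | e
  · exact w_ne_one h (matOf_inj hwO (one_mem O) e)
  · exact h.w_ne (matOf_inj hwO (P_mem _) (e.trans (matOf_P _).symm))

theorem goal_C (hR : R ≤ O) (hc : Nat.card R = 25920) (h : FourTri R (P ixC) w x) :
    Goal R (P ixC) w x := by
  have hwO := hR h.w_mem
  have hxO := hR h.x_mem
  have hm := List.all_eq_true.1 wC_facts _ (intw_complete ixC hwO h.vw.symm)
  have c1 : (matOf w).mul (matOf w) = idMat := by rw [← matOf_mul hwO hwO, w_sq h]; rfl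
  have c2 : matOf w ≠ idMat := fun e => w_ne_one h (matOf_inj hwO (one_mem O) e)
  have c3 : matOf w ≠ nm ixC := fun e =>
    h.w_ne (matOf_inj hwO (P_mem _) (e.trans (matOf_P _).symm))
  have hvwO : P ixC * w ∈ O := mul_mem (P_mem _) hwO
  have hx2 := mul_mem hxO hxO
  have c4 : hasNonsing (matOf w) = true := by
    rw [hasNonsing_conj hxO (P_mem _) hwO h.xv, matOf_P, type_facts.2.1]
  have c5 : hasNonsing ((nm ixC).mul (matOf w)) = true := by
    rw [← matOf_P, ← matOf_mul (P_mem _) hwO, hasNonsing_conj hx2 (P_mem _) hvwO (vw_conj h),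
      matOf_P, type_facts.2.1]
  have c6 : imCard (matOf w) = 4 := by
    rw [imCard_conj hxO (P_mem _) hwO h.xv, matOf_P, type_facts.1]
  have c7 : imCard ((nm ixC).mul (matOf w)) = 4 := by
    rw [← matOf_P, ← matOf_mul (P_mem _) hwO, imCard_conj hx2 (P_mem _) hvwO (vw_conj h),
      matOf_P, type_facts.1]
  simp only [Bool.or_eq_true, Bool.not_eq_true', Bool.and_eq_false_iff, beq_eq_false_iff_ne,
    bne_eq_false_iff_eq, c1, c2, c3, c4, c5, c6, c7, ne_eq, not_true, Bool.true_eq_false,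
    false_or, or_false, List.any_eq_true, beq_iff_eq] at hm
  obtain ⟨g, hg, hgw⟩ := hm
  obtain ⟨hgc, hgq⟩ := conjugators g (by simp [hg])
  set π := mkPerm g hgq
  have hπ : π ∈ O := mkPerm_mem _ _
  have hπm : matOf π = g := matOf_mkPerm _ _
  have hconj : ∀ (a b : Perm (Fin 64)), a ∈ O → b ∈ O →
      g.mul (matOf a) = (matOf b).mul g → π * a * π⁻¹ = b := fun a b ha hb he =>
    mul_inv_eq_iff_eq_mul.2 (matOf_inj (mul_mem hπ ha) (mul_mem hb hπ) (by
      rw [matOf_mul hπ ha, matOf_mul hb hπ, hπm, he]))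
  refine goal_of_conj hπ ?_
  have h' := fourTri_conj (σ := π) h
  have hv : π * P ixC * π⁻¹ = P ixC := hconj _ _ (P_mem _) (P_mem _) (by rw [matOf_P, hgc])
  rw [hv] at h' ⊢
  rcases hgw with hgw | hgw
  · rw [hconj w (P w₁) hwO (P_mem _) (by rw [matOf_P, hgw])] at h' ⊢
    exact goal_fixed_x gX₁ (fun g hg => by simp [hg]) x₁_facts
      (fun S hS hS' => goal_first hS hS') (cjR_le hR hπ) (card_cjR.trans hc) h'
  · rw [hconj w (P w₂) hwO (P_mem _) (by rw [matOf_P, hgw])] at h' ⊢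
    exact goal_fixed_x gX₂ (fun g hg => by simp [hg]) x₂_facts
      (fun S hS _ => goal_second hS) (cjR_le hR hπ) (card_cjR.trans hc) h'

/-- The fours with a large lifted centraliser and the fixed vectors above one. -/
theorem orthFacts : OrthFacts := by
  intro R hR hc v w x h
  obtain ⟨c, hcR, hcv⟩ := invol_conj hR hc h.v_mem h.v_sq h.v_ne
  have hcO := hR hcR
  have h' := fourTri_conj (σ := c) h
  rcases hcv with e | e <;> rw [e] at h'
  · exact absurd h' (no_A (cjR_le hR hcO))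
  · refine goal_of_conj hcO ?_
    rw [e]
    exact goal_C (cjR_le hR hcO) (card_cjR.trans hc) h'

end CfsgLib.Spor.SuzRecog
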