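import Cfsg.Agent.Lib.Spor.SuzRecog.Interface
import Cfsg.Agent.Lib.Small.SuzOrder.Four.Quot

/-!
A simple group of order `20160` in which involution centralisers are two-groups is `PSL(3,4)`.
-/

set_option autoImplicit false
set_option linter.style.haveILetI false

namespace CfsgLib.Spor.SuzRecog

universe u

theorem isL34_of_cit {K : Type u} [Group K] [Finite K] [IsSimpleGroup K]
    (hnab : ∃ a b : K, a * b ≠ b * a) (hC : Recog.CIT.CIT K) (hcard : Nat.card K = 20160) :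
    IsL34 K := by
  rcases Recog.CIT.known_of_cit hnab hC with ⟨-, h | h⟩ | h | h
  · exfalso
    obtain ⟨F, _, _, ⟨n, hn, hF⟩, ⟨e⟩⟩ := h
    rw [Nat.card_congr e.toEquiv, Classical.card_PSL_two, Nat.card_eq_fintype_card, hF] at hcard
    have hg : Nat.gcd 2 (2 ^ n - 1) = 1 := by
      have h2 : 2 ∣ 2 ^ n := dvd_pow_self 2 (by omega)
      have h4 : 4 ≤ 2 ^ n := le_trans (by norm_num) (Nat.pow_le_pow_right (by norm_num) hn)
      exact Nat.prime_two.coprime_iff_not_dvd.2 (by omega)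
    rw [hg, Nat.div_one] at hcard
    rcases Nat.lt_or_ge n 5 with h5 | h5
    · interval_cases n <;> norm_num at hcard
    · have h32 : 32 ≤ 2 ^ n := le_trans (by norm_num) (Nat.pow_le_pow_right (by norm_num) h5)
      have : 32 * (32 ^ 2 - 1) ≤ 2 ^ n * ((2 ^ n) ^ 2 - 1) :=
        Nat.mul_le_mul h32 (Nat.sub_le_sub_right (Nat.pow_le_pow_left h32 2) 1)
      omega
  · exfalso
    obtain ⟨-, m, hm, h⟩ := h
    rw [hcard] at h
    have h8 : 8 ≤ 2 ^ (2 * m + 1) :=
      le_trans (by norm_num) (Nat.pow_le_pow_right (by norm_num) (show 3 ≤ 2 * m + 1 by omega))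
    have : 8 ^ 2 * (8 ^ 2 + 1) * (8 - 1) ≤
        (2 ^ (2 * m + 1)) ^ 2 * ((2 ^ (2 * m + 1)) ^ 2 + 1) * (2 ^ (2 * m + 1) - 1) :=
      Nat.mul_le_mul (Nat.mul_le_mul (Nat.pow_le_pow_left h8 2)
        (Nat.add_le_add_right (Nat.pow_le_pow_left h8 2) 1)) (Nat.sub_le_sub_right h8 1)
    omega
  · exact absurd (show 64 ∣ Nat.card K ∧ ¬ 128 ∣ Nat.card K by rw [hcard]; norm_num)
      (CfsgLib.Small.SuzOrder.oddType_two h)
  · exact h

end CfsgLib.Spor.SuzRecog
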