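import Cfsg.Agent.Lib.Spor.SuzRecog.Interface
import Cfsg.Agent.Lib.Spor.SuzRecog.UCert
import Cfsg.Agent.Lib.Spor.SuzRecog.CollCert
import Cfsg.Agent.Lib.PresCert.Walk
import Cfsg.Agent.Lib.PresCert.Presented

/-!
Two small presented groups, by coset tables over the trivial subgroup.
-/

set_option autoImplicit false

namespace CfsgLib.Spor.SuzRecog

open CfsgLib.PresCert

universe u

/-- the relators on four letters -/
def relU : List (List (Fin 4)) :=
  [[0, 1, 0, 1, 0, 1, 0, 1, 0, 1], [1, 2, 1, 2, 1, 2], [1, 3, 1, 3, 1, 3], [0, 2, 0, 2],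
    [0, 3, 0, 3], [0, 2, 3, 2, 3]]

/-- the relators on five letters -/
def relK : List (List (Fin 5)) :=
  [[0, 1, 0, 1, 0, 1, 0, 1, 0, 1], [1, 2, 1, 2, 1, 2],
    [2, 3, 2, 3, 2, 3, 2, 3, 2, 3, 2, 3, 2, 3, 2, 3], [3, 4, 3, 4, 3, 4], [0, 2, 0, 2],
    [0, 3, 0, 3], [0, 4, 0, 4], [1, 3, 1, 3], [1, 4, 1, 4], [2, 4, 2, 4],
    [0, 2, 3, 2, 3, 2, 3, 2, 3], (List.replicate 5 [1, 2, 3, 2, 3]).flatten]

variable {G : Type u} [Group G]

theorem comm_word {x y : G} (hx : x * x = 1) (hy : y * y = 1) (h : x * y = y * x) :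
    x * (y * (x * y)) = 1 := by
  rw [h, ← mul_assoc y, hy, one_mul, hx]

theorem prod_pow_five (w : List G) : (List.replicate 5 w).flatten.prod = w.prod ^ 5 := by
  rw [List.prod_flatten, List.map_replicate, List.prod_replicate]

theorem word_eq_one_U (f : Fin 4 → G) (hf : ∀ x, f x * f x = 1)
    (hr : ∀ w ∈ relU, (w.map f).prod = 1) (w : List ℕ) (hw : ∀ x ∈ w, x < 4)
    (h : U.cert.walk 524288 w 0 = some 0) :
    ((w.map fun x => (List.finRange 4).getD x 0).map f).prod = 1 := by
  have hm := word_mem (sel := List.finRange 4) (known := relU) (subs := []) (d := 0) U.valid hf hr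
    (by decide +kernel) (by decide +kernel) w
    (by rw [show U.cert.g = 4 from by decide +kernel]; exact hw) _ h
  rwa [wordsGroup_nil, Subgroup.mem_bot] at hm

theorem threeA6 : ThreeA6.{u} := by
  intro G _ a b c c' ha hb hc hc' hab hbc hbc' hac hac' hacc
  set f : Fin 4 → G := ![a, b, c, c'] with hfdef
  have hf : ∀ x, f x * f x = 1 := by intro x; fin_cases x <;> assumption
  have hr : ∀ w ∈ relU, (w.map f).prod = 1 := by
    intro w hw
    simp only [relU, List.mem_cons, List.not_mem_nil, or_false] at hw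
    rcases hw with rfl | rfl | rfl | rfl | rfl | rfl <;>
      simp only [List.map_cons, List.map_nil, List.prod_cons, List.prod_nil, mul_one, f,
        Matrix.cons_val_zero, Matrix.cons_val_one, Matrix.cons_val]
    · simpa only [pow_succ, pow_zero, one_mul, mul_assoc] using hab
    · simpa only [pow_succ, pow_zero, one_mul, mul_assoc] using hbc
    · simpa only [pow_succ, pow_zero, one_mul, mul_assoc] using hbc'
    · exact comm_word ha hc hac
    · exact comm_word ha hc' hac'
    · rw [show c * (c' * (c * c')) = (c * c') ^ 2 by rw [pow_two, mul_assoc], ← hacc, ha]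
  set y := (b * c * c') ^ 5 with hy
  have key : ∀ (w : List ℕ), (∀ x ∈ w, x < 4) → U.cert.walk 524288 w 0 = some 0 →
      ((w.map fun x => (List.finRange 4).getD x 0).map f).prod = 1 :=
    word_eq_one_U f hf hr
  have hinv : (c' * c * b) ^ 5 = y⁻¹ := by
    rw [hy, ← inv_pow, mul_inv_rev, mul_inv_rev, inv_eq_of_mul_eq_one_right hb,
      inv_eq_of_mul_eq_one_right hc, inv_eq_of_mul_eq_one_right hc', mul_assoc]
  have h3 := key (List.replicate 15 [1, 2, 3]).flatten (by decide +kernel) (by decide +kernel)
  have hA := key ((List.replicate 5 [1, 2, 3]).flatten ++ [0] ++ (List.replicate 5 [3, 2, 1]).flatten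
    ++ [0]) (by decide +kernel) (by decide +kernel)
  have hB := key ((List.replicate 5 [1, 2, 3]).flatten ++ [1] ++ (List.replicate 5 [3, 2, 1]).flatten
    ++ [1]) (by decide +kernel) (by decide +kernel)
  have hC := key ((List.replicate 5 [1, 2, 3]).flatten ++ [2] ++ (List.replicate 5 [3, 2, 1]).flatten
    ++ [2]) (by decide +kernel) (by decide +kernel)
  simp only [List.map_append, List.map_flatten, List.map_replicate, List.prod_append,
    List.prod_flatten, List.prod_replicate, List.map_cons, List.map_nil, List.prod_cons,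
    List.prod_nil, mul_one] at h3 hA hB hC
  simp [f, List.finRange, ← mul_assoc] at h3 hA hB hC
  rw [hinv, ← hy] at hA hB hC
  refine ⟨by rw [hy, ← pow_mul]; exact h3, ?_, ?_, ?_⟩
  · exact (mul_inv_eq_iff_eq_mul.1 ((mul_eq_one_iff_eq_inv.1 hA).trans (inv_eq_of_mul_eq_one_right ha)))
  · exact (mul_inv_eq_iff_eq_mul.1 ((mul_eq_one_iff_eq_inv.1 hB).trans (inv_eq_of_mul_eq_one_right hb)))
  · exact (mul_inv_eq_iff_eq_mul.1 ((mul_eq_one_iff_eq_inv.1 hC).trans (inv_eq_of_mul_eq_one_right hc)))

theorem collapse : Collapse.{u} := by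
  intro G _ a b c d e ha hb hc hd he hab hbc hcd hde hac had hae hbd hbe hce hacd hlong
  set f : Fin 5 → G := ![a, b, c, d, e] with hfdef
  have hf : ∀ x, f x * f x = 1 := by intro x; fin_cases x <;> assumption
  have hr : ∀ w ∈ relK, (w.map f).prod = 1 := by
    intro w hw
    simp only [relK, List.mem_cons, List.not_mem_nil, or_false] at hw
    rcases hw with rfl | rfl | rfl | rfl | rfl | rfl | rfl | rfl | rfl | rfl | rfl | rfl
    case' inr.inr.inr.inr.inr.inr.inr.inr.inr.inr.inr =>
      rw [List.map_flatten, List.map_replicate, prod_pow_five]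
    all_goals simp only [List.map_cons, List.map_nil, List.prod_cons, List.prod_nil, mul_one, f,
        Matrix.cons_val_zero, Matrix.cons_val_one, Matrix.cons_val]
    · simpa only [pow_succ, pow_zero, one_mul, mul_assoc] using hlong
    · simpa only [pow_succ, pow_zero, one_mul, mul_assoc] using hab
    · simpa only [pow_succ, pow_zero, one_mul, mul_assoc] using hbc
    · simpa only [pow_succ, pow_zero, one_mul, mul_assoc] using hcd
    · simpa only [pow_succ, pow_zero, one_mul, mul_assoc] using hde
    · exact comm_word ha hc hac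
    · exact comm_word ha hd had
    · exact comm_word ha he hae
    · exact comm_word hb hd hbd
    · exact comm_word hb he hbe
    · exact comm_word hc he hce
    · rw [show c * (d * (c * (d * (c * (d * (c * d)))))) = (c * d) ^ 4 by
        simp only [pow_succ, pow_zero, one_mul, mul_assoc], ← hacd, ha]
  have hm := word_mem (sel := List.finRange 5) (known := relK) (subs := []) (d := 0) Coll.valid hf hr
    (by decide +kernel) (by decide +kernel) [0] (by decide +kernel) 524288 (by decide +kernel)
  rw [wordsGroup_nil, Subgroup.mem_bot] at hm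
  simpa [f, List.finRange] using hm

end CfsgLib.Spor.SuzRecog
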