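import Cfsg.Agent.Lib.Spor.SuzRecog.Lifts
import Cfsg.Agent.Lib.Spor.SuzRecog.QuotL34
import Cfsg.Agent.Lib.Spor.SuzRecog.L34Check
import Cfsg.Agent.Lib.Spor.SuzRecog.Orth
import Cfsg.Agent.Lib.Spor.SuzRecog.Gens
import Cfsg.Agent.Lib.Spor.SuzRecog.Small
import Cfsg.Agent.Lib.Small.SuzOrder.Assemble
import Cfsg.Agent.Lib.Small.SuzOrder.Local.Exists
import Cfsg.Agent.Lib.Small.SuzTwo.Main

/-!
A group with the involution centraliser of the Suzuki sporadic group satisfies its presentation.
-/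

set_option autoImplicit false
set_option linter.style.haveILetI false

namespace CfsgLib.Spor.SuzRecog

open Subgroup CfsgLib.Small.SuzOrder CfsgLib.Small.SuzTwo Equiv

universe u

theorem exists_second {G : Type u} [Group G] [Finite G] {z t : G} {L : LocData z t}
    (D : FourData L) : ∃ S : Second z t, S.M = D.M := by
  obtain ⟨K, i1, i2, π, hsurj, hker, hsimple, -, hC, hcard⟩ := D.quot
  let Q : Quo D K := ⟨π, hsurj, hker, hC, hcard⟩
  have exq : ∀ p : ℕ, p.Prime → p ∣ 80640 → ∃ f : G, orderOf f = p ∧ f ∈ D.M := by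
    intro p hp hd
    haveI := Fact.mk hp
    obtain ⟨⟨f, hfM⟩, hf⟩ := exists_prime_orderOf_dvd_card' (G := D.M) p (by rw [D.card_M]; exact hd)
    exact ⟨f, by rw [← hf, ← Subgroup.orderOf_coe], hfM⟩
  exact ⟨{ V := D.V
           M := D.M
           t_mem := D.t_mem
           card_V := D.card_V
           V_sq := D.V_sq
           V_conj := D.V_conj
           card_H := D.card_H
           card_M := D.card_M
           M_eq := D.M_eq
           five := exq 5 (by norm_num) (by norm_num)
           seven := exq 7 (by norm_num) (by norm_num)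
           cent_five := fun _ hf _ hv hv1 hfM _ h1 h2 =>
             Odd.cent D Q (Or.inl rfl) hf hfM hv hv1 h1 h2
           aut_five := fun _ hf hfM => Odd.aut_five D Q hf hfM
           cent_seven := fun _ hf _ hv hv1 hfM _ h1 h2 =>
             Odd.cent D Q (Or.inr rfl) hf hfM hv hv1 h1 h2
           aut_seven := fun _ hf hfM => Odd.aut_seven D Q hf hfM
           pairs_t := Odd.pairs_t D Q }, rfl⟩

variable {G : Type u} [Group G] [Finite G]

/-- The generators from the local configuration. -/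
theorem exists_gens {z t : G} {L : LocData z t} {D : FourData L} {r v w x d P1 P2 H : G}
    (C : FiveCfg D r v w x d) (Lf : LiftCfg z v w x d P1 P2 H) :
    ∃ a b c d' e f g : G, Gens a b c d' e f g := by
  classical
  have hzz : z * z = 1 := by rw [← pow_two, ← L.ord_z, pow_orderOf_eq_one]
  have hz1 : z ≠ 1 := fun h => by have := L.ord_z; rw [h, orderOf_one] at this; omega
  have hzM : z ∈ D.M := (D.z_conj z (IsConj.refl z) L.comm).1
  have hzV : ∀ u ∈ D.V, z * u = u * z := fun u hu => (D.M_eq z).1 hzM u hu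
  have hrV : ∀ u ∈ D.V, r * u = u * r := fun u hu => (D.M_eq r).1 C.r_mem u hu
  -- the centraliser of `⟨v, w, x⟩`
  let LL : Subgroup G := centralizer ({v, w, x} : Set G)
  have hmemLL : ∀ a : G, a ∈ LL ↔ v * a = a * v ∧ w * a = a * w ∧ x * a = a * x := fun a => by
    simp [LL, mem_centralizer_iff]
  have hLM : LL ≤ D.M := fun a ha => by
    obtain ⟨h1, h2, -⟩ := (hmemLL a).1 ha
    refine (D.M_eq a).2 fun u hu => ?_
    rcases C.V_cover u hu with rfl | rfl | rfl | rfl
    · simp
    · exact h1.symm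
    · exact h2.symm
    · rw [← mul_assoc, ← h1, mul_assoc, ← h2, mul_assoc]
  have hVtriv : ∀ u ∈ D.V, u ∈ LL → u = 1 := by
    intro u hu huL
    obtain ⟨-, -, h3⟩ := (hmemLL u).1 huL
    have h3' : x * u * x⁻¹ = u := mul_inv_eq_iff_eq_mul.2 h3
    rcases C.V_cover u hu with e | e | e | e
    · exact e
    · exfalso
      rw [e, C.xv] at h3'
      exact C.wv_ne h3'
    · exfalso
      rw [e, C.xw] at h3'
      exact C.v_ne (mul_eq_right.1 h3')
    · exfalso
      rw [e, show x * (v * w) * x⁻¹ = x * v * x⁻¹ * (x * w * x⁻¹) by group, C.xv, C.xw] at h3'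
      have hvw : v * w = w * v := (D.M_eq v).1 (Odd.V_le_M D C.v_mem) w C.w_mem
      rw [← mul_assoc, ← hvw, mul_assoc, D.V_sq w C.w_mem, mul_one] at h3'
      exact C.w_ne (mul_eq_left.1 h3'.symm)
  have mz : z ∈ LL := (hmemLL z).2
    ⟨(hzV v C.v_mem).symm, (hzV w C.w_mem).symm, C.xz⟩
  have mr : r ∈ LL := (hmemLL r).2 ⟨(hrV v C.v_mem).symm, (hrV w C.w_mem).symm, C.xr⟩
  have mp : P1 ∈ LL := (hmemLL P1).2 ⟨Lf.pv.symm, Lf.pw.symm, Lf.px.symm⟩
  have mq : P2 ∈ LL := (hmemLL P2).2 ⟨Lf.qv.symm, Lf.qw.symm, Lf.qx.symm⟩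
  have mh : H ∈ LL := (hmemLL H).2 ⟨Lf.hv.symm, Lf.hw.symm, Lf.hx.symm⟩
  obtain ⟨K, i1, i2, π, hsurj, hker, hsimple, hnab, hcit, hcard⟩ := D.quot
  haveI := hsimple
  have hK : IsL34 K := isL34_of_cit hnab hcit hcard
  let ψ : LL →* K := π.comp (inclusion hLM)
  have hinj : Function.Injective ψ := by
    rw [injective_iff_map_eq_one]
    intro a ha
    exact Subtype.ext (hVtriv _ ((hker _).1 ha) a.2)
  set zL : LL := ⟨z, mz⟩ with hzL
  set rL : LL := ⟨r, mr⟩ with hrL
  set pL : LL := ⟨P1, mp⟩ with hpL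
  set qL : LL := ⟨P2, mq⟩ with hqL
  set cL : LL := ⟨H, mh⟩ with hcL
  have hne : ∀ {a b : LL}, (a : G) ≠ b → ψ a ≠ ψ b := fun h e => h (congrArg Subtype.val (hinj e))
  have r5 : r ^ 5 = 1 := C.r_ord ▸ pow_orderOf_eq_one r
  have hr1 : r ≠ 1 := fun h => by have := C.r_ord; rw [h, orderOf_one] at this; omega
  have hconf : LConf (ψ zL) (ψ pL) (ψ qL) (ψ cL) (ψ rL) := by
    have m2 : ∀ {a b c : LL}, (a : G) * b = c → ψ a * ψ b = ψ c := fun h => by
      rw [← map_mul]; exact congrArg ψ (Subtype.ext h)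
    have s1 : ∀ {a : LL}, (a : G) * a = 1 → ψ a * ψ a = 1 := fun h => by
      rw [m2 (c := 1) h, map_one]
    have cm : ∀ {a b : LL}, (a : G) * b = b * a → ψ a * ψ b = ψ b * ψ a := fun h => by
      rw [← map_mul, ← map_mul]; exact congrArg ψ (Subtype.ext h)
    exact ⟨s1 hzz, map_one ψ ▸ hne (a := zL) (b := 1) hz1, s1 Lf.p_sq, s1 Lf.q_sq, s1 Lf.h_sq,
      map_one ψ ▸ hne (a := cL) (b := 1) Lf.h_ne, hne (a := cL) (b := zL) Lf.h_ne_z, cm Lf.zp,
      cm Lf.zq, cm Lf.zh, cm Lf.ph, cm Lf.qh,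
      (by rw [← map_mul, ← map_pow]; exact congrArg ψ (Subtype.ext Lf.pq)),
      (by rw [← map_pow, show rL ^ 5 = 1 from Subtype.ext r5, map_one]),
      map_one ψ ▸ hne (a := rL) (b := 1) hr1,
      (by rw [← map_mul, ← map_mul, ← map_inv]; exact congrArg ψ (Subtype.ext C.zr))⟩
  obtain ⟨-, hor⟩ := l34Facts K hK _ _ _ _ _ hconf
  have hback : ∀ (s : Set LL) (a : K), a ∈ Subgroup.closure (ψ '' s) →
      ∃ a' ∈ Subgroup.closure s, ψ a' = a := fun s a ha => by
    rw [← MonoidHom.map_closure] at ha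
    exact ha
  -- `d` centralises `z, r, P1, P2`
  have hdd : ∀ a ∈ Subgroup.closure ({zL, rL, pL, qL} : Set LL), (a : G) * d = d * a := by
    intro a ha
    have hle : Subgroup.closure ({zL, rL, pL, qL} : Set LL) ≤
        (centralizer ({d} : Set G)).subgroupOf LL := by
      rw [closure_le]
      rintro u (rfl | rfl | rfl | rfl) <;> refine mem_centralizer_singleton_iff.2 ?_
      exacts [C.dz.symm, C.dr.symm, Lf.pd, Lf.qd]
    exact mem_centralizer_singleton_iff.1 (hle ha)
  have hcd : ∀ c : G, c * c = 1 → (c * (d * c * d)) ^ 2 = z → (c * d) ^ 4 = z := fun c hc h => by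
    rw [← h, show (4 : ℕ) = 2 * 2 by rfl, pow_mul]
    congr 1
    rw [pow_two]
    group
  rcases hor with hmem | ⟨b, f', g', c', hb, hf', hg', hc', hb2, hf2, hg2, hfg, hzb, hbc, hbf, hbg,
    h1, h2⟩
  · exfalso
    obtain ⟨a, ha, hae⟩ := hback {zL, rL, pL, qL} (ψ cL) (by
      simpa [Set.image_insert_eq, Set.image_singleton] using hmem)
    have hHd : H * d = d * H := by
      have := hdd a ha
      rwa [hinj hae] at this
    have h2 := Lf.hd
    rw [show d * H * d = H by rw [← hHd, mul_assoc, C.d_sq, mul_one], Lf.h_sq, one_pow] at h2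
    exact hz1 h2.symm
  obtain ⟨bL, hbL, rfl⟩ := hback {zL, rL} b (by
    simpa [Set.image_insert_eq, Set.image_singleton] using hb)
  obtain ⟨fL, hfL, rfl⟩ := hback {zL, pL, qL} f' (by
    simpa [Set.image_insert_eq, Set.image_singleton] using hf')
  obtain ⟨gL, hgL, rfl⟩ := hback {zL, pL, qL} g' (by
    simpa [Set.image_insert_eq, Set.image_singleton] using hg')
  obtain ⟨eL, heL, hce⟩ : ∃ eL : LL, (eL = cL ∨ eL = cL * zL) ∧ ψ eL = c' := by
    rcases hc' with e | e
    · exact ⟨cL, Or.inl rfl, e.symm⟩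
    · exact ⟨cL * zL, Or.inr rfl, by rw [map_mul, e]⟩
  subst hce
  have tr : ∀ {a : LL} {n : ℕ}, ψ a ^ n = 1 → (a : G) ^ n = 1 := fun {a n} h => by
    rw [← map_pow, ← map_one ψ] at h
    exact congrArg Subtype.val (hinj h)
  have tr2 : ∀ {a : LL}, ψ a * ψ a = 1 → (a : G) * a = 1 := fun {a} h => by
    rw [← map_mul, ← map_one ψ] at h
    exact congrArg Subtype.val (hinj h)
  set B : G := (bL : G) with hB
  set F : G := (fL : G) with hF
  set E : G := (eL : G) with hE
  set Gg : G := (gL : G) with hGg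
  have hB2 : B * B = 1 := tr2 hb2
  have hzB : (z * B) ^ 5 = 1 := tr (a := zL * bL) (by rw [map_mul]; exact hzb)
  have hBC : (B * E) ^ 3 = 1 := tr (a := bL * eL) (by rw [map_mul]; exact hbc)
  have hBF : (B * F) ^ 3 = 1 := tr (a := bL * fL) (by rw [map_mul]; exact hbf)
  have hBG : (B * Gg) ^ 3 = 1 := tr (a := bL * gL) (by rw [map_mul]; exact hbg)
  have hP1' : (z * B * E * F) ^ 5 = 1 :=
    tr (a := zL * bL * eL * fL) (by rw [map_mul, map_mul, map_mul]; exact h1)
  have hP2' : (B * F * Gg) ^ 5 = 1 := tr (a := bL * fL * gL) (by rw [map_mul, map_mul]; exact h2)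
  have hFG : (F * Gg) ^ 2 = z := by
    rw [← map_mul, ← map_pow] at hfg
    exact congrArg Subtype.val (hinj hfg)
  have inL : ∀ a : LL, (a : G) * v = v * a ∧ (a : G) * x = x * a := fun a =>
    ⟨((hmemLL a).1 a.2).1.symm, ((hmemLL a).1 a.2).2.2.symm⟩
  have hd_small : ∀ a ∈ Subgroup.closure ({zL, pL, qL} : Set LL), (a : G) * d = d * a ∧
      (a : G) * z = z * a ∧ (a : G) * H = H * a := by
    intro a ha
    have hle : Subgroup.closure ({zL, pL, qL} : Set LL) ≤
        (centralizer ({d, z, H} : Set G)).subgroupOf LL := by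
      rw [closure_le]
      rintro u (rfl | rfl | rfl) <;> refine mem_centralizer_iff.2 ?_ <;>
        rintro _ (rfl | rfl | rfl)
      exacts [C.dz, rfl, Lf.zh.symm, Lf.pd.symm, Lf.zp, Lf.ph.symm, Lf.qd.symm, Lf.zq, Lf.qh.symm]
    have h := mem_centralizer_iff.1 (hle ha)
    exact ⟨(h d (by simp)).symm, (h z (by simp)).symm, (h H (by simp)).symm⟩
  have hEcases : E = H ∨ E = H * z := by
    rcases heL with e | e
    · exact Or.inl (by rw [hE, e])
    · exact Or.inr (by rw [hE, e]; rfl)
  have hEz : z * E = E * z := by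
    rcases hEcases with e | e <;> rw [e]
    · exact Lf.zh
    · rw [← mul_assoc, Lf.zh]
  have hE2 : E * E = 1 := by
    rcases hEcases with e | e <;> rw [e]
    · exact Lf.h_sq
    · rw [show H * z * (H * z) = H * (z * H) * z by group, Lf.zh,
        show H * (H * z) * z = (H * H) * (z * z) by group, Lf.h_sq, hzz, mul_one]
  have hEd2 : (E * (d * E * d)) ^ 2 = z := by
    rcases hEcases with e | e
    · rw [e]; exact Lf.hd
    · rw [e]
      have hzd : z * d = d * z := C.dz.symm
      have : H * z * (d * (H * z) * d) = H * (d * H * d) := by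
        calc H * z * (d * (H * z) * d) = H * (z * d) * (H * (z * d)) := by group
          _ = H * (d * z) * (H * (d * z)) := by rw [hzd]
          _ = H * d * (z * H) * d * z := by group
          _ = H * d * (H * z) * d * z := by rw [Lf.zh]
          _ = H * d * H * (z * d) * z := by group
          _ = H * d * H * (d * z) * z := by rw [hzd]
          _ = H * (d * H * d) * (z * z) := by group
          _ = _ := by rw [hzz, mul_one]
      rw [this]; exact Lf.hd
  have hEd : (E * d) ^ 4 = z := hcd E hE2 hEd2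
  -- `b` is a product of `z` and a nontrivial power of `r`
  have hbd : B * d = d * B := hdd bL ((Subgroup.closure_mono (by
    intro u; simp only [Set.mem_insert_iff, Set.mem_singleton_iff]; tauto)) hbL)
  have hbform : ∀ a ∈ Subgroup.closure ({zL, rL} : Set LL),
      ∃ k : ℕ, (a : G) = r ^ k ∨ (a : G) = r ^ k * z := by
    have hsmul : ∀ k : ℕ, z * r ^ k = (r ^ k)⁻¹ * z := fun k => by
      have e : (z * r * z⁻¹) ^ k = z * r ^ k * z⁻¹ := conj_pow
      rw [inv_eq_of_mul_eq_one_right hzz, C.zr, inv_pow] at e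
      rw [e, mul_assoc, hzz, mul_one]
    have hinvr : ∀ k : ℕ, (r ^ k)⁻¹ = r ^ (4 * k) := fun k =>
      inv_eq_of_mul_eq_one_right (by
        rw [← pow_add, show k + 4 * k = 5 * k by ring, pow_mul, r5, one_pow])
    intro a ha
    induction ha using Subgroup.closure_induction with
    | mem u hu =>
      rcases hu with rfl | rfl
      · exact ⟨0, Or.inr (by simp [hzL])⟩
      · exact ⟨1, Or.inl (by simp [hrL])⟩
    | one => exact ⟨0, Or.inl (by simp)⟩
    | mul u u' _ _ hu hu' =>
      obtain ⟨k, hk⟩ := hu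
      obtain ⟨k', hk'⟩ := hu'
      rcases hk with hk | hk <;> rcases hk' with hk' | hk' <;>
        simp only [Subgroup.coe_mul, hk, hk']
      · exact ⟨k + k', Or.inl (by rw [pow_add])⟩
      · exact ⟨k + k', Or.inr (by rw [pow_add, mul_assoc])⟩
      · exact ⟨k + 4 * k', Or.inr (by
          rw [mul_assoc, hsmul, hinvr, ← mul_assoc, pow_add])⟩
      · exact ⟨k + 4 * k', Or.inl (by
          rw [mul_assoc (r ^ k), ← mul_assoc z, hsmul, hinvr, mul_assoc (r ^ (4 * k')), hzz,
            mul_one, pow_add])⟩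
    | inv u _ hu =>
      obtain ⟨k, hk⟩ := hu
      rcases hk with hk | hk <;> simp only [Subgroup.coe_inv, hk]
      · exact ⟨4 * k, Or.inl (hinvr k)⟩
      · refine ⟨k, Or.inr ?_⟩
        rw [mul_inv_rev, inv_eq_of_mul_eq_one_right hzz, hinvr, hsmul, hinvr,
          show 4 * (4 * k) = 5 * (3 * k) + k by ring, pow_add, pow_mul r 5, r5, one_pow, one_mul]
  -- the long relation
  have hy : ((B * E * d * E * d) ^ 5 * v) ^ 3 = 1 := by
    set c'' := d * E * d with hc''
    have hc2 : c'' * c'' = 1 := by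
      rw [hc'', show d * E * d * (d * E * d) = d * (E * (d * d) * E) * d by group, C.d_sq, mul_one,
        hE2, mul_one, C.d_sq]
    have hBc : (B * c'') ^ 3 = 1 := by
      have e : B * c'' = d * (B * E) * d⁻¹ := by
        rw [inv_eq_of_mul_eq_one_right C.d_sq, hc'', ← mul_assoc, ← mul_assoc, hbd]
        group
      rw [e, conj_pow, hBC, mul_one, mul_inv_cancel]
    have hzc : z * c'' = c'' * z := by
      rw [hc'', ← mul_assoc, ← mul_assoc, ← C.dz, mul_assoc d z E, hEz, mul_assoc, mul_assoc d,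
        mul_assoc E z d, ← C.dz]
      group
    obtain ⟨y3, yz, yb, yc⟩ := threeA6 G z B E c'' hzz hB2 hE2 hc2 hzB hBC hBc hEz hzc hEd2.symm
    rw [show B * E * d * E * d = B * E * c'' by rw [hc'']; group]
    set y := (B * E * c'') ^ 5 with hydef
    have hyne : y ≠ 1 := by
      intro h
      refine hz1 (collapse G z B E d v hzz hB2 hE2 C.d_sq (D.V_sq v C.v_mem) hzB hBC ?_ C.dv hEz
        C.dz.symm (hzV v C.v_mem) hbd (inL bL).1 (inL eL).1 hEd.symm ?_)
      · rw [show (8 : ℕ) = 4 * 2 by rfl, pow_mul, hEd, pow_two, hzz]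
      · rw [show B * E * d * E * d = B * E * c'' by rw [hc'']; group]; exact h
    obtain ⟨k, hk⟩ := hbform bL hbL
    rw [← hB] at hk
    have hyr : y * r = r * y := by
      rcases hk with hk | hk
      · exfalso
        have hk5 : B ^ 5 = 1 := by rw [hk, ← pow_mul, mul_comm, pow_mul, r5, one_pow]
        have hb1 : B = 1 := by
          rw [show (5 : ℕ) = 2 * 2 + 1 by rfl, pow_succ, pow_mul, pow_two B, hB2, one_pow,
            one_mul] at hk5
          exact hk5
        rw [hb1, mul_one, pow_succ, show z ^ 4 = (z * z) ^ 2 by rw [← pow_two, ← pow_mul], hzz,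
          one_pow, one_mul] at hzB
        exact hz1 hzB
      · have hk1 : r ^ k ≠ 1 := by
          intro e
          rw [e, one_mul] at hk
          have : (z * E) ^ 3 = 1 := by rw [← hk]; exact hBC
          rw [pow_succ, pow_two, show z * E * (z * E) = z * (E * z) * E by group, ← hEz,
            show z * (z * E) * E = (z * z) * (E * E) by group, hzz, hE2, one_mul, one_mul] at this
          have hEeq : E = z := by
            calc E = z * z * E := by rw [hzz, one_mul]
              _ = z := by rw [mul_assoc, this, mul_one]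
          have hbad := hEd
          rw [hEeq, (show Commute z d from C.dz.symm).mul_pow,
            show z ^ 4 = (z * z) ^ 2 by rw [← pow_two, ← pow_mul], hzz, one_pow, one_mul,
            show d ^ 4 = (d * d) ^ 2 by rw [← pow_two, ← pow_mul], C.d_sq, one_pow] at hbad
          exact hz1 hbad.symm
        have hco : Commute y (r ^ k) := by
          have hrk : r ^ k = B * z := by rw [hk, mul_assoc, hzz, mul_one]
          rw [hrk]
          exact (show Commute y B from yb).mul_right yz
        haveI : Fact (Nat.Prime 5) := ⟨by norm_num⟩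
        have hk0 : ¬ 5 ∣ k := fun ⟨j, hj⟩ => hk1 (by rw [hj, pow_mul, r5, one_pow])
        obtain ⟨j, hj⟩ : ∃ j, (r ^ k) ^ j = r := by
          have hcop : Nat.Coprime (orderOf r) k := by
            rw [C.r_ord]; exact (Nat.Prime.coprime_iff_not_dvd (by norm_num)).2 hk0
          exact exists_pow_eq_self_of_coprime hcop.symm
        rw [← hj]
        exact (hco.pow_right j).eq
    rcases C.dich y y3 hyne hyr with h | h
    · exact h
    · exfalso
      have hEdc : E * d = d * E := h E (inL eL).1 (inL eL).2 yc.symm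
      have hbad := hEd2
      rw [hc'', show d * E * d = E by rw [← hEdc, mul_assoc, C.d_sq, mul_one], hE2, one_pow] at hbad
      exact hz1 hbad.symm
  refine ⟨z, B, E, d, v, F, Gg, ⟨hzz, hB2, hE2, C.d_sq, D.V_sq v C.v_mem, tr2 hf2, tr2 hg2, hzB,
    hBC, by rw [show (8 : ℕ) = 4 * 2 by rfl, pow_mul, hEd, pow_two, hzz], C.dv, hBF,
    by rw [show (4 : ℕ) = 2 * 2 by rfl, pow_mul, hFG, pow_two, hzz], hBG, hEz, C.dz.symm,
    hzV v C.v_mem, (hd_small fL hfL).2.1.symm, (hd_small gL hgL).2.1.symm, hbd, (inL bL).1,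
    (inL eL).1, ?_, ?_, (hd_small fL hfL).1.symm, (hd_small gL hgL).1.symm, (inL fL).1.symm,
    (inL gL).1.symm, hEd.symm, hFG.symm, hP1', hP2', hy, hz1⟩⟩
  · rcases hEcases with e | e <;> rw [e]
    · exact (hd_small fL hfL).2.2.symm
    · rw [mul_assoc, ← (hd_small fL hfL).2.1, ← mul_assoc, ← (hd_small fL hfL).2.2, mul_assoc]
  · rcases hEcases with e | e <;> rw [e]
    · exact (hd_small gL hgL).2.2.symm
    · rw [mul_assoc, ← (hd_small gL hgL).2.1, ← mul_assoc, ← (hd_small gL hgL).2.2, mul_assoc]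

/-- A finite group with the centraliser of an involution of the Suzuki sporadic group is that
group. -/
theorem isoSuz_of_model {z : G} {Q : Subgroup G} {f : G → Fin 64}
    {ρ : Cz z →* Perm (Fin 64)} (M : Model z Q f ρ) : Cfsg.Spor.IsoSuz G := by
  classical
  obtain ⟨t, ht, ⟨D0⟩⟩ := exists_local_data M
  obtain ⟨D⟩ := fourData D0
  obtain ⟨L', ⟨S'⟩⟩ := exists_data_of_local M ht D0
  obtain ⟨S, hSM⟩ := exists_second D
  obtain ⟨r, v, w, x, d, C⟩ := exists_cfg D L' S hSM
  have ht2 : t * t = 1 := by rw [← pow_two, ← D0.ord_t, pow_orderOf_eq_one]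
  obtain ⟨P1, P2, H, Lf⟩ := exists_lift M D C orthFacts (fun q hq hc => by
    obtain ⟨g, hg⟩ := isConj_iff.1 hc
    have hq2 : q * q = 1 := by rw [← hg]; exact conj_sq_one g ht2
    have hq1 : q ≠ 1 := fun e => by
      rw [e, conj_eq_one_iff] at hg
      have := D0.ord_t; rw [hg, orderOf_one] at this; omega
    refine D0.not_conj ?_
    by_cases hqz : q = z
    · exact (hqz ▸ hc).symm
    · obtain ⟨k, hk⟩ := M.nc_conj_z ⟨hq, hq2, hq1, hqz⟩
      exact (isConj_iff.2 ⟨k, hk⟩).trans hc.symm)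
  obtain ⟨a, b, c, d', e, f', g', hG⟩ := exists_gens C Lf
  exact isoOfGens G (card_eq L' S') a b c d' e f' g' hG

end CfsgLib.Spor.SuzRecog
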